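import Cfsg.Agent.Lib.Blocks.SQ.Data
import Cfsg.Agent.Lib.Blocks.DihedralDefect
import Cfsg.Agent.Lib.Blocks.QuotientDefect

/-!
# Quaternion and semidihedral blocks of a group whose centre contains the central involution
-/

set_option autoImplicit false
set_option linter.unusedSectionVars false
set_option linter.style.haveILetI false

namespace CfsgLib.Blocks

open Cfsg Chars BlockOrth Finset
open scoped ComplexConjugate

universe u

variable {G : Type u} [Group G] [Fintype G] {M : Ideal AlgInt} [M.IsPrime] [Fact (Nat.Prime 2)]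
  {B : Set (IrrCharacter G)} {P : Subgroup G}
  {e : Set (IrrCharacter (Subgroup.centralizer (P : Set G)))}

/-- When `z` is central the outside subsections and the rank add up to three. -/
theorem outCount_add_rank_central (hM : IsPModular 2 M) (hmax : IsMaximalBrauerPair 2 M B P e)
    (q : SQP P) (hzZ : q.z ∈ Subgroup.center G) : outCount M e q + blockRank 2 B = 3 := by
  classical
  haveI := irrFintype G
  haveI := fun S : Subgroup G => Fintype.ofFinite S
  haveI := fun S : Subgroup G => irrFintype S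
  have hpM : ((2 : ℕ) : AlgInt) ∈ M := hM.2.2
  have hB : IsPBlock M B := hmax.1.2.1
  have hc : IsBrauerPair 2 M P e := hmax.1.1
  set s := univ.filter (· ∈ B) with hs_def
  have hs : ∀ χ, χ ∈ s ↔ χ ∈ B := fun χ => by simp [hs_def]
  obtain ⟨bz, hbz⟩ := exists_pairBelow_eq (M := M) (p := 2) (⟨P, e⟩ : BrauerPairIdx G) q.z
  have hbzB : IsBrauerPairOf 2 M B (Subgroup.zpowers q.z) bz :=
    (isBrauerPairOf_iff_of_below hpM
      (hbz ▸ pairBelow_below (c := (⟨P, e⟩ : BrauerPairIdx G)) hpM hc q.z_mem) B).2 hmax.1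
  obtain ⟨d⟩ := exists_sqData hM hmax q hbz s hs
  set ω : IrrCharacter G → ℂ := fun χ => centralScalar (χ : G → ℂ) q.z with hω
  have hω1 : ∀ χ, ω χ = 1 ∨ ω χ = -1 := fun χ =>
    sq_eq_one_iff.1 (centralScalar_pow_eq_one χ hzZ (by rw [sq]; exact q.z_sq))
  have hωc : ∀ χ, conj (ω χ) = ω χ := fun χ => by rcases hω1 χ with e | e <;> simp [e]
  have hωω : ∀ χ, ω χ * ω χ = 1 := fun χ => by rcases hω1 χ with e | e <;> simp [e]
  have hCA : ∀ χ ∈ s, ∀ ψ ∈ s, (d.C χ ψ : ℂ) = ω χ * ω ψ * (d.A χ ψ : ℂ) := by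
    intro χ hχ ψ hψ
    rw [d.C_spec, d.A_spec χ hχ ψ hψ, secInner_central hpM hmax hzZ ⟨1, by rw [pow_one, sq]; exact q.z_sq⟩
      hbzB ((hs χ).1 hχ) ((hs ψ).1 hψ)]
    show _ * (ω χ * conj (ω ψ) * _) = _
    rw [hωc]
    ring
  have hdiagCA : ∀ χ ∈ s, d.C χ χ = d.A χ χ := fun χ hχ => by
    have h := hCA χ hχ χ hχ
    rw [hωω, one_mul] at h
    exact_mod_cast h
  have hH0 : (4 * q.H : ℤ) ≠ 0 := by have := q.two_le_H; omega
  have hlz : blockRank 2 bz = blockRank 2 B := by
    have h1 := d.traceC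
    rw [Finset.sum_congr rfl hdiagCA, d.traceA] at h1
    exact_mod_cast (mul_left_cancel₀ hH0 h1).symm
  -- a character of height zero trivial on `z`
  haveI hzN : (Subgroup.zpowers q.z).Normal := by
    refine ⟨fun a ha g => ?_⟩
    obtain ⟨k, rfl⟩ := ha
    rw [Subgroup.mem_center_iff.1 (zpow_mem hzZ k) g, mul_inv_cancel_right]
    exact zpow_mem (Subgroup.mem_zpowers _) k
  haveI : Fintype (G ⧸ Subgroup.zpowers q.z) := Fintype.ofFinite _
  haveI := irrFintype (G ⧸ Subgroup.zpowers q.z)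
  have hzp : IsPGroup 2 (Subgroup.zpowers q.z) :=
    IsPGroup.of_card (n := 1) (by rw [Nat.card_zpowers, q.orderOf_z, pow_one])
  obtain ⟨Bb, hBb, hBbsub, hBbD⟩ := exists_quotient_block (Subgroup.zpowers q.z) hpM hzp hB
  set Db := P.map (QuotientGroup.mk' (Subgroup.zpowers q.z)) with hDb_def
  have hDb : IsDefectGroup 2 M Bb Db :=
    (hBbD Db).2 ⟨P, isDefectGroup_of_maximal hpM hmax, rfl⟩
  have hcardDb : 2 * Nat.card Db = Nat.card P := by
    have h1 := Subgroup.relIndex_ker (K := P) (QuotientGroup.mk' (Subgroup.zpowers q.z))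
    rw [QuotientGroup.ker_mk'] at h1
    rw [hDb_def, ← h1, Subgroup.relIndex,
      ← Subgroup.card_mul_index ((Subgroup.zpowers q.z).subgroupOf P),
      Nat.card_congr (Subgroup.subgroupOfEquivOfLe (Subgroup.zpowers_le.2 q.z_mem)).toEquiv,
      Nat.card_zpowers, q.orderOf_z]
  have hdB : blockDefect 2 B = q.n := by
    have h1 := card_defectGroup hpM hB (isDefectGroup_of_maximal hpM hmax)
    rw [q.card_eq] at h1
    exact (Nat.pow_right_injective le_rfl h1).symm
  have hdBb : blockDefect 2 Bb + 1 = q.n := by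
    have h1 := card_defectGroup hpM hBb hDb
    rw [h1, q.card_eq, ← pow_succ'] at hcardDb
    exact Nat.pow_right_injective le_rfl hcardDb
  have hinfl_deg : ∀ η : IrrCharacter (G ⧸ Subgroup.zpowers q.z),
      charDegree ((inflIrr _ η : IrrCharacter G) : G → ℂ) = charDegree (η : G ⧸ Subgroup.zpowers q.z → ℂ) := fun η => by
    apply Nat.cast_injective (R := ℂ)
    rw [← irr_apply_one, ← irr_apply_one]
    rfl
  have hinfl_ω : ∀ η, ω (inflIrr (Subgroup.zpowers q.z) η) = 1 := fun η => by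
    show (η : G ⧸ Subgroup.zpowers q.z → ℂ) (QuotientGroup.mk q.z) / (η : G ⧸ Subgroup.zpowers q.z → ℂ) (QuotientGroup.mk 1) = 1
    rw [(QuotientGroup.eq_one_iff q.z).2 (Subgroup.mem_zpowers _), QuotientGroup.mk_one,
      div_self (irr_degree_ne_zero η.2)]
  obtain ⟨ψ₀, hψs, hψ0, hψω⟩ : ∃ ψ ∈ s, blockHeight 2 B (ψ : G → ℂ) = 0 ∧ ω ψ = 1 := by
    obtain ⟨η, hη, hη0⟩ := exists_blockHeight_eq_zero (p := 2) hBb
    refine ⟨inflIrr _ η, (hs _).2 (hBbsub η hη), ?_, hinfl_ω η⟩
    have h2 := (blockHeight_eq_zero_iff hη).1 hη0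
    have h3 := blockMin_add_blockDefect (p := 2) (IsPBlock.nonempty hBb)
    have h4 := blockMin_add_blockDefect (p := 2) (IsPBlock.nonempty hB)
    have h5 : (Nat.card G).factorization 2 =
        (Nat.card (G ⧸ Subgroup.zpowers q.z)).factorization 2 + 1 := by
      rw [Subgroup.card_eq_card_quotient_mul_card_subgroup (Subgroup.zpowers q.z),
        Nat.card_zpowers, q.orderOf_z, Nat.factorization_mul Nat.card_pos.ne' two_ne_zero,
        Finsupp.add_apply, Nat.Prime.factorization_self Nat.prime_two]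
    refine (blockHeight_eq_zero_iff (hBbsub η hη)).2 ?_
    show (charDegree _).factorization 2 = _
    rw [hinfl_deg]
    have h6 : (charDegree (η : G ⧸ Subgroup.zpowers q.z → ℂ)).factorization 2 = blockMin 2 Bb := h2
    omega
  have hwψ : d.cols.rows.w ψ₀ ≠ 0 := (d.height_zero ψ₀ hψs).1 hψ0
  obtain ⟨c, hc1, hshift⟩ := d.cols.shift_central hzZ
  have hshift' : ∀ χ : IrrCharacter G, ∀ l ∈ q.setup.free,
      d.cols.f χ (l + (q.setup.H : ZMod q.setup.N)) = ω χ * d.cols.f χ l := by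
    rcases hc1 with rfl | rfl
    · intro χ l hl
      rw [hshift χ l hl, one_mul]
    · exfalso
      refine hwψ ((d.cols.rows.shift ψ₀ hψs (-1) fun l hl => ?_).2 rfl).1
      rw [hshift ψ₀ l hl]
      show -1 * ω ψ₀ * _ = _
      rw [hψω, mul_one]
  have hfaith : ∀ χ ∈ s, ω χ = -1 → d.cols.rows.w χ = 0 ∧ χ ∉ d.cols.rows.Ev := fun χ hχ he =>
    (d.cols.rows.shift χ hχ (ω χ) (hshift' χ)).2 he
  have hOdω : ∀ χ ∈ d.cols.rows.Od, ω χ = -1 := fun χ hχ =>
    (hω1 χ).resolve_left fun he =>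
      (d.cols.rows.shift χ (d.cols.rows.Od_sub hχ) (ω χ) (hshift' χ)).1 he hχ
  -- the three kinds of characters
  set Od := d.cols.rows.Od with hOd_def
  set Ev := d.cols.rows.Ev with hEv_def
  set W := s.filter fun χ => d.cols.rows.w χ ≠ 0 with hW_def
  set F := s.filter (fun χ => ω χ = -1) with hF_def
  set X := F \ Od with hX_def
  have hOdF : Od ⊆ F := fun χ hχ => mem_filter.2 ⟨d.cols.rows.Od_sub hχ, hOdω χ hχ⟩
  have hXvan : ∀ χ ∈ X, d.A χ χ = 2 * q.H := fun χ hχ => by
    obtain ⟨h1, h2⟩ := mem_sdiff.1 hχ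
    obtain ⟨h3, h4⟩ := mem_filter.1 h1
    obtain ⟨h5, h6⟩ := hfaith χ h3 h4
    exact (d.vanish χ h3 h5 h6 h2).1
  have hOd4 : ∀ χ ∈ Od, d.A χ χ = 4 := fun χ hχ => by
    have hχs := d.cols.rows.Od_sub hχ
    obtain ⟨h5, h6⟩ := hfaith χ hχs (hOdω χ hχ)
    have h1 := d.diag χ hχs h5
    rw [d.cols.rows.Od_norm χ hχ h5 h6, hdiagCA χ hχs] at h1
    have h2 : ((d.A χ χ : ℤ) : ℂ) = ((4 : ℤ) : ℂ) := by
      push_cast at h1 ⊢
      have hH : (q.setup.H : ℂ) = (q.H : ℂ) := rfl
      rw [hH] at h1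
      linear_combination h1 / 2
    exact_mod_cast h2
  have hnonfaith : ∀ χ ∈ s, ω χ = 1 → χ ∈ W ∪ Ev := fun χ hχ he => by
    rw [mem_union]
    by_contra hno
    rw [not_or] at hno
    have hw : d.cols.rows.w χ = 0 := not_not.1 fun h => hno.1 (mem_filter.2 ⟨hχ, h⟩)
    have hOdχ : χ ∉ Od := fun h => by rw [hOdω χ h] at he; norm_num at he
    obtain ⟨-, -, -, h4⟩ := d.vanish χ hχ hw hno.2 hOdχ
    obtain ⟨h5, h6⟩ := h4 ψ₀ hψs hwψ
    have h7 := hCA χ hχ ψ₀ hψs
    rw [he, hψω, one_mul, one_mul] at h7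
    have h8 : d.C χ ψ₀ = d.A χ ψ₀ := by exact_mod_cast h7
    rw [h6] at h8
    have h9 : d.A χ ψ₀ = 0 := by omega
    rw [h9, abs_zero] at h5
    have := q.two_le_H
    omega
  -- the sum over the faithful characters
  have hsumF : 2 * ∑ χ ∈ F, d.A χ χ = 4 * q.H * blockRank 2 B := by
    have h1 := sum_scalar_mul_regular (n := 1) hpM hB hzZ (by rw [pow_one, sq]; exact q.z_sq)
      q.z_ne_one
    have h2 : ∑ χ ∈ s, ω χ * (d.A χ χ : ℂ) = 0 := by
      rw [Finset.sum_congr rfl fun χ hχ => by rw [d.A_spec χ hχ χ hχ, mul_left_comm],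
        ← Finset.mul_sum, show s = univ.filter (· ∈ B) from hs_def, h1, mul_zero]
    rw [← Finset.sum_filter_add_sum_filter_not s (fun χ => ω χ = -1), ← hF_def] at h2
    have h3 := congrArg (Int.cast : ℤ → ℂ) d.traceA
    rw [Int.cast_sum, ← Finset.sum_filter_add_sum_filter_not s (fun χ => ω χ = -1), ← hF_def] at h3
    have h4 : ∑ χ ∈ F, ω χ * (d.A χ χ : ℂ) = -∑ χ ∈ F, (d.A χ χ : ℂ) := by
      rw [← Finset.sum_neg_distrib]
      exact Finset.sum_congr rfl fun χ hχ => by rw [(mem_filter.1 hχ).2, neg_one_mul]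
    have h5 : ∑ χ ∈ s.filter (fun χ => ¬ ω χ = -1), ω χ * (d.A χ χ : ℂ) =
        ∑ χ ∈ s.filter (fun χ => ¬ ω χ = -1), (d.A χ χ : ℂ) :=
      Finset.sum_congr rfl fun χ hχ => by
        rw [(hω1 χ).resolve_right (mem_filter.1 hχ).2, one_mul]
    rw [h4, h5] at h2
    apply Int.cast_injective (α := ℂ)
    push_cast at h3 ⊢
    linear_combination h3 - h2
  rw [← Finset.sum_sdiff hOdF, ← hX_def, Finset.sum_congr rfl hXvan, Finset.sum_congr rfl hOd4,
    Finset.sum_const, Finset.sum_const, nsmul_eq_mul, nsmul_eq_mul] at hsumF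
  -- counting
  have hsplit : s ⊆ (W ∪ Ev) ∪ (Od ∪ X) := fun χ hχ => by
    rcases hω1 χ with he | he
    · exact mem_union_left _ (hnonfaith χ hχ he)
    · refine mem_union_right _ ?_
      by_cases h : χ ∈ Od
      · exact mem_union_left _ h
      · exact mem_union_right _ (mem_sdiff.2 ⟨mem_filter.2 ⟨hχ, he⟩, h⟩)
  have hcardB : Nat.card B = s.card := by
    rw [hs_def, ← Fintype.card_subtype, ← Nat.card_eq_fintype_card]
  have hWEv : Disjoint W Ev := Finset.disjoint_left.2 fun χ h1 h2 =>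
    (mem_filter.1 h1).2 (d.cols.rows.Ev_sub χ h2).2
  have hEvω : ∀ χ ∈ Ev, ω χ ≠ -1 := fun χ hχ he =>
    (hfaith χ (d.cols.rows.Ev_sub χ hχ).1 he).2 hχ
  have hWω : ∀ χ ∈ W, ω χ ≠ -1 := fun χ hχ he =>
    (mem_filter.1 hχ).2 (hfaith χ (mem_filter.1 hχ).1 he).1
  have hcard : s.card = 4 + Ev.card + (Od.card + X.card) := by
    have hOX : Disjoint Od X := Finset.disjoint_left.2 fun χ h1 h2 => (mem_sdiff.1 h2).2 h1
    have hdis : Disjoint (W ∪ Ev) (Od ∪ X) := Finset.disjoint_left.2 fun χ h1 h2 => by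
      have hF' : χ ∈ F := by
        rcases mem_union.1 h2 with h | h
        exacts [hOdF h, (mem_sdiff.1 h).1]
      rcases mem_union.1 h1 with h | h
      exacts [hWω χ h (mem_filter.1 hF').2, hEvω χ h (mem_filter.1 hF').2]
    have heq : s = (W ∪ Ev) ∪ (Od ∪ X) := by
      refine Finset.Subset.antisymm hsplit fun χ hχ => ?_
      rcases mem_union.1 hχ with h | h <;> rcases mem_union.1 h with h | h
      exacts [(mem_filter.1 h).1, (d.cols.rows.Ev_sub χ h).1, d.cols.rows.Od_sub h,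
        (mem_filter.1 (mem_sdiff.1 h).1).1]
    rw [heq, Finset.card_union_of_disjoint hdis, Finset.card_union_of_disjoint hWEv,
      Finset.card_union_of_disjoint hOX, hW_def, d.cols.rows.w_card]
  have hk := d.card_eq
  rw [hlz, hcardB, hcard] at hk
  have hOdX : 4 * Od.card + 2 * q.H * X.card = 2 * q.H * blockRank 2 B := by
    have h1 : ((4 * Od.card + 2 * q.H * X.card : ℕ) : ℤ) =
        ((2 * q.H * blockRank 2 B : ℕ) : ℤ) := by
      push_cast
      linarith
    exact_mod_cast h1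
  have hshape := d.cols.rows.shape
  rcases hshape with ⟨hH, hE, hO⟩ | ⟨hH4, hOd2, hev⟩
  · change q.H = 2 at hH
    rw [hEv_def, hE] at hk
    rw [hOd_def, hO] at hk hOdX
    rw [hH] at hk hOdX
    simp only [Finset.card_empty] at hk hOdX
    omega
  · change 4 ≤ q.H at hH4
    change Od.card * 2 = q.H at hOd2
    have hl : X.card + 1 = blockRank 2 B := by
      have h1 : 2 * q.H * (X.card + 1) = 2 * q.H * blockRank 2 B := by rw [← hOdX, ← hOd2]; ring
      exact Nat.eq_of_mul_eq_mul_left (by omega) h1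
    rcases hev with ⟨hEv2, -⟩ | ⟨hH8, hEv1⟩
    · change Ev.card * 2 + 2 = q.H at hEv2
      omega
    · exfalso
      change q.H = 8 at hH8
      change Ev.card ≤ 1 at hEv1
      have hn : q.n = 5 := by
        have h : 2 ^ (q.n - 2) = 2 ^ 3 := hH8
        have := Nat.pow_right_injective le_rfl h
        omega
      obtain ⟨φ⟩ := q.quotient_dihedral (by omega)
      have hdih : Nonempty (Db ≃* DihedralGroup (2 ^ (4 - 1))) := by
        rw [show 4 - 1 = q.n - 2 by omega]
        exact ⟨φ⟩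
      have hcb := (dihedral_defect hM hBb hDb (n := 4) (by norm_num) hdih).1
      have hle : Nat.card Bb ≤ (W ∪ Ev).card := by
        rw [← Fintype.card_coe, ← Nat.card_eq_fintype_card]
        refine Nat.card_le_card_of_injective
          (fun η => ⟨inflIrr _ η.1, hnonfaith _ ((hs _).2 (hBbsub _ η.2)) (hinfl_ω _)⟩) ?_
        intro a b hab
        have h1 := congrArg (fun t : {x // x ∈ W ∪ Ev} => ((t.1 : IrrCharacter G) : G → ℂ)) hab
        refine Subtype.ext (Subtype.ext (funext fun g => ?_))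
        obtain ⟨g, rfl⟩ := QuotientGroup.mk_surjective g
        exact congrFun h1 g
      rw [hcb, Finset.card_union_of_disjoint hWEv, hW_def, d.cols.rows.w_card] at hle
      norm_num at hle
      omega

end CfsgLib.Blocks
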