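import Cfsg.Agent.Lib.Blocks.SQ.Identity
import Cfsg.Agent.Lib.Blocks.SmallRankOne
import Cfsg.Agent.Lib.Blocks.StarNonzero
import Cfsg.Agent.Lib.Blocks.DihedralParity
import Cfsg.Agent.Lib.BlockOrth.DefectOneTwo
import Cfsg.Agent.Lib.Blocks.FusionBlock

/-!
# Subsections of a `2`-block: fusion, local defects and the integrality of contributions
-/

set_option autoImplicit false
set_option linter.unusedSectionVars false
set_option linter.style.haveILetI false

namespace CfsgLib.Blocks

open Cfsg Chars BlockOrth Finset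
open scoped ComplexConjugate

universe u

variable {G : Type u} [Group G] [Fintype G] {M : Ideal AlgInt} [M.IsPrime]

section Fusion

variable {p : ℕ} [Fact p.Prime]

/-- Fusion of elements of a maximal pair, together with the pairs below. -/
def PairFus (M : Ideal AlgInt) [M.IsPrime] (p : ℕ) [Fact p.Prime] (c : BrauerPairIdx G) (u v : G) :
    Prop :=
  ∃ g : G, g * u * g⁻¹ = v ∧ conjPair g (pairBelow p M c u) = pairBelow p M c v

variable {c : BrauerPairIdx G}

theorem PairFus.refl (u : G) : PairFus M p c u u := ⟨1, by simp, conjPair_one _⟩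

theorem PairFus.symm {u v : G} (h : PairFus M p c u v) : PairFus M p c v u := by
  obtain ⟨g, h1, h2⟩ := h
  exact ⟨g⁻¹, by rw [← h1]; group, by rw [← h2, conjPair_mul, inv_mul_cancel, conjPair_one]⟩

theorem PairFus.trans {u v w : G} (h : PairFus M p c u v) (h' : PairFus M p c v w) :
    PairFus M p c u w := by
  obtain ⟨g, h1, h2⟩ := h
  obtain ⟨k, h3, h4⟩ := h'
  exact ⟨k * g, by rw [← h3, ← h1]; group, by rw [← conjPair_mul, h2, h4]⟩

theorem PairFus.of_mem (hpM : (p : AlgInt) ∈ M) (hc : IsBrauerPair p M c.1 c.2) {u v : G}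
    (hu : u ∈ c.1) (hv : v ∈ c.1) : PairFus M p c u (v * u * v⁻¹) :=
  ⟨v, rfl, pairBelow_conj hpM hc hu hv⟩

theorem PairFus.orderOf_eq {u v : G} (h : PairFus M p c u v) : orderOf u = orderOf v := by
  obtain ⟨g, h1, -⟩ := h
  rw [← h1]
  exact ((MulAut.conj g).orderOf_eq u).symm

/-- A conjugate pair below `c` gives fusion. -/
theorem PairFus.of_below (hpM : (p : AlgInt) ∈ M) (hc : IsBrauerPair p M c.1 c.2) {u g : G}
    (h : Below p M (conjPair g (pairBelow p M c u)) c) : PairFus M p c u (g * u * g⁻¹) := by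
  refine ⟨g, rfl, eq_pairBelow hpM hc h ?_⟩
  show (pairBelow p M c u).1.map (MulAut.conj g).toMonoidHom = _
  rw [pairBelow_fst, map_zpowers_conj]

variable {B : Set (IrrCharacter G)} {P : Subgroup G}
  {e : Set (IrrCharacter (Subgroup.centralizer (P : Set G)))}

/-- The defect of the block at a fully centralized element. -/
theorem blockDefect_of_images (hpM : (p : AlgInt) ∈ M) (hmax : IsMaximalBrauerPair p M B P e)
    {u : G} (hu : u ∈ P) {b : Set (IrrCharacter (Subgroup.centralizer (Subgroup.zpowers u : Set G)))}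
    (hb : pairBelow p M ⟨P, e⟩ u = ⟨Subgroup.zpowers u, b⟩)
    (himg : ∀ v ∈ P, PairFus M p ⟨P, e⟩ u v →
      Nat.card (P ⊓ Subgroup.centralizer ({v} : Set G) : Subgroup G) ≤
        Nat.card (P ⊓ Subgroup.centralizer ({u} : Set G) : Subgroup G)) :
    Nat.card (P ⊓ Subgroup.centralizer ({u} : Set G) : Subgroup G) = p ^ blockDefect p b := by
  have hle : Below p M ⟨Subgroup.zpowers u, b⟩ ⟨P, e⟩ :=
    hb ▸ pairBelow_below (c := ⟨P, e⟩) hpM hmax.1.1 hu
  have hF := isBlockFusionSystemOn_blockFusion hpM hmax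
  have hfc : (blockFusion (b := ⟨P, e⟩) hpM hmax.1.1).IsFullyCentralized (Subgroup.zpowers u) := by
    refine ⟨below_le hle, fun Q' hQ' => ?_⟩
    obtain ⟨g, ⟨f', hf', hgf⟩, rfl⟩ := (isConj_block_iff hF).1 hQ'
    have hff : f' = b := below_unique hpM (b := ⟨P, e⟩) hmax.1.1 hf' hle
    have hfus : PairFus M p ⟨P, e⟩ u (g * u * g⁻¹) :=
      PairFus.of_below hpM hmax.1.1 (by rw [hb, ← hff]; exact hgf)
    have hmem : g * u * g⁻¹ ∈ P := below_le hgf ⟨u, Subgroup.mem_zpowers _, rfl⟩
    show Nat.card (P ⊓ _ : Subgroup G) ≤ Nat.card (P ⊓ _ : Subgroup G)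
    rw [map_zpowers_conj, centralizer_zpowers_eq, centralizer_zpowers_eq]
    exact himg _ hmem hfus
  have h1 := (isFullyCentralized_iff hpM hF hle).1 hfc
  have e : (P ⊓ Subgroup.centralizer ({u} : Set G) : Subgroup G) =
      P ⊓ Subgroup.centralizer (Subgroup.zpowers u : Set G) :=
    congrArg (P ⊓ ·) (centralizer_zpowers_eq u).symm
  rw [e]
  exact h1

/-- The part of a character at the pair of a central element. -/
theorem secVal_central (hpM : (p : AlgInt) ∈ M) (hmax : IsMaximalBrauerPair p M B P e) {u : G}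
    (huZ : u ∈ Subgroup.center G) (hu : ∃ k : ℕ, u ^ p ^ k = 1)
    {b : Set (IrrCharacter (Subgroup.centralizer (Subgroup.zpowers u : Set G)))}
    (hb : IsBrauerPairOf p M B (Subgroup.zpowers u) b) {χ : IrrCharacter G} (hχ : χ ∈ B) {y : G}
    (hy : ¬ p ∣ orderOf y) :
    secVal (pairAt u b) (χ : G → ℂ) (u * y) = (χ : G → ℂ) (u * y) := by
  have hB := hmax.1.2.1
  have htop : ∀ g : G, g ∈ Subgroup.centralizer (Subgroup.zpowers u : Set G) := fun g =>
    (mem_centralizer_zpowers_iff u g).2 (Subgroup.mem_center_iff.1 huZ g)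
  have hstab : ∀ b' : Set (IrrCharacter (Subgroup.centralizer (Subgroup.zpowers u : Set G))),
      IsBrauerPairOf p M B (Subgroup.zpowers u) b' → Below p M (pairAt u b') ⟨P, e⟩ := by
    intro b' hb'
    obtain ⟨g, hg⟩ := exists_conj_below (a := pairAt u b') (b := ⟨P, e⟩) hpM hmax hb'
    rwa [show conjPair g (pairAt u b') = pairAt u b' from
      centralizer_le_stabPair hb'.1.2 (htop g)] at hg
  rw [← sum_secVal (M := M) (χ : G → ℂ) u (u * y)]
  symm
  refine Finset.sum_eq_single (pairAt u b) (fun a ha hne => ?_) fun h =>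
    absurd (mem_pairsAt_of_pair hb) h
  refine secVal_eq_zero hpM hB hχ ((Subgroup.mem_center_iff.1 huZ y).symm :) hu hy ha fun hB' => hne ?_
  obtain ⟨Q, b'⟩ := a
  obtain rfl : Q = Subgroup.zpowers u := (mem_pairsAt.1 ha).1
  rw [below_unique hpM (b := ⟨P, e⟩) hmax.1.1 (hstab b' hB') (hstab b hb)]

/-- The local inner product at the trivial element. -/
theorem secInner_one (hpM : (p : AlgInt) ∈ M) (hmax : IsMaximalBrauerPair p M B P e)
    {b : Set (IrrCharacter (Subgroup.centralizer (Subgroup.zpowers (1 : G) : Set G)))}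
    (hb : IsBrauerPairOf p M B (Subgroup.zpowers (1 : G)) b) {χ ψ : IrrCharacter G} (hχ : χ ∈ B)
    (hψ : ψ ∈ B) :
    secInner p (1 : G) b (χ : G → ℂ) (ψ : G → ℂ) =
      classInner (pRegularPart p (χ : G → ℂ)) (ψ : G → ℂ) := by
  classical
  have hv : ∀ {φ : IrrCharacter G}, φ ∈ B → ∀ y : G, ¬ p ∣ orderOf y →
      secVal (pairAt (1 : G) b) (φ : G → ℂ) (1 * y) = (φ : G → ℂ) y := fun hφ y hy => by
    rw [secVal_central hpM hmax (Subgroup.one_mem _) ⟨0, by simp⟩ hb hφ hy, one_mul]
  have hcard : Nat.card (Subgroup.centralizer (Subgroup.zpowers (1 : G) : Set G)) = Nat.card G := by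
    rw [show Subgroup.centralizer (Subgroup.zpowers (1 : G) : Set G) = ⊤ from eq_top_iff.2 fun g _ =>
      (mem_centralizer_zpowers_iff 1 g).2 (by simp), Subgroup.card_top]
  rw [secInner, hcard, inner_def, secPair, div_eq_inv_mul]
  congr 1
  rw [← Finset.sum_subset (Finset.subset_univ (univ.filter fun y : G => Commute 1 y ∧ ¬ p ∣ orderOf y))
    fun y _ hy => ?_]
  · refine Finset.sum_congr (by congr) fun y hy => ?_
    obtain ⟨-, -, hr⟩ := mem_filter.1 hy
    rw [hv hχ y hr, hv hψ y hr, pRegularPart_apply, if_pos hr]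
  · rw [pRegularPart_apply, if_neg, zero_mul]
    exact fun h => hy (mem_filter.2 ⟨mem_univ _, Commute.one_left y, h⟩)

/-- At a central element the local inner product is twisted by the central scalars. -/
theorem secInner_central (hpM : (p : AlgInt) ∈ M) (hmax : IsMaximalBrauerPair p M B P e) {u : G}
    (huZ : u ∈ Subgroup.center G) (hu : ∃ k : ℕ, u ^ p ^ k = 1)
    {b : Set (IrrCharacter (Subgroup.centralizer (Subgroup.zpowers u : Set G)))}
    (hb : IsBrauerPairOf p M B (Subgroup.zpowers u) b) {χ ψ : IrrCharacter G} (hχ : χ ∈ B)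
    (hψ : ψ ∈ B) :
    secInner p u b (χ : G → ℂ) (ψ : G → ℂ) =
      centralScalar (χ : G → ℂ) u * conj (centralScalar (ψ : G → ℂ) u) *
        classInner (pRegularPart p (χ : G → ℂ)) (ψ : G → ℂ) := by
  classical
  have hcard : Nat.card (Subgroup.centralizer (Subgroup.zpowers u : Set G)) = Nat.card G := by
    rw [show Subgroup.centralizer (Subgroup.zpowers u : Set G) = ⊤ from eq_top_iff.2 fun g _ =>
      (mem_centralizer_zpowers_iff u g).2 (Subgroup.mem_center_iff.1 huZ g), Subgroup.card_top]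
  rw [secInner, hcard, inner_def, secPair, div_eq_inv_mul, mul_left_comm]
  congr 1
  rw [Finset.mul_sum, ← Finset.sum_subset
    (Finset.subset_univ (univ.filter fun y : G => Commute u y ∧ ¬ p ∣ orderOf y)) fun y _ hy => ?_]
  · refine Finset.sum_congr (by congr) fun y hy => ?_
    obtain ⟨-, -, hr⟩ := mem_filter.1 hy
    rw [secVal_central hpM hmax huZ hu hb hχ hr, secVal_central hpM hmax huZ hu hb hψ hr,
      irr_central_mul χ huZ, irr_central_mul ψ huZ, pRegularPart_apply, if_pos hr, map_mul]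
    ring
  · rw [pRegularPart_apply, if_neg, zero_mul, mul_zero]
    exact fun h => hy (mem_filter.2 ⟨mem_univ _, (Subgroup.mem_center_iff.1 huZ y).symm, h⟩)

/-- A vanishing local norm kills the local inner products. -/
theorem secInner_eq_zero {u : G}
    {b : Set (IrrCharacter (Subgroup.centralizer (Subgroup.zpowers u : Set G)))} {θ : G → ℂ}
    (h : secInner p u b θ θ = 0) (θ' : G → ℂ) : secInner p u b θ θ' = 0 := by
  classical
  rw [secInner, div_eq_zero_iff] at h
  replace h := h.resolve_right (Nat.cast_ne_zero.2 Nat.card_pos.ne')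
  rw [secPair] at h
  simp only [Complex.mul_conj'] at h
  have h' : ∀ y ∈ univ.filter (fun y : G => Commute u y ∧ ¬ p ∣ orderOf y),
      secVal (pairAt u b) θ (u * y) = 0 := by
    intro y hy
    have h2 := congrArg Complex.re h
    simp only [Complex.re_sum, ← Complex.ofReal_pow, Complex.ofReal_re, Complex.zero_re] at h2
    have h3 := (Finset.sum_eq_zero_iff_of_nonneg fun a _ => sq_nonneg _).1 h2 y hy
    simpa using h3
  rw [secInner, secPair, Finset.sum_eq_zero fun y hy => by rw [h' y hy, zero_mul], zero_div]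

end Fusion

section Two

variable [Fact (Nat.Prime 2)] {B : Set (IrrCharacter G)} {P : Subgroup G}
  {e : Set (IrrCharacter (Subgroup.centralizer (P : Set G)))}

/-- A block with defect group of order at most four has one Brauer character as soon as a
nonidentity element of the defect group is central. -/
theorem blockRank_eq_one_of_four (hM : IsPModular 2 M) {K : Type u} [Group K] [Fintype K]
    {b : Set (IrrCharacter K)} (hb : IsPBlock M b) (hd : blockDefect 2 b ≤ 2) {u : K}
    (huZ : u ∈ Subgroup.center K) (hu1 : u ≠ 1) (hu : ∃ k, orderOf u = 2 ^ k) :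
    blockRank 2 b = 1 := by
  classical
  obtain ⟨D, hD⟩ := exists_isDefectGroup (p := 2) hb
  obtain ⟨f, hf⟩ := exists_pair_on_defectGroup hM.2.2 hb hD
  have hmax := isMaximal_of_defectGroup hM.2.2 hD hf
  have h4 : Nat.card D ≤ 4 := by
    rw [card_defectGroup hM.2.2 hb hD]
    exact (Nat.pow_le_pow_right two_pos hd).trans (by norm_num)
  have hab := comm_of_card_le_four hmax.1.1.1 h4
  have huD := mem_defectGroup_of_mem_center huZ hu hD
  have hCT : Subgroup.centralizer (D : Set K) ≤ stabPair ⟨D, f⟩ :=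
    centralizer_le_stabPair hmax.1.1.2
  haveI : ((Subgroup.centralizer (D : Set K)).subgroupOf (stabPair ⟨D, f⟩)).Normal :=
    (Subgroup.normal_subgroupOf_iff_le_normalizer hCT).2
      fun g hg => mem_normalizer_centralizer (stabPair_le_normalizer _ hg)
  refine blockRank_eq_one_of_trivial_inertia hM hmax hab fun g hg => ?_
  have hfix : g * u * g⁻¹ = u := by
    rw [Subgroup.mem_center_iff.1 huZ g, mul_inv_cancel_right]
  have hsq := sq_fixes_of_card_le_four h4 (stabPair_le_normalizer _ hg) huD hu1 hfix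
  set r := ((Subgroup.centralizer (D : Set K)).subgroupOf (stabPair ⟨D, f⟩)).index with hr
  have hodd : ¬ 2 ∣ r := not_dvd_index_centralizer_stab hM.2.2 hmax hab
  have hpow : g ^ r ∈ Subgroup.centralizer (D : Set K) := by
    have h := Subgroup.pow_index_mem ((Subgroup.centralizer (D : Set K)).subgroupOf
      (stabPair ⟨D, f⟩)) ⟨g, hg⟩
    rw [Subgroup.mem_subgroupOf, SubmonoidClass.coe_pow] at h
    exact h
  obtain ⟨m, hm⟩ : ∃ m, r = 2 * m + 1 := ⟨r / 2, by omega⟩
  rw [hm, pow_succ, pow_mul, sq] at hpow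
  have := Subgroup.mul_mem _ (Subgroup.inv_mem _ (Subgroup.pow_mem _ hsq m)) hpow
  rwa [inv_mul_cancel_left] at this

variable {H : Subgroup G} [Fintype H] {x : G} [Fintype (IrrCharacter H)]
  {b : Set (IrrCharacter H)} [DecidablePred (· ∈ b)]

/-- Contributions at an element of order at most two are integers. -/
theorem exists_int_contrib (hH : ∀ c : G, c ∈ H ↔ c * x = x * c) (hx : x * x = 1)
    (χ ψ : IrrCharacter G) : ∃ a : ℤ, contrib 2 b x χ ψ = (a : ℂ) := by
  have hmem : contrib 2 b x χ ψ ∈ (Int.castRingHom ℂ).range := by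
    refine sum_mem fun θ _ => sum_mem fun θ' _ => ?_
    obtain ⟨m, hm⟩ := inner_irr_right_nat (isCharacter_restrict H (isCharacter_of_irr χ.2)) θ
    obtain ⟨m', hm'⟩ := inner_irr_right_nat (isCharacter_restrict H (isCharacter_of_irr ψ.2)) θ'
    have hε : ∀ φ : IrrCharacter H,
        centralScalar (φ : H → ℂ) ⟨x, (hH x).2 rfl⟩ ∈ (Int.castRingHom ℂ).range := fun φ => by
      rcases sq_eq_one_iff.1 (centralScalar_self_pow hH (N := 2) (by rw [sq, hx]) φ) with e | e <;>
        rw [e]
      · exact one_mem _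
      · exact neg_mem (one_mem _)
    have hconj : ∀ z ∈ (Int.castRingHom ℂ).range, conj z ∈ (Int.castRingHom ℂ).range := by
      rintro _ ⟨a, rfl⟩
      exact ⟨a, by simp⟩
    rw [inner_secFun_eq hH, inner_secFun_eq hH, hm, hm']
    exact mul_mem (mul_mem (mul_mem (hε θ) (natCast_mem _ m))
      (hconj _ (mul_mem (hε θ') (natCast_mem _ m')))) (intCast_mem _ _)
  obtain ⟨a, ha⟩ := hmem
  exact ⟨a, ha.symm⟩

/-- The self contributions at an element of order dividing four are integers. -/
theorem exists_int_contrib_self (hpM : ((2 : ℕ) : AlgInt) ∈ M)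
    (hH : ∀ c : G, c ∈ H ↔ c * x = x * c) (hb : IsPBlock M b) (hx : x ^ 4 = 1)
    (χ : IrrCharacter G) : ∃ a : ℤ, 0 ≤ a ∧ contrib 2 b x χ χ = (a : ℂ) := by
  let GI : Subring ℂ :=
    { carrier := {z | ∃ a b : ℤ, z = (a : ℂ) + (b : ℂ) * Complex.I}
      mul_mem' := by
        rintro _ _ ⟨a, b, rfl⟩ ⟨c, d, rfl⟩
        exact ⟨a * c - b * d, a * d + b * c, by
          push_cast; linear_combination ((b : ℂ) * d) * Complex.I_sq⟩
      one_mem' := ⟨1, 0, by simp⟩
      add_mem' := by
        rintro _ _ ⟨a, b, rfl⟩ ⟨c, d, rfl⟩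
        exact ⟨a + c, b + d, by push_cast; ring⟩
      zero_mem' := ⟨0, 0, by simp⟩
      neg_mem' := by
        rintro _ ⟨a, b, rfl⟩
        exact ⟨-a, -b, by push_cast; ring⟩ }
  have hmem : contrib 2 b x χ χ ∈ GI := by
    refine sum_mem fun θ _ => sum_mem fun θ' _ => ?_
    obtain ⟨m, hm⟩ := inner_irr_right_nat (isCharacter_restrict H (isCharacter_of_irr χ.2)) θ
    obtain ⟨m', hm'⟩ := inner_irr_right_nat (isCharacter_restrict H (isCharacter_of_irr χ.2)) θ'
    have hε : ∀ φ : IrrCharacter H, centralScalar (φ : H → ℂ) ⟨x, (hH x).2 rfl⟩ ∈ GI := fun φ => by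
      have h4 := centralScalar_self_pow hH (N := 4) hx φ
      rw [show (4 : ℕ) = 2 * 2 from rfl, pow_mul] at h4
      rcases sq_eq_one_iff.1 h4 with e | e
      · rcases sq_eq_one_iff.1 e with e | e <;> rw [e]
        · exact one_mem _
        · exact neg_mem (one_mem _)
      · rw [← Complex.I_sq] at e
        rcases sq_eq_sq_iff_eq_or_eq_neg.1 e with e | e <;> rw [e]
        · exact ⟨0, 1, by simp⟩
        · exact ⟨0, -1, by simp⟩
    have hconj : ∀ z ∈ GI, conj z ∈ GI := by
      rintro _ ⟨a, b, rfl⟩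
      exact ⟨a, -b, by simp⟩
    rw [inner_secFun_eq hH, inner_secFun_eq hH, hm, hm']
    exact mul_mem (mul_mem (mul_mem (hε θ) (natCast_mem _ m))
      (hconj _ (mul_mem (hε θ') (natCast_mem _ m')))) (intCast_mem _ _)
  obtain ⟨a, c, hac⟩ := hmem
  obtain ⟨r, hr, hr'⟩ := contrib_self_eq_ofReal hpM hH hb χ
  have e : c = 0 := by
    have h := congrArg Complex.im (hac.symm.trans hr')
    simpa using h
  refine ⟨a, ?_, by simp [hac, e]⟩
  have h := congrArg Complex.re (hac.symm.trans hr')
  simp [e] at h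
  exact_mod_cast h ▸ hr

/-- An integer divided by a power of two, integral and not in the maximal ideal. -/
theorem exists_odd_mul (hpM : ((2 : ℕ) : AlgInt) ∈ M) {a : ℤ} {h : ℕ}
    (hi : IsIntegral ℤ ((a : ℂ) / (2 : ℂ) ^ h)) :
    ∃ m : ℤ, a = 2 ^ h * m ∧ (Odd m ↔ ¬ MemLocalIdeal M ((a : ℂ) / (2 : ℂ) ^ h)) := by
  obtain ⟨m, hm⟩ := CharApps.exists_int_of_rat hi ⟨(a : ℚ) / 2 ^ h, by push_cast; rfl⟩
  refine ⟨m, ?_, ?_⟩
  · rw [eq_div_iff (by norm_num)] at hm
    apply Int.cast_injective (α := ℂ)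
    push_cast
    rw [← hm]; ring
  · rw [← hm, memLocalIdeal_intCast_iff hpM, not_not]

end Two

end CfsgLib.Blocks
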