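import Cfsg.Agent.Lib.Blocks.SQ.Fourier
import Cfsg.Agent.Lib.Blocks.DihedralConfig

/-!
# The rows of the columns on the cyclic subgroup of a quaternion or semidihedral group
-/

set_option autoImplicit false
set_option linter.unusedSectionVars false

namespace CfsgLib.Blocks.SQFourier

open Finset
open scoped ComplexConjugate

universe v

variable (S : Setup) {ι : Type v} [DecidableEq ι]

/-- The norm of a row outside the classes killed by two. -/
noncomputable def freeNorm (f : ZMod S.N → ℂ) : ℂ := ∑ l ∈ S.free, f l * conj (f l)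

/-- The possible shapes of the even and odd rows. -/
def RowShape (f : ι → ZMod S.N → ℂ) (Ev Od : Finset ι) : Prop :=
  (S.H = 2 ∧ Ev = ∅ ∧ Od = ∅) ∨
    (4 ≤ S.H ∧ Od.card * 2 = S.H ∧
      ((Ev.card * 2 + 2 = S.H ∧ ∀ χ ∈ Ev,
          freeNorm S (f χ) = if χ ∈ Od then (((8 * S.H : ℕ) : ℂ) - 16) else ((4 * S.H : ℕ) : ℂ) - 8) ∨
        (S.H = 8 ∧ Ev.card ≤ 1)))

/-- The rows: four rows `w`, the even rows `Ev` and the odd rows `Od`. -/
structure Rows (s : Finset ι) (d : ι → ℕ) (f : ι → ZMod S.N → ℂ) where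
  w : ι → ℤ
  Ev : Finset ι
  Od : Finset ι
  w_pm : ∀ χ ∈ s, w χ = 1 ∨ w χ = 0 ∨ w χ = -1
  w_card : (s.filter fun χ => w χ ≠ 0).card = 4
  w_deg : ∑ χ ∈ s, w χ * (d χ : ℤ) = 0
  Ev_sub : ∀ χ ∈ Ev, χ ∈ s ∧ w χ = 0
  Od_sub : Od ⊆ s
  Od_eq : ∀ a ∈ Od, ∀ b ∈ Od, d a = d b ∧ w a = w b
  half : ∀ χ ∈ s, ∃ m : ℤ, f χ (S.H / 2 : ℕ) = (m : ℂ) ∧ (Odd m ↔ w χ ≠ 0)
  other : ∀ χ ∈ s, w χ = 0 → χ ∉ Ev → χ ∉ Od → ∀ l ∈ S.free, f χ l = 0
  Od_norm : ∀ χ ∈ Od, w χ = 0 → χ ∉ Ev → freeNorm S (f χ) = ((4 * S.H : ℕ) : ℂ) - 8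
  shift : ∀ χ ∈ s, ∀ ε : ℂ, (∀ l ∈ S.free, f χ (l + (S.H : ZMod S.N)) = ε * f χ l) →
    (ε = 1 → χ ∉ Od) ∧ (ε = -1 → w χ = 0 ∧ χ ∉ Ev)
  shape : RowShape S f Ev Od

namespace Setup

theorem e_H : S.e (S.H : ZMod S.N) = -1 := by
  have h2 : S.e (S.H : ZMod S.N) * S.e (S.H : ZMod S.N) = 1 := by
    rw [← AddChar.map_add_eq_mul, ← two_mul, S.two_mul_H, S.e_zero]
  refine (mul_self_eq_one_iff.1 h2).resolve_left fun h => S.H_ne ?_
  refine ZMod.injective_stdAddChar (N := S.N) ?_
  rw [AddChar.map_zero_eq_one]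
  exact h

theorem e_H_mul (k : ZMod S.N) :
    S.e ((S.H : ZMod S.N) * k) = if S.par k = 0 then 1 else -1 := by
  split_ifs with h
  · obtain ⟨m, rfl⟩ := S.exists_two_mul h
    rw [← mul_assoc, mul_comm _ (2 : ZMod S.N), S.two_mul_H, zero_mul, S.e_zero]
  · obtain ⟨m, hm⟩ := S.exists_two_mul (k := k - 1) (by
      have h1 : ∀ a : ZMod 2, a ≠ 0 → a - 1 = 0 := by decide
      rw [map_sub, map_one, h1 _ h])
    rw [eq_add_of_sub_eq hm, mul_add, mul_one, ← mul_assoc, mul_comm _ (2 : ZMod S.N),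
      S.two_mul_H, zero_mul, zero_add, S.e_H]

theorem two_card_par : (univ.filter fun k : ZMod S.N => S.par k = 0).card = S.H ∧
    (univ.filter fun k : ZMod S.N => ¬ S.par k = 0).card = S.H := by
  have h01 : (univ.filter fun k : ZMod S.N => S.par k = 0).card =
      (univ.filter fun k : ZMod S.N => ¬ S.par k = 0).card := by
    refine Finset.card_bij' (fun k _ => k + 1) (fun k _ => k - 1) ?_ ?_
      (fun k _ => add_sub_cancel_right k 1) (fun k _ => sub_add_cancel k 1)
    · intro k hk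
      simp only [mem_filter, mem_univ, true_and] at hk ⊢
      rw [map_add, hk, map_one]; decide
    · intro k hk
      simp only [mem_filter, mem_univ, true_and] at hk ⊢
      have h1 : ∀ a : ZMod 2, a ≠ 0 → a - 1 = 0 := by decide
      rw [map_sub, map_one, h1 _ hk]
  have h2 := Finset.card_filter_add_card_filter_not (s := (univ : Finset (ZMod S.N)))
    (fun k => S.par k = 0)
  rw [card_univ, ZMod.card] at h2
  have := S.N_eq
  omega

theorem two_ne : (2 : ZMod S.N) ≠ 0 := fun h => by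
  rw [← Nat.cast_two, ZMod.natCast_eq_zero_iff] at h
  have := Nat.le_of_dvd two_pos h
  have := S.N_eq
  have := S.two_le
  omega

theorem freeNorm_eq (f : ZMod S.N → ℂ) (u : ZMod S.N → ℤ) (hu : ∀ k, (u k : ℂ) = S.coef f k) :
    freeNorm S f = (((S.N : ℤ) * ∑ k, u k ^ 2 -
      2 * (∑ k ∈ univ.filter (fun k => S.par k = 0), u k) ^ 2 -
      2 * (∑ k ∈ univ.filter (fun k => ¬ S.par k = 0), u k) ^ 2 : ℤ) : ℂ) := by
  set g : ZMod S.N → ℂ := fun l => ∑ k, (u k : ℂ) * S.e (l * k) with hg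
  have hfg : freeNorm S f = ∑ l ∈ S.free, g l * conj (g l) := Finset.sum_congr rfl fun l hl => by
    rw [S.value_eq f (mem_filter.1 hl).2, hg]
    simp only [hu]
  have hall : ∑ l, g l * conj (g l) = (S.N : ℂ) * ∑ k, (u k : ℂ) ^ 2 := by
    simp only [hg, map_sum, map_mul, map_intCast, S.e_neg, Finset.sum_mul_sum]
    rw [Finset.sum_comm, Finset.sum_congr rfl fun k _ => Finset.sum_comm, Finset.mul_sum]
    refine Finset.sum_congr rfl fun k _ => ?_
    rw [Finset.sum_congr rfl fun j _ => show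
      ∑ l, (u k : ℂ) * S.e (l * k) * ((u j : ℂ) * S.e (-(l * j))) =
        (u k : ℂ) * (u j : ℂ) * if j = k then (S.N : ℂ) else 0 by
      rw [Finset.sum_congr rfl fun l _ => show (u k : ℂ) * S.e (l * k) * ((u j : ℂ) * S.e (-(l * j))) =
        (u k : ℂ) * (u j : ℂ) * S.e (l * (k - j)) by
        rw [mul_sub, sub_eq_add_neg, AddChar.map_add_eq_mul]; ring, ← Finset.mul_sum, S.sum_e]
      simp only [sub_eq_zero, eq_comm]]
    simp only [mul_ite, mul_zero, Finset.sum_ite_eq', mem_univ, if_true]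
    ring
  set E : ℂ := ∑ k ∈ univ.filter (fun k => S.par k = 0), (u k : ℂ)
  set O : ℂ := ∑ k ∈ univ.filter (fun k => ¬ S.par k = 0), (u k : ℂ)
  have hg0 : g 0 = E + O := by
    simp only [hg, zero_mul, S.e_zero, mul_one]
    rw [Finset.sum_filter_add_sum_filter_not]
  have hgH : g (S.H : ZMod S.N) = E - O := by
    simp only [hg, S.e_H_mul, mul_ite, mul_one, mul_neg]
    rw [Finset.sum_ite, Finset.sum_neg_distrib, sub_eq_add_neg]
  have hconjE : conj E = E := by simp [E, map_sum]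
  have hconjO : conj O = O := by simp [O, map_sum]
  have hsplit : ∑ l, g l * conj (g l) = freeNorm S f + (g 0 * conj (g 0) +
      g (S.H : ZMod S.N) * conj (g (S.H : ZMod S.N))) := by
    rw [hfg, ← Finset.sum_filter_add_sum_filter_not univ (fun l : ZMod S.N => 2 * l ≠ 0)]
    congr 1
    rw [show (univ.filter fun l : ZMod S.N => ¬ 2 * l ≠ 0) = {0, (S.H : ZMod S.N)} by
      ext l; simp [S.two_mul_eq_zero]; tauto, Finset.sum_pair S.H_ne.symm]
  rw [hall, hg0, hgH, map_add, map_sub, hconjE, hconjO] at hsplit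
  push_cast
  linear_combination -hsplit

end Setup

theorem two_entries {s : Finset ι} (u : ι → ℤ) (h : ∑ χ ∈ s, u χ ^ 2 = 2) (d : ι → ℕ)
    (hd : ∀ χ ∈ s, 0 < d χ) (h0 : ∑ χ ∈ s, u χ * (d χ : ℤ) = 0) :
    ∃ p ∈ s, ∃ q ∈ s, p ≠ q ∧ d p = d q ∧
      ∀ χ ∈ s, u χ = (if χ = p then 1 else 0) - if χ = q then 1 else 0 := by
  classical
  have hsmall : ∀ χ ∈ s, u χ = 1 ∨ u χ = 0 ∨ u χ = -1 := fun χ hχ => by
    have h1 : u χ ^ 2 ≤ 2 := h ▸ Finset.single_le_sum (fun a _ => sq_nonneg (u a)) hχ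
    have : -1 ≤ u χ ∧ u χ ≤ 1 := ⟨by nlinarith, by nlinarith⟩
    omega
  set T := s.filter fun χ => u χ ≠ 0 with hT
  have hT2 : T.card = 2 := by
    rw [← Finset.sum_filter_of_ne (p := fun χ => u χ ≠ 0) (fun χ _ hu h0 => hu (by rw [h0]; norm_num)),
      Finset.sum_congr rfl (g := fun _ => (1 : ℤ)) fun χ hχ => by
        obtain ⟨hs, hne⟩ := mem_filter.1 hχ
        rcases hsmall χ hs with e | e | e <;> simp_all] at h
    simp only [Finset.sum_const, nsmul_eq_mul, mul_one] at h
    exact_mod_cast h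
  obtain ⟨a, b, hab, hTab⟩ := Finset.card_eq_two.1 hT2
  have ha := mem_filter.1 (show a ∈ T by rw [hTab]; simp)
  have hb := mem_filter.1 (show b ∈ T by rw [hTab]; simp)
  have hz : ∀ χ ∈ s, χ ≠ a → χ ≠ b → u χ = 0 := fun χ hχ h1 h2 => by
    by_contra h3
    have : χ ∈ T := mem_filter.2 ⟨hχ, h3⟩
    rw [hTab] at this
    simp [h1, h2] at this
  rw [← Finset.sum_filter_of_ne (p := fun χ => u χ ≠ 0) (fun χ _ hu h0 => hu (by rw [h0, zero_mul])),
    ← hT, hTab, Finset.sum_pair hab] at h0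
  have hda : (0 : ℤ) < d a := by exact_mod_cast hd a ha.1
  have hdb : (0 : ℤ) < d b := by exact_mod_cast hd b hb.1
  rcases hsmall a ha.1 with e1 | e1 | e1 <;> rcases hsmall b hb.1 with e2 | e2 | e2 <;>
    first | exact absurd e1 ha.2 | exact absurd e2 hb.2 | skip <;> rw [e1, e2] at h0
  all_goals first | omega | skip
  · refine ⟨a, ha.1, b, hb.1, hab, by omega, fun χ hχ => ?_⟩
    by_cases h1 : χ = a
    · subst h1; simp [e1, hab]
    by_cases h2 : χ = b
    · subst h2; simp [e2, h1]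
    simp [h1, h2, hz χ hχ h1 h2]
  · refine ⟨b, hb.1, a, ha.1, hab.symm, by omega, fun χ hχ => ?_⟩
    by_cases h1 : χ = a
    · subst h1; simp [e1, hab]
    by_cases h2 : χ = b
    · subst h2; simp [e2, h1]
    simp [h1, h2, hz χ hχ h1 h2]

/-- Pairs of signs with mutual inner products one form a star. -/
theorem star_lemma {κ : Type*} (R : Finset κ) (P Q : κ → ι) (hPQ : ∀ k ∈ R, P k ≠ Q k)
    (hinner : ∀ k ∈ R, ∀ j ∈ R, k ≠ j →
      (if P k = P j then (1 : ℤ) else 0) + (if Q k = Q j then 1 else 0) -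
        (if P k = Q j then 1 else 0) - (if Q k = P j then 1 else 0) = 1) :
    (∀ k ∈ R, ∀ j ∈ R, Q k = Q j ∧ (P k = P j → k = j)) ∨
      ∀ k ∈ R, ∀ j ∈ R, P k = P j ∧ (Q k = Q j → k = j) := by
  have key : ∀ k ∈ R, ∀ j ∈ R, k ≠ j → (P k = P j ∧ Q k ≠ Q j) ∨ (P k ≠ P j ∧ Q k = Q j) := by
    intro k hk j hj hne
    have h := hinner k hk j hj hne
    have h1 := hPQ k hk
    have h2 := hPQ j hj
    by_cases a : P k = P j <;> by_cases b : Q k = Q j
    · exfalso
      rw [if_pos a, if_pos b, if_neg (fun e => h1 (e.trans b.symm)),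
        if_neg (fun e => h1 (a.trans e.symm))] at h
      omega
    · exact Or.inl ⟨a, b⟩
    · exact Or.inr ⟨a, b⟩
    · exfalso
      rw [if_neg a, if_neg b] at h
      split_ifs at h <;> omega
  by_cases hP : ∃ k ∈ R, ∃ j ∈ R, k ≠ j ∧ P k = P j
  · right
    obtain ⟨k, hk, j, hj, hkj, hP⟩ := hP
    have hall : ∀ m ∈ R, P m = P k := by
      intro m hm
      by_contra hne
      have h1 : m ≠ k := fun e => hne (by rw [e])
      have h2 : m ≠ j := fun e => hne (by rw [e, hP])
      obtain ⟨-, hQk⟩ := (key k hk j hj hkj).resolve_right fun h => h.1 hP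
      obtain ⟨-, e1⟩ := (key m hm k hk h1).resolve_left fun h => hne h.1
      obtain ⟨-, e2⟩ := (key m hm j hj h2).resolve_left fun h => hne (h.1.trans hP.symm)
      exact hQk (e1.symm.trans e2)
    intro a ha b hb
    refine ⟨(hall a ha).trans (hall b hb).symm, fun hQ => ?_⟩
    by_contra hne
    rcases key a ha b hb hne with h | h
    · exact h.2 hQ
    · exact h.1 ((hall a ha).trans (hall b hb).symm)
  · left
    intro a ha b hb
    by_cases hab : a = b
    · subst hab; exact ⟨rfl, fun _ => rfl⟩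
    · refine ⟨?_, fun h => absurd ⟨a, ha, b, hb, hab, h⟩ hP⟩
      rcases key a ha b hb hab with h | h
      · exact absurd ⟨a, ha, b, hb, hab, h.1⟩ hP
      · exact h.2

/-- **The rows.** -/
theorem nonempty_rows (s : Finset ι) (d : ι → ℕ) (hd : ∀ χ ∈ s, 0 < d χ)
    (f : ι → ZMod S.N → ℂ)
    (hint : ∀ χ ∈ s, ∀ k : ZMod S.N,
      ∃ m : ℤ, (m : ℂ) = (S.N : ℂ)⁻¹ * ∑ l, f χ l * S.e (l * -k))
    (hτ : ∀ χ ∈ s, ∀ l, f χ (S.τ * l) = f χ l)
    (horth : ∀ l ∈ S.free, ∀ m ∈ S.free, ∑ χ ∈ s, f χ l * conj (f χ m) =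
      (if m = l then (S.N : ℂ) else 0) + if m = S.τ * l then (S.N : ℂ) else 0)
    (hdeg : ∀ l ∈ S.free, ∑ χ ∈ s, f χ l * (d χ : ℂ) = 0) : Nonempty (Rows S s d f) := by
  classical
  have hint' : ∀ (χ : ι) (k : ZMod S.N), ∃ m : ℤ, χ ∈ s → (m : ℂ) = S.coef (f χ) k := fun χ k => by
    by_cases hχ : χ ∈ s
    · obtain ⟨m, hm⟩ := S.coef_int (hint χ hχ) k
      exact ⟨m, fun _ => hm⟩
    · exact ⟨0, fun h => absurd h hχ⟩
  choose u hu using hint'
  have hN2 := S.N_eq
  have hH2 := S.two_le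
  have hub : ∀ χ ∈ s, ∀ k, u χ (S.base k) = 0 := fun χ hχ k => by
    exact_mod_cast (hu χ (S.base k) hχ).trans (S.coef_base _ k)
  have hu0 : ∀ χ ∈ s, u χ 0 = 0 := fun χ hχ => by
    simpa [S.base_even (map_zero S.par)] using hub χ hχ 0
  have hu1 : ∀ χ ∈ s, u χ 1 = 0 := fun χ hχ => by simpa [S.base_one] using hub χ hχ 1
  have huτ : ∀ χ ∈ s, ∀ k, u χ (S.τ * k) = u χ k := fun χ hχ k => by
    exact_mod_cast ((hu χ _ hχ).trans (S.coef_τ (hτ χ hχ) k)).trans (hu χ k hχ).symm
  have huneg : ∀ χ ∈ s, ∀ k, S.par k = 0 → u χ (-k) = u χ k := fun χ hχ k hk => by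
    rw [← S.τ_even hk, huτ χ hχ]
  set φ : ZMod S.N → ℤ := fun t => if t = 0 then 1 else 0 with hφ
  have hgram : ∀ k j, ∑ χ ∈ s, u χ k * u χ j =
      φ (j - k) - φ (S.base j - k) - φ (j - S.base k) + φ (S.base j - S.base k) +
        (φ (S.τ * j - k) - φ (S.τ * S.base j - k) - φ (S.τ * j - S.base k) +
          φ (S.τ * S.base j - S.base k)) := by
    intro k j
    apply Int.cast_injective (α := ℂ)
    have h := S.gram s f horth k j
    simp only [hφ]
    push_cast
    rw [← h]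
    refine Finset.sum_congr rfl fun χ hχ => ?_
    rw [← hu χ k hχ, ← hu χ j hχ, map_intCast]
  have hudeg : ∀ k, ∑ χ ∈ s, u χ k * (d χ : ℤ) = 0 := by
    intro k
    apply Int.cast_injective (α := ℂ)
    push_cast
    rw [Finset.sum_congr rfl fun χ hχ => show (u χ k : ℂ) * (d χ : ℂ) =
      (S.N : ℂ)⁻¹ * ∑ l ∈ S.free, S.cf k l * (f χ l * (d χ : ℂ)) by
        rw [hu χ k hχ, S.coef_eq_free, mul_assoc, Finset.sum_mul]
        exact congrArg _ (Finset.sum_congr rfl fun l _ => by ring),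
      ← Finset.mul_sum, Finset.sum_comm]
    refine mul_eq_zero_of_right _ (Finset.sum_eq_zero fun l hl => ?_)
    rw [← Finset.mul_sum, hdeg l hl, mul_zero]
  set w : ι → ℤ := fun χ => u χ (S.H : ZMod S.N) with hw
  have hwn : ∑ χ ∈ s, w χ ^ 2 = 4 := by
    simp only [hw, sq]
    rw [hgram, S.base_even S.par_H, S.τ_H]
    simp [hφ, S.H_ne]
  have hcast : ∀ a b : ℕ, a < S.N → b < S.N → ((a : ZMod S.N) = b ↔ a = b) := fun a b ha hb => by
    rw [ZMod.natCast_eq_natCast_iff', Nat.mod_eq_of_lt ha, Nat.mod_eq_of_lt hb]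
  -- the value at the elements of order four
  have hhalfv : ∀ χ ∈ s, ∃ m : ℤ, f χ (S.H / 2 : ℕ) = (m : ℂ) ∧ (Odd m ↔ Odd (w χ)) := by
    intro χ hχ
    set h : ZMod S.N := ((S.H / 2 : ℕ) : ZMod S.N) with hh
    have h2h : 2 * h = (S.H : ZMod S.N) := by
      rw [hh, ← Nat.cast_two, ← Nat.cast_mul, Nat.two_mul_div_two_of_even S.even_H]
    have hhfree : 2 * h ≠ 0 := by rw [h2h]; exact S.H_ne
    rw [S.value_eq (f χ) hhfree, Finset.sum_congr rfl fun k _ => by rw [← hu χ k hχ],
      ← Finset.sum_filter_add_sum_filter_not univ (fun k => S.par k = 0)]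
    have hodd : ∑ k ∈ univ.filter (fun k => ¬ S.par k = 0), (u χ k : ℂ) * S.e (h * k) = 0 := by
      set T := ∑ k ∈ univ.filter (fun k => ¬ S.par k = 0), (u χ k : ℂ) * S.e (h * k) with hT
      have h1 : T = -T := by
        conv_rhs => rw [hT, ← Finset.sum_neg_distrib]
        refine Finset.sum_bij' (fun k _ => S.τ * k) (fun k _ => S.τ * k) ?_ ?_
          (fun k _ => S.τ_τ k) (fun k _ => S.τ_τ k) fun k hk => ?_
        · intro k hk
          simp only [mem_filter, mem_univ, true_and] at hk ⊢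
          rwa [map_mul, S.par_τ, one_mul]
        · intro k hk
          simp only [mem_filter, mem_univ, true_and] at hk ⊢
          rwa [map_mul, S.par_τ, one_mul]
        · have hp := (mem_filter.1 hk).2
          have hh2 : S.e (h * k) = -S.e (h * (S.τ * k)) := by
            have e1 : h * (S.τ * k) = -(h * k) := by
              rw [← mul_assoc, mul_comm h S.τ, hh, S.τ_half, neg_mul]
            have e2 : S.e (h * k) * S.e (h * k) = -1 := by
              rw [← AddChar.map_add_eq_mul, ← two_mul, ← mul_assoc, h2h, S.e_H_mul, if_neg hp]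
            have e3 : S.e (h * k) * S.e (-(h * k)) = 1 := by
              rw [← AddChar.map_add_eq_mul, add_neg_cancel, S.e_zero]
            rw [e1]
            linear_combination (-(S.e (h * k))) * e3 + S.e (-(h * k)) * e2
          rw [huτ χ hχ, hh2, mul_neg]
      linear_combination h1 / 2
    have hsign : ∀ k, S.par k = 0 → ∃ σ : ℤ, (σ = 1 ∨ σ = -1) ∧ S.e (h * k) = (σ : ℂ) := by
      intro k hk
      obtain ⟨m, rfl⟩ := S.exists_two_mul hk
      rw [← mul_assoc, mul_comm h 2, h2h, S.e_H_mul]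
      split_ifs
      · exact ⟨1, Or.inl rfl, by simp⟩
      · exact ⟨-1, Or.inr rfl, by simp⟩
    choose! σ hσ hσe using hsign
    refine ⟨∑ k ∈ univ.filter (fun k => S.par k = 0), u χ k * σ k, ?_, ?_⟩
    · rw [hodd, add_zero]
      push_cast
      exact Finset.sum_congr rfl fun k hk => by rw [hσe k (mem_filter.1 hk).2]
    · have hcast2 : ∀ z : ℤ, Odd z ↔ (z : ZMod 2) = 1 := fun z => by
        rw [← Int.not_even_iff_odd, even_iff_two_dvd]
        have e := ZMod.intCast_zmod_eq_zero_iff_dvd z 2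
        push_cast at e
        rw [← e]
        have h1 : ∀ a : ZMod 2, ¬ a = 0 ↔ a = 1 := by decide
        exact h1 _
      rw [hcast2, hcast2]
      have e : ((∑ k ∈ univ.filter (fun k => S.par k = 0), u χ k * σ k : ℤ) : ZMod 2) =
          ∑ k ∈ univ.filter (fun k => S.par k = 0), (u χ k : ZMod 2) := by
        push_cast
        refine Finset.sum_congr rfl fun k hk => ?_
        rcases hσ k (mem_filter.1 hk).2 with e | e <;> rw [e] <;> simp
      rw [e, ← Finset.sum_filter_add_sum_filter_not (univ.filter fun k => S.par k = 0)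
        (fun k : ZMod S.N => 2 * k = 0)]
      have hz : ∑ k ∈ (univ.filter fun k => S.par k = 0).filter (fun k : ZMod S.N => ¬ 2 * k = 0),
          (u χ k : ZMod 2) = 0 := by
        refine Finset.sum_involution (fun k _ => -k) (fun k hk => ?_) (fun k hk _ he => ?_)
          (fun k hk => ?_) fun k _ => neg_neg k
        · have hp := (mem_filter.1 (mem_filter.1 hk).1).2
          rw [huneg χ hχ k hp, CharTwo.add_self_eq_zero]
        · exact (mem_filter.1 hk).2 (by rw [two_mul]; exact eq_neg_iff_add_eq_zero.1 he.symm)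
        · simp only [mem_filter, mem_univ, true_and] at hk ⊢
          exact ⟨by rw [map_neg, hk.1, neg_zero], by rw [mul_neg, neg_eq_zero]; exact hk.2⟩
      rw [hz, add_zero, show ((univ.filter fun k => S.par k = 0).filter
        (fun k : ZMod S.N => 2 * k = 0)) = {0, (S.H : ZMod S.N)} by
          ext k
          simp only [mem_filter, mem_univ, true_and, mem_insert, mem_singleton, S.two_mul_eq_zero]
          exact ⟨fun h => h.2, fun h => ⟨by rcases h with rfl | rfl; exacts [map_zero _, S.par_H], h⟩⟩,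
        Finset.sum_pair S.H_ne.symm, hu0 χ hχ, Int.cast_zero, zero_add]
  -- the classes of an odd class under the multiplier
  set R : Finset (ZMod S.N) := univ.filter fun k => ¬ S.par k = 0 ∧ k.val ≤ (S.τ * k).val with hR
  set rep : ZMod S.N → ZMod S.N := fun k => if k.val ≤ (S.τ * k).val then k else S.τ * k with hrep
  have hrepR : ∀ k, ¬ S.par k = 0 → rep k ∈ R := fun k hk => by
    simp only [hrep, hR, mem_filter, mem_univ, true_and]
    split_ifs with h
    · exact ⟨hk, h⟩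
    · exact ⟨by rwa [map_mul, S.par_τ, one_mul], by rw [S.τ_τ]; omega⟩
  have hne : ∀ k, ¬ S.par k = 0 → S.τ * k ≠ k := fun k hk h => hk (by
    rcases S.two_mul_eq_zero.1 (S.τ_fix k h) with rfl | rfl
    exacts [map_zero _, S.par_H])
  have hrepu : ∀ χ ∈ s, ∀ k, u χ (rep k) = u χ k := fun χ hχ k => by
    simp only [hrep]; split_ifs
    · rfl
    · exact huτ χ hχ k
  have hval : ∀ a b : ZMod S.N, a.val = b.val → a = b := fun a b h => ZMod.val_injective _ h
  have hrep_id : ∀ r ∈ R, rep r = r := fun r hr => by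
    simp only [hrep, if_pos (mem_filter.1 hr).2.2]
  have hR1 : (1 : ZMod S.N) ∈ R := by
    refine mem_filter.2 ⟨mem_univ _, by rw [map_one]; decide, ?_⟩
    rw [mul_one]
    have h1 : (1 : ZMod S.N).val = 1 := by
      rw [← Nat.cast_one, ZMod.val_natCast_of_lt (by omega : 1 < S.N)]
    rw [h1]
    by_contra hlt
    have h0 : S.τ = 0 := (ZMod.val_eq_zero _).1 (by omega)
    have := S.τ_sq
    rw [h0, zero_mul] at this
    refine (?_ : (1 : ZMod S.N) ≠ 0) this.symm
    intro e
    rw [e, ZMod.val_zero] at h1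
    omega
  have hRcard : R.card * 2 = S.H := by
    have hO := S.two_card_par.2
    rw [← Finset.card_filter_add_card_filter_not (s := univ.filter fun k => ¬ S.par k = 0)
      (fun k : ZMod S.N => k.val ≤ (S.τ * k).val), Finset.filter_filter, Finset.filter_filter] at hO
    have hbij : (univ.filter fun k => ¬ S.par k = 0 ∧ ¬ k.val ≤ (S.τ * k).val).card = R.card := by
      refine Finset.card_bij' (fun k _ => S.τ * k) (fun k _ => S.τ * k) ?_ ?_
        (fun k _ => S.τ_τ k) (fun k _ => S.τ_τ k)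
      · intro k hk
        simp only [hR, mem_filter, mem_univ, true_and] at hk ⊢
        exact ⟨by rw [map_mul, S.par_τ, one_mul]; exact hk.1, by rw [S.τ_τ]; omega⟩
      · intro k hk
        simp only [hR, mem_filter, mem_univ, true_and] at hk ⊢
        refine ⟨by rw [map_mul, S.par_τ, one_mul]; exact hk.1, ?_⟩
        rw [S.τ_τ]
        intro h
        exact hne k hk.1 (hval _ _ (le_antisymm h hk.2))
    rw [hbij] at hO
    simp only [hR] at hO ⊢
    omega
  have hev0 : ∀ χ ∈ s, (∀ k, S.par k = 0 → 2 * k ≠ 0 → u χ k = 0) → w χ = 0 →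
      ∀ k, S.par k = 0 → u χ k = 0 := by
    intro χ hχ h hw0 k hk
    by_cases h2 : 2 * k = 0
    · rcases S.two_mul_eq_zero.1 h2 with rfl | rfl
      exacts [hu0 χ hχ, hw0]
    · exact h k hk h2
  have hshift : ∀ χ ∈ s, ∀ ε : ℂ, (∀ l ∈ S.free, f χ (l + (S.H : ZMod S.N)) = ε * f χ l) →
      ∀ k, u χ k ≠ 0 → ε = if S.par k = 0 then 1 else -1 := by
    intro χ hχ ε hε k hk
    have hcf : ∀ l, S.cf k (l + (S.H : ZMod S.N)) = (if S.par k = 0 then 1 else -1) * S.cf k l := by
      intro l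
      simp only [Setup.cf, add_mul, AddChar.map_add_eq_mul, S.e_H_mul, map_neg, S.par_base,
        neg_eq_zero]
      ring
    have h1 : (u χ k : ℂ) = (if S.par k = 0 then 1 else -1) * ε * (u χ k : ℂ) := by
      rw [hu χ k hχ]
      conv_lhs => rw [Setup.coef]
      rw [← Equiv.sum_comp (Equiv.addRight (S.H : ZMod S.N)) (fun l => f χ l * S.cf k l)]
      simp only [Equiv.coe_addRight, hcf]
      rw [Setup.coef]
      simp only [Finset.mul_sum]
      refine Finset.sum_congr rfl fun l _ => ?_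
      by_cases hl : l ∈ S.free
      · rw [hε l hl]; ring
      · rw [S.cf_eq_zero (not_not.1 fun h => hl (mem_filter.2 ⟨mem_univ _, h⟩))]; ring
    have h2 : (if S.par k = 0 then (1 : ℂ) else -1) * ε = 1 :=
      mul_right_cancel₀ (Int.cast_ne_zero.2 hk) (by rw [one_mul]; exact h1.symm)
    split_ifs at h2 ⊢
    · simpa using h2
    · linear_combination -h2
  -- the small case
  have hwzero : ∀ χ ∈ s, w χ ≠ 0 → ∃ k, S.par k = 0 ∧ u χ k ≠ 0 := fun χ _ h =>
    ⟨_, S.par_H, h⟩
  by_cases hsmall : S.H = 2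
  · have heven : ∀ k, S.par k = 0 → 2 * k = 0 := by
      intro k hk
      obtain ⟨m, rfl⟩ := S.exists_two_mul hk
      rw [← mul_assoc, show (2 : ZMod S.N) * 2 = ((S.N : ℕ) : ZMod S.N) by rw [hN2, hsmall]; norm_num,
        ZMod.natCast_self, zero_mul]
    have hRone : ∀ k, ¬ S.par k = 0 → rep k = 1 := fun k hk => by
      obtain ⟨a, ha⟩ := Finset.card_eq_one.1 (show R.card = 1 by omega)
      have h1 := hrepR k hk
      rw [ha, mem_singleton] at h1 hR1
      rw [h1, hR1]
    have hall : ∀ χ ∈ s, ∀ k, w χ = 0 → u χ k = 0 := by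
      intro χ hχ k hw0
      by_cases hk : S.par k = 0
      · exact hev0 χ hχ (fun k hk h2 => absurd (heven k hk) h2) hw0 k hk
      · rw [← hrepu χ hχ, hRone k hk, hu1 χ hχ]
    have hwsmall : ∀ χ ∈ s, w χ = 1 ∨ w χ = 0 ∨ w χ = -1 := by
      intro χ hχ
      have h1 : w χ ^ 2 ≤ 4 := hwn ▸ Finset.single_le_sum (fun a _ => sq_nonneg (w a)) hχ
      have hb : -2 ≤ w χ ∧ w χ ≤ 2 := ⟨by nlinarith, by nlinarith⟩
      by_contra hcon
      have h4 : w χ ^ 2 = 4 := by
        rcases (by omega : w χ = 2 ∨ w χ = -2) with e | e <;> rw [e] <;> norm_num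
      have hzero : ∀ a ∈ s, a ≠ χ → w a = 0 := fun a ha hne' => by
        have h := hwn
        rw [← Finset.add_sum_erase s _ hχ, h4] at h
        have := (Finset.sum_eq_zero_iff_of_nonneg fun b _ => sq_nonneg (w b)).1
          (by linarith : ∑ b ∈ s.erase χ, w b ^ 2 = 0) a (mem_erase.2 ⟨hne', ha⟩)
        exact pow_eq_zero_iff two_ne_zero |>.1 this
      have h5 := hudeg (S.H : ZMod S.N)
      rw [Finset.sum_eq_single χ (fun a ha hne' => by
        show w a * _ = 0; rw [hzero a ha hne', zero_mul]) (fun h => absurd hχ h)] at h5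
      rcases mul_eq_zero.1 h5 with h6 | h6
      · change w χ = 0 at h6; omega
      · exact (hd χ hχ).ne' (by exact_mod_cast h6)
    refine ⟨⟨w, ∅, ∅, hwsmall, ?_, hudeg _, by simp, by simp, by simp, fun χ hχ => ?_,
      fun χ hχ hw0 _ _ l hl => ?_, by simp, fun χ hχ ε hε => ⟨fun _ => by simp, fun he => ⟨?_, by simp⟩⟩,
      Or.inl ⟨hsmall, rfl, rfl⟩⟩⟩
    · rw [← Finset.sum_filter_of_ne (p := fun χ => w χ ≠ 0) (fun χ _ hu h0 => hu (by rw [h0]; norm_num)),
        Finset.sum_congr rfl (g := fun _ => (1 : ℤ)) fun χ hχ => by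
          obtain ⟨hs, hne'⟩ := mem_filter.1 hχ
          rcases hwsmall χ hs with e | e | e <;> simp_all] at hwn
      simp only [Finset.sum_const, nsmul_eq_mul, mul_one] at hwn
      exact_mod_cast hwn
    · obtain ⟨m, hm, hm'⟩ := hhalfv χ hχ
      refine ⟨m, hm, hm'.trans ?_⟩
      rcases hwsmall χ hχ with e | e | e <;> simp [e]
    · refine S.eq_zero_of_coef _ (fun k => ?_) hl
      rw [← hu χ k hχ, hall χ hχ k hw0, Int.cast_zero]
    · by_contra hw0
      have := hshift χ hχ ε hε _ hw0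
      rw [if_pos S.par_H, he] at this
      norm_num at this
  have hH4 : 4 ≤ S.H := by
    obtain ⟨i, hi⟩ := S.even_H
    omega
  -- the odd rows
  set R' := R.erase 1 with hR'
  have hRgram : ∀ k ∈ R', ∀ j ∈ R',
      ∑ χ ∈ s, u χ k * u χ j = (if j = k then 1 else 0) + 1 := by
    intro k hk j hj
    obtain ⟨hk1, hkR⟩ := mem_erase.1 hk
    obtain ⟨hj1, hjR⟩ := mem_erase.1 hj
    obtain ⟨-, hkp, hkv⟩ := mem_filter.1 hkR
    obtain ⟨-, hjp, hjv⟩ := mem_filter.1 hjR
    have hbk : S.base k = 1 := if_neg hkp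
    have hbj : S.base j = 1 := if_neg hjp
    have hτ1 : ∀ r ∈ R, r ≠ 1 → S.τ ≠ r := fun r hr hr1 h => by
      have h2 := (mem_filter.1 hr).2.2
      rw [← h, S.τ_sq] at h2
      have h3 : (1 : ZMod S.N).val = 1 := by
        rw [← Nat.cast_one, ZMod.val_natCast_of_lt (by omega : 1 < S.N)]
      rcases (by omega : S.τ.val = 0 ∨ S.τ.val = 1) with e | e
      · exact (mem_filter.1 hr).2.1 (by rw [← h, (ZMod.val_eq_zero _).1 e, map_zero])
      · exact hr1 (by rw [← h]; exact hval _ _ (e.trans h3.symm))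
    have n1 : (1 : ZMod S.N) - k ≠ 0 := sub_ne_zero.2 (Ne.symm hk1)
    have n2 : j - 1 ≠ 0 := sub_ne_zero.2 hj1
    have n3 : S.τ * 1 - k ≠ 0 := by rw [mul_one]; exact sub_ne_zero.2 (hτ1 k hkR hk1)
    have n4 : S.τ * j - 1 ≠ 0 := sub_ne_zero.2 fun h => hτ1 j hjR hj1 (by
      rw [← mul_one S.τ, ← h, S.τ_τ])
    have n5 : S.τ * 1 - 1 ≠ 0 := sub_ne_zero.2 (hne 1 (by rw [map_one]; decide))
    have n6 : S.τ * j - k ≠ 0 := sub_ne_zero.2 fun h => by
      rw [h] at hjv
      have h2 : S.τ * k = j := by rw [← h, S.τ_τ]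
      rw [h2] at hkv
      have h3 := hval _ _ (le_antisymm hjv hkv)
      exact hne j hjp (h.trans h3.symm)
    rw [hgram, hbk, hbj]
    simp only [hφ, if_neg n1, if_neg n2, if_neg n3, if_neg n4, if_neg n5, if_neg n6, sub_self,
      if_true, sub_eq_zero]
    split_ifs <;> norm_num
  have hpairs : ∀ k : R', ∃ p ∈ s, ∃ q ∈ s, p ≠ q ∧ d p = d q ∧
      ∀ χ ∈ s, u χ k = (if χ = p then 1 else 0) - if χ = q then 1 else 0 := fun k =>
    two_entries (fun χ => u χ k) (by simp only [sq]; rw [hRgram k k.2 k k.2]; simp) d hd (hudeg k)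
  choose P hP Q hQ hPQ hdPQ hPu using hpairs
  have hinner : ∀ k ∈ R'.attach, ∀ j ∈ R'.attach, k ≠ j →
      (if P k = P j then (1 : ℤ) else 0) + (if Q k = Q j then 1 else 0) -
        (if P k = Q j then 1 else 0) - (if Q k = P j then 1 else 0) = 1 := by
    intro k _ j _ hkj
    have h := hRgram k k.2 j j.2
    rw [if_neg (fun h => hkj (Subtype.ext h).symm), zero_add,
      Finset.sum_congr rfl fun χ hχ => by rw [hPu k χ hχ, hPu j χ hχ]] at h
    simp only [sub_mul, ite_mul, one_mul, zero_mul, Finset.sum_sub_distrib, Finset.sum_ite_eq',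
      hP k, hQ k, if_true] at h
    linarith
  have hR'ne : R'.Nonempty := by
    rw [← Finset.card_pos, hR', card_erase_of_mem hR1]; omega
  obtain ⟨k₀, hk₀⟩ := hR'ne
  -- centre `c`, leaves `g`, common sign
  obtain ⟨c, g, δ, hδ, hc, hg, hgc, hdg, hginj, hgu⟩ : ∃ (c : ι) (g : R' → ι) (δ : ℤ),
      (δ = 1 ∨ δ = -1) ∧ c ∈ s ∧ (∀ k, g k ∈ s) ∧ (∀ k, g k ≠ c) ∧ (∀ k, d (g k) = d c) ∧
      Function.Injective g ∧
      ∀ k : R', ∀ χ ∈ s, u χ k = δ * ((if χ = g k then 1 else 0) - if χ = c then 1 else 0) := by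
    rcases star_lemma R'.attach P Q (fun k _ => hPQ k) hinner with h | h
    · have hc : ∀ k : R', Q k = Q ⟨k₀, hk₀⟩ := fun k => (h k (mem_attach _ _) _ (mem_attach _ _)).1
      exact ⟨Q ⟨k₀, hk₀⟩, P, 1, Or.inl rfl, hQ _, hP, fun k e => hPQ k (e.trans (hc k).symm),
        fun k => by rw [hdPQ k, hc k],
        fun a b e => (h a (mem_attach _ _) b (mem_attach _ _)).2 e,
        fun k χ hχ => by rw [hPu k χ hχ, hc k, one_mul]⟩
    · have hc : ∀ k : R', P k = P ⟨k₀, hk₀⟩ := fun k => (h k (mem_attach _ _) _ (mem_attach _ _)).1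
      exact ⟨P ⟨k₀, hk₀⟩, Q, -1, Or.inr rfl, hP _, hQ, fun k e => hPQ k ((hc k).trans e.symm),
        fun k => by rw [← hdPQ k, hc k],
        fun a b e => (h a (mem_attach _ _) b (mem_attach _ _)).2 e,
        fun k χ hχ => by rw [hPu k χ hχ, hc k]; ring⟩
  set Od : Finset ι := insert c (univ.image g) with hOd
  have hcimg : c ∉ univ.image g := by simpa using fun k hk e => hgc ⟨k, hk⟩ e
  have hOdcard : Od.card * 2 = S.H := by
    rw [hOd, card_insert_of_notMem hcimg, card_image_of_injective _ hginj, card_univ,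
      Fintype.card_coe, hR', card_erase_of_mem hR1]
    omega
  have hOdsub : Od ⊆ s := by
    intro χ hχ
    rcases mem_insert.1 hχ with rfl | h
    · exact hc
    · obtain ⟨k, -, rfl⟩ := mem_image.1 h; exact hg k
  have hoff : ∀ χ ∈ s, χ ∉ Od → ∀ k, ¬ S.par k = 0 → u χ k = 0 := by
    intro χ hχ hnot k hk
    rw [← hrepu χ hχ]
    by_cases h1 : rep k = 1
    · rw [h1, hu1 χ hχ]
    · rw [hgu ⟨rep k, mem_erase.2 ⟨h1, hrepR k hk⟩⟩ χ hχ, if_neg fun e => hnot (by
        rw [e]; exact mem_insert_of_mem (mem_image_of_mem g (mem_univ _))),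
        if_neg fun e => hnot (by rw [e]; exact mem_insert_self _ _), sub_zero, mul_zero]
  have hOdnz : ∀ χ ∈ Od, ∃ k, ¬ S.par k = 0 ∧ u χ k ≠ 0 := by
    intro χ hχ
    rcases mem_insert.1 hχ with rfl | h
    · refine ⟨k₀, (mem_filter.1 (mem_erase.1 hk₀).2).2.1, ?_⟩
      rw [show u χ k₀ = _ from hgu ⟨k₀, hk₀⟩ χ hc, if_neg (hgc _).symm, if_pos rfl]
      rcases hδ with e | e <;> simp [e]
    · obtain ⟨k, -, rfl⟩ := mem_image.1 h
      refine ⟨k, (mem_filter.1 (mem_erase.1 k.2).2).2.1, ?_⟩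
      rw [hgu k _ (hg k), if_pos rfl, if_neg (hgc k)]
      rcases hδ with e | e <;> simp [e]
  -- the sums over the odd classes
  have hodd : ∀ χ ∈ Od, (S.N : ℤ) * ∑ k ∈ univ.filter (fun k => ¬ S.par k = 0), u χ k ^ 2 -
      2 * (∑ k ∈ univ.filter (fun k => ¬ S.par k = 0), u χ k) ^ 2 = 4 * (S.H : ℤ) - 8 := by
    intro χ hχ
    rcases mem_insert.1 hχ with rfl | h
    · have hval' : ∀ k ∈ univ.filter (fun k => ¬ S.par k = 0),
          u χ k = if k = 1 ∨ k = S.τ then 0 else -δ := by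
        intro k hk
        have hk' := (mem_filter.1 hk).2
        split_ifs with h1
        · rcases h1 with rfl | rfl
          · exact hu1 χ hc
          · have := huτ χ hc 1; rw [mul_one] at this; rw [this, hu1 χ hc]
        · rw [← hrepu χ hc]
          have h2 : rep k ≠ 1 := by
            simp only [hrep]
            split_ifs
            · exact fun e => h1 (Or.inl e)
            · intro e; exact h1 (Or.inr (by rw [← S.τ_τ k, e, mul_one]))
          rw [hgu ⟨rep k, mem_erase.2 ⟨h2, hrepR k hk'⟩⟩ χ hc, if_neg (hgc _).symm, if_pos rfl]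
          ring
      have hcount : ((univ.filter fun k => ¬ S.par k = 0).filter
          fun k => ¬ (k = 1 ∨ k = S.τ)).card + 2 = S.H := by
        have h2 := Finset.card_filter_add_card_filter_not
          (s := univ.filter fun k => ¬ S.par k = 0) (fun k => k = 1 ∨ k = S.τ)
        rw [show ((univ.filter fun k => ¬ S.par k = 0).filter fun k => k = 1 ∨ k = S.τ) = {1, S.τ} by
          ext k
          simp only [mem_filter, mem_univ, true_and, mem_insert, mem_singleton]
          exact ⟨fun h => h.2, fun h => ⟨by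
            rcases h with rfl | rfl
            · rw [map_one]; decide
            · rw [S.par_τ]; decide, h⟩⟩,
          card_pair (fun e => hne 1 (by rw [map_one]; decide) (by rw [mul_one, ← e])),
          S.two_card_par.2] at h2
        omega
      rw [Finset.sum_congr rfl fun k hk => by rw [hval' k hk], Finset.sum_congr rfl hval']
      simp only [apply_ite (fun z : ℤ => z ^ 2), ne_eq, OfNat.ofNat_ne_zero, not_false_eq_true,
        zero_pow, Finset.sum_ite, Finset.sum_const_zero, zero_add, Finset.sum_const, nsmul_eq_mul]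
      set K := ((univ.filter fun k => ¬ S.par k = 0).filter fun k => ¬ (k = 1 ∨ k = S.τ)).card
      have hK : (K : ℤ) = (S.H : ℤ) - 2 := by omega
      rw [hK, hN2]
      push_cast
      rcases hδ with e | e <;> rw [e] <;> ring
    · obtain ⟨r, -, rfl⟩ := mem_image.1 h
      have hr := mem_filter.1 (mem_erase.1 r.2).2
      have hval' : ∀ k ∈ univ.filter (fun k => ¬ S.par k = 0),
          u (g r) k = if k = (r : ZMod S.N) ∨ k = S.τ * r then δ else 0 := by
        intro k hk
        have hk' := (mem_filter.1 hk).2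
        rw [← hrepu _ (hg r)]
        split_ifs with h1
        · have h2 : rep k = r := by
            rcases h1 with rfl | rfl
            · exact hrep_id _ (mem_erase.1 r.2).2
            · simp only [hrep, S.τ_τ]
              split_ifs with h3
              · exact absurd (hval _ _ (le_antisymm h3 hr.2.2)) (hne r hr.2.1)
              · rfl
          rw [h2, hgu r _ (hg r), if_pos rfl, if_neg (hgc r)]
          ring
        · by_cases h3 : rep k = 1
          · rw [h3, hu1 _ (hg r)]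
          rw [hgu ⟨rep k, mem_erase.2 ⟨h3, hrepR k hk'⟩⟩ _ (hg r), if_neg (hgc r), if_neg, sub_zero,
            mul_zero]
          intro e
          have e' : rep k = r := congrArg Subtype.val (hginj e).symm
          simp only [hrep] at e'
          split_ifs at e'
          · exact h1 (Or.inl e')
          · exact h1 (Or.inr (by rw [← e', S.τ_τ]))
      have hpair : ((univ.filter fun k => ¬ S.par k = 0).filter
          fun k => k = (r : ZMod S.N) ∨ k = S.τ * r).card = 2 := by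
        rw [show ((univ.filter fun k => ¬ S.par k = 0).filter
          fun k => k = (r : ZMod S.N) ∨ k = S.τ * r) = {(r : ZMod S.N), S.τ * r} by
            ext k
            simp only [mem_filter, mem_univ, true_and, mem_insert, mem_singleton]
            exact ⟨fun h => h.2, fun h => ⟨by
              rcases h with rfl | rfl
              · exact hr.2.1
              · rw [map_mul, S.par_τ, one_mul]; exact hr.2.1, h⟩⟩,
          card_pair (hne r hr.2.1).symm]
      rw [Finset.sum_congr rfl fun k hk => by rw [hval' k hk], Finset.sum_congr rfl hval']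
      simp only [apply_ite (fun z : ℤ => z ^ 2), ne_eq, OfNat.ofNat_ne_zero, not_false_eq_true,
        zero_pow, Finset.sum_ite, Finset.sum_const_zero, add_zero, Finset.sum_const, nsmul_eq_mul,
        hpair, hN2]
      push_cast
      rcases hδ with e | e <;> rw [e] <;> ring
  have hodd0 : ∀ χ ∈ s, χ ∉ Od → (S.N : ℤ) * ∑ k ∈ univ.filter (fun k => ¬ S.par k = 0), u χ k ^ 2 -
      2 * (∑ k ∈ univ.filter (fun k => ¬ S.par k = 0), u χ k) ^ 2 = 0 := by
    intro χ hχ hnot
    rw [Finset.sum_eq_zero fun k hk => by rw [hoff χ hχ hnot k (mem_filter.1 hk).2]; norm_num,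
      Finset.sum_eq_zero fun k hk => hoff χ hχ hnot k (mem_filter.1 hk).2]
    norm_num
  have horthEO : ∀ k j, S.par k = 0 → ¬ S.par j = 0 → ∑ χ ∈ s, u χ k * u χ j = 0 := by
    intro k j hk hj
    have hz : ∀ a b, S.par a = 0 → ¬ S.par b = 0 → φ (b - a) = 0 := fun a b ha hb => by
      refine if_neg fun h => hb ?_
      rw [sub_eq_zero.1 h, ha]
    have hbk : S.par (S.base k) = 0 := by rw [S.par_base, hk]
    have hbj : ¬ S.par (S.base j) = 0 := by rw [S.par_base]; exact hj
    have hτj : ∀ a, ¬ S.par a = 0 → ¬ S.par (S.τ * a) = 0 := fun a ha => by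
      rwa [map_mul, S.par_τ, one_mul]
    rw [hgram, hz k j hk hj, hz k _ hk hbj, hz _ j hbk hj, hz _ _ hbk hbj, hz k _ hk (hτj j hj),
      hz k _ hk (hτj _ hbj), hz _ _ hbk (hτj j hj), hz _ _ hbk (hτj _ hbj)]
    norm_num
  have hOdw : ∀ a ∈ Od, w a = w c := by
    intro a ha
    rcases mem_insert.1 ha with rfl | h
    · rfl
    obtain ⟨k, -, rfl⟩ := mem_image.1 h
    have h1 := horthEO (S.H : ZMod S.N) k S.par_H (mem_filter.1 (mem_erase.1 k.2).2).2.1
    rw [Finset.sum_congr rfl fun χ hχ => by rw [hgu k χ hχ]] at h1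
    simp only [mul_sub, mul_ite, mul_one, mul_zero, Finset.sum_sub_distrib, Finset.sum_ite_eq', hg k,
      hc, if_true] at h1
    change w (g k) * δ - w c * δ = 0 at h1
    rcases hδ with e | e <;> rw [e] at h1 <;> linarith
  -- the even rows
  set h := S.H / 2 - 1 with hh
  have hh2 : 2 * (h + 1) = S.H := by
    obtain ⟨i, hi⟩ := S.even_H
    omega
  have hodd_h : Odd h := by
    obtain ⟨i, hi⟩ := S.four_dvd.resolve_left hsmall
    exact ⟨i - 1, by omega⟩
  set kv : Fin h → ZMod S.N := fun j => ((2 * ((j : ℕ) + 1) : ℕ) : ZMod S.N) with hkv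
  have hkp : ∀ j, S.par (kv j) = 0 := fun j => by
    rw [hkv]; dsimp only
    rw [map_natCast, ZMod.natCast_eq_zero_iff]
    exact dvd_mul_right 2 _
  have hk0 : ∀ j, kv j ≠ 0 := fun j e => by
    have := j.2
    simp only [hkv] at e
    rw [← Nat.cast_zero, hcast _ _ (by omega) (by omega)] at e
    omega
  have hkH : ∀ j, kv j ≠ (S.H : ZMod S.N) := fun j e => by
    have := j.2
    simp only [hkv] at e
    rw [hcast _ _ (by omega) (by omega)] at e
    omega
  have hksum : ∀ i j, kv i + kv j ≠ 0 := fun i j e => by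
    have := i.2
    have := j.2
    simp only [hkv] at e
    rw [← Nat.cast_add, ← Nat.cast_zero, hcast _ _ (by omega) (by omega)] at e
    omega
  have hkinj : Function.Injective kv := fun i j e => by
    have := i.2
    have := j.2
    simp only [hkv] at e
    rw [hcast _ _ (by omega) (by omega)] at e
    exact Fin.ext (by omega)
  have hev_gram : ∀ k j, S.par k = 0 → S.par j = 0 → k ≠ 0 → j ≠ 0 →
      ∑ χ ∈ s, u χ k * u χ j = (if j = k then 1 else 0) + (if k + j = 0 then 1 else 0) + 2 := by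
    intro k j hk hj hk0' hj0'
    rw [hgram, S.base_even hk, S.base_even hj, S.τ_even hj, mul_zero]
    simp only [hφ, zero_sub, sub_zero, neg_eq_zero, if_neg hk0', if_neg hj0', if_true, sub_eq_zero]
    have e : (-j = k) ↔ k + j = 0 := by
      rw [neg_eq_iff_add_eq_zero, add_comm]
    simp only [e]
    ring
  have hcover : ∀ k, S.par k = 0 → 2 * k ≠ 0 → ∃ j, k = kv j ∨ k = -kv j := by
    intro k hk h2
    obtain ⟨a, ha, rfl⟩ : ∃ a : ℕ, a < S.N ∧ k = (a : ZMod S.N) :=
      ⟨k.val, ZMod.val_lt k, (ZMod.natCast_zmod_val k).symm⟩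
    rw [map_natCast, ZMod.natCast_eq_zero_iff] at hk
    obtain ⟨b, rfl⟩ := hk
    have hb0 : b ≠ 0 := fun e => h2 (by subst e; simp)
    have hbH : 2 * b ≠ S.H := fun e => h2 (by rw [e, S.two_mul_H])
    rcases lt_or_gt_of_ne hbH with hlt | hgt
    · refine ⟨⟨b - 1, by omega⟩, Or.inl ?_⟩
      simp only [hkv]
      congr 1
      omega
    · refine ⟨⟨S.H - b - 1, by omega⟩, Or.inr ?_⟩
      rw [eq_neg_iff_add_eq_zero]
      simp only [hkv]
      rw [← Nat.cast_add, ZMod.natCast_eq_zero_iff]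
      exact ⟨1, by omega⟩
  set v : Fin h → ι → ℤ := fun j χ => u χ (kv j) with hv
  set s' := s.filter fun χ => w χ ≠ 0 ∨ ∃ j, v j χ ≠ 0 with hs'
  have hevzero : ∀ χ ∈ s, w χ = 0 → (∀ j, v j χ = 0) → ∀ k, S.par k = 0 → u χ k = 0 := by
    intro χ hχ hw0 hv0 k hk
    refine hev0 χ hχ (fun k hk h2 => ?_) hw0 k hk
    obtain ⟨j, rfl | rfl⟩ := hcover k hk h2
    · exact hv0 j
    · rw [huneg χ hχ _ (hkp j)]; exact hv0 j
  have hsum' : ∀ g : ι → ℤ, (∀ χ ∈ s, g χ ≠ 0 → w χ ≠ 0 ∨ ∃ j, v j χ ≠ 0) →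
      ∑ χ ∈ s', g χ = ∑ χ ∈ s, g χ := fun g hg' => Finset.sum_filter_of_ne hg'
  have hvne : ∀ j χ (z : ℤ), v j χ * z ≠ 0 → w χ ≠ 0 ∨ ∃ i, v i χ ≠ 0 := fun j χ z hne' =>
    Or.inr ⟨j, left_ne_zero_of_mul hne'⟩
  obtain ⟨hwpm, hwc, hconf⟩ := dihedral_config s' d (fun χ hχ => hd χ (mem_filter.1 hχ).1) hodd_h v w
    (fun j => by
      simp only [sq]
      rw [hsum' _ fun χ _ h => hvne j χ _ h]
      simp only [hv]
      rw [hev_gram _ _ (hkp j) (hkp j) (hk0 j) (hk0 j), if_pos rfl, if_neg (hksum j j)]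
      norm_num)
    (by
      rw [hsum' _ fun χ _ h => Or.inl fun e => h (by rw [e]; norm_num)]
      exact hwn)
    (fun i j hij => by
      rw [hsum' _ fun χ _ h => hvne i χ _ h]
      simp only [hv]
      rw [hev_gram _ _ (hkp i) (hkp j) (hk0 i) (hk0 j), if_neg fun e => hij (hkinj e).symm,
        if_neg (hksum i j)]
      norm_num)
    (fun j => by
      rw [hsum' _ fun χ _ h => hvne j χ _ h]
      simp only [hv, hw]
      rw [hev_gram _ _ (hkp j) S.par_H (hk0 j) S.H_ne, if_neg (hkH j).symm, if_neg]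
      · norm_num
      · intro e
        refine hkH j ?_
        rw [eq_neg_of_add_eq_zero_left e, neg_eq_iff_add_eq_zero, ← two_mul, S.two_mul_H])
    (fun j => by rw [hsum' _ fun χ _ h => hvne j χ _ h]; exact hudeg _)
    (by
      rw [hsum' _ fun χ _ h => Or.inl (left_ne_zero_of_mul h)]
      exact hudeg _)
    (fun χ hχ => (mem_filter.1 hχ).2)
  have hs'w : s'.filter (fun χ => w χ ≠ 0) = s.filter (fun χ => w χ ≠ 0) := by
    ext χ
    simp only [hs', mem_filter]
    exact ⟨fun h => ⟨h.1.1, h.2⟩, fun h => ⟨⟨h.1, Or.inl h.2⟩, h.2⟩⟩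
  have hwpm' : ∀ χ ∈ s, w χ = 1 ∨ w χ = 0 ∨ w χ = -1 := fun χ hχ => by
    by_cases h0 : w χ = 0
    · exact Or.inr (Or.inl h0)
    · exact hwpm χ (mem_filter.2 ⟨hχ, Or.inl h0⟩)
  set Ev : Finset ι := s'.filter fun χ => w χ = 0 with hEv
  have hEvnot : ∀ χ ∈ s, w χ = 0 → χ ∉ Ev → ∀ k, S.par k = 0 → u χ k = 0 := fun χ hχ hw0 hnot =>
    hevzero χ hχ hw0 fun j => by
      by_contra hne'
      exact hnot (mem_filter.2 ⟨mem_filter.2 ⟨hχ, Or.inr ⟨j, hne'⟩⟩, hw0⟩)
  have hnorm : ∀ χ ∈ s, freeNorm S (f χ) =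
      ((((S.N : ℤ) * ∑ k ∈ univ.filter (fun k => S.par k = 0), u χ k ^ 2 -
        2 * (∑ k ∈ univ.filter (fun k => S.par k = 0), u χ k) ^ 2) +
      ((S.N : ℤ) * ∑ k ∈ univ.filter (fun k => ¬ S.par k = 0), u χ k ^ 2 -
        2 * (∑ k ∈ univ.filter (fun k => ¬ S.par k = 0), u χ k) ^ 2) : ℤ) : ℂ) := fun χ hχ => by
    rw [S.freeNorm_eq (f χ) (u χ) fun k => hu χ k hχ,
      ← Finset.sum_filter_add_sum_filter_not univ (fun k => S.par k = 0) (fun k => u χ k ^ 2)]
    congr 1
    ring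
  refine ⟨⟨w, Ev, Od, hwpm', hs'w ▸ hwc, hudeg _,
    fun χ hχ => ⟨(mem_filter.1 (mem_filter.1 hχ).1).1, (mem_filter.1 hχ).2⟩, hOdsub,
    fun a ha b hb => ⟨?_, (hOdw a ha).trans (hOdw b hb).symm⟩, fun χ hχ => ?_,
    fun χ hχ hw0 hnE hnO l hl => ?_, fun χ hχ hw0 hnE => ?_, fun χ hχ ε hε => ⟨?_, ?_⟩,
    Or.inr ⟨hH4, hOdcard, ?_⟩⟩⟩
  · have hdeq : ∀ a ∈ Od, d a = d c := fun a ha => by
      rcases mem_insert.1 ha with rfl | h'
      · rfl
      · obtain ⟨k, -, rfl⟩ := mem_image.1 h'; exact hdg k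
    rw [hdeq a ha, hdeq b hb]
  · obtain ⟨m, hm, hm'⟩ := hhalfv χ hχ
    refine ⟨m, hm, hm'.trans ?_⟩
    rcases hwpm' χ hχ with e | e | e <;> simp [e]
  · refine S.eq_zero_of_coef _ (fun k => ?_) hl
    rw [← hu χ k hχ]
    by_cases hk : S.par k = 0
    · rw [hEvnot χ hχ hw0 hnE k hk, Int.cast_zero]
    · rw [hoff χ hχ hnO k hk, Int.cast_zero]
  · have hs := hOdsub hχ
    rw [hnorm χ hs, hodd χ hχ, Finset.sum_eq_zero fun k hk => by
        rw [hEvnot χ hs hw0 hnE k (mem_filter.1 hk).2]; norm_num,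
      Finset.sum_eq_zero fun k hk => hEvnot χ hs hw0 hnE k (mem_filter.1 hk).2]
    push_cast
    ring
  · intro he hmem
    obtain ⟨k, hk, hk'⟩ := hOdnz χ hmem
    have := hshift χ hχ ε hε k hk'
    rw [if_neg hk, he] at this
    norm_num at this
  · intro he
    have key : ∀ k, S.par k = 0 → u χ k = 0 := fun k hk => by
      by_contra hk'
      have := hshift χ hχ ε hε k hk'
      rw [if_pos hk, he] at this
      norm_num at this
    refine ⟨key _ S.par_H, fun hmem => ?_⟩
    obtain ⟨h1, h2⟩ := mem_filter.1 hmem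
    rcases (mem_filter.1 h1).2 with h3 | ⟨j, hj⟩
    · exact h3 h2
    · exact hj (key _ (hkp j))
  rcases hconf with ⟨ev, hevinj, hev⟩ | ⟨h3, -, -, -, h5, -⟩
  · left
    have hEvimg : Ev = univ.image ev := by
      ext χ
      simp only [hEv, mem_filter, mem_image, mem_univ, true_and]
      constructor
      · rintro ⟨h1, h2⟩
        by_contra hno
        obtain ⟨j, hj⟩ := ((mem_filter.1 h1).2).resolve_left (not_not.2 h2)
        exact hj ((hev j).2.2.2 χ h1 h2 fun e => hno ⟨j, e.symm⟩)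
      · rintro ⟨j, rfl⟩
        exact ⟨(hev j).1, (hev j).2.1⟩
    refine ⟨?_, fun χ hχ => ?_⟩
    · rw [hEvimg, card_image_of_injective _ hevinj, card_univ, Fintype.card_fin]; omega
    rw [hEvimg] at hχ
    obtain ⟨j, -, rfl⟩ := mem_image.1 hχ
    obtain ⟨hj1, hj2, hj3, -⟩ := hev j
    have hjs := (mem_filter.1 hj1).1
    have hvals : ∀ k ∈ univ.filter (fun k => S.par k = 0),
        u (ev j) k = if k = kv j ∨ k = -kv j then v j (ev j) else 0 := by
      intro k hk
      have hk' := (mem_filter.1 hk).2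
      split_ifs with h1
      · rcases h1 with rfl | rfl
        · rfl
        · exact huneg _ hjs _ (hkp j)
      by_cases h2 : 2 * k = 0
      · rcases S.two_mul_eq_zero.1 h2 with rfl | rfl
        exacts [hu0 _ hjs, hj2]
      obtain ⟨i, hi⟩ := hcover k hk' h2
      have hij : i ≠ j := fun e => h1 (e ▸ hi)
      have h0 : v i (ev j) = 0 := (hev i).2.2.2 _ hj1 hj2 fun e => hij (hevinj e).symm
      rcases hi with rfl | rfl
      · exact h0
      · rw [huneg _ hjs _ (hkp i)]; exact h0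
    have hpair : ((univ.filter fun k => S.par k = 0).filter
        fun k => k = kv j ∨ k = -kv j).card = 2 := by
      rw [show ((univ.filter fun k => S.par k = 0).filter fun k => k = kv j ∨ k = -kv j) =
        {kv j, -kv j} by
          ext k
          simp only [mem_filter, mem_univ, true_and, mem_insert, mem_singleton]
          exact ⟨fun h => h.2, fun h => ⟨by
            rcases h with rfl | rfl
            · exact hkp j
            · rw [map_neg, hkp j, neg_zero], h⟩⟩,
        card_pair fun e => hksum j j (eq_neg_iff_add_eq_zero.1 e)]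
    rw [hnorm _ hjs, Finset.sum_congr rfl fun k hk => by rw [hvals k hk], Finset.sum_congr rfl hvals]
    simp only [apply_ite (fun z : ℤ => z ^ 2), ne_eq, OfNat.ofNat_ne_zero, not_false_eq_true,
      zero_pow, Finset.sum_ite, Finset.sum_const_zero, add_zero, Finset.sum_const, nsmul_eq_mul,
      hpair]
    split_ifs with hOd'
    · rw [hodd _ hOd', hN2]
      rcases hj3 with e | e <;> rw [e] <;> push_cast <;> ring
    · rw [hodd0 _ hjs hOd', hN2]
      rcases hj3 with e | e <;> rw [e] <;> push_cast <;> ring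
  · right
    refine ⟨by omega, ?_⟩
    have e := Finset.card_filter_add_card_filter_not (s := s') (fun χ => w χ ≠ 0)
    simp only [not_not] at e
    rw [hwc, h5] at e
    rw [hEv]
    omega

end CfsgLib.Blocks.SQFourier
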