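import Cfsg.Agent.Lib.Blocks.SQ.Group
import Cfsg.Agent.Lib.Blocks.SQ.Rows
import Cfsg.Agent.Lib.Blocks.SQ.Local
import Cfsg.Agent.Lib.Blocks.DihedralLocalBlock
import Cfsg.Agent.Lib.Blocks.CyclicFourier

/-!
# The columns of a block on the cyclic subgroup of a quaternion or semidihedral defect group
-/

set_option autoImplicit false
set_option linter.unusedSectionVars false
set_option linter.style.haveILetI false

namespace CfsgLib.Blocks

open Cfsg Chars BlockOrth Involutions Finset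
open scoped ComplexConjugate

universe u

namespace SQP

section Arith

variable {G : Type u} [Group G] [Finite G] {P : Subgroup G} (q : SQP P)

theorem H_eq : q.H = 2 * (q.H / 2) := by
  have : 2 ∣ q.H := dvd_pow_self 2 (by have := q.three_le; omega)
  omega

theorem H_ne_zero : q.H ≠ 0 := by have := q.two_le_H; omega

theorem tau_half_dvd : q.N ∣ q.τ * (q.H / 2) + q.H / 2 := by
  have hN := q.N_eq
  rw [← Nat.succ_mul]
  rcases hq : q.quat with _ | _
  · obtain ⟨a, ha⟩ := q.four_dvd_H (q.four_le hq)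
    have hs : q.τ.succ = q.H := by rw [q.tau_semi hq]; have := q.two_le_H; omega
    exact ⟨a, by rw [hs, hN, show q.H / 2 = 2 * a by omega, ha]; ring⟩
  · have hs : q.τ.succ = q.N := by rw [q.tau_quat hq]; have := q.N_pos; omega
    exact ⟨q.H / 2, by rw [hs]⟩

theorem two_tau_dvd : q.N ∣ 2 * q.τ + 2 := by
  obtain ⟨k, hk⟩ := q.tau_succ
  exact ⟨k, by rw [q.N_eq, show 2 * q.τ + 2 = 2 * (q.τ + 1) by ring, hk, mul_assoc]⟩

/-- The arithmetic of the exponents of `x`. -/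
noncomputable def setup : SQFourier.Setup where
  N := q.N
  H := q.H
  τ := (q.τ : ZMod q.N)
  N_eq := q.N_eq
  two_le := q.two_le_H
  even_H := ⟨q.H / 2, by have := q.H_eq; omega⟩
  τ_sq := by
    rw [← Nat.cast_mul, ← Nat.cast_one, ZMod.natCast_eq_natCast_iff]
    exact q.tau_sq
  τ_two := by
    rw [eq_neg_iff_add_eq_zero, ← Nat.cast_two, ← Nat.cast_mul, ← Nat.cast_add,
      ZMod.natCast_eq_zero_iff]
    exact q.two_tau_dvd
  τ_fix := by
    haveI : NeZero q.N := ⟨q.N_pos.ne'⟩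
    intro k hk
    obtain ⟨a, rfl⟩ := ZMod.natCast_zmod_surjective k
    rw [← Nat.cast_mul, ZMod.natCast_eq_natCast_iff] at hk
    obtain ⟨c, rfl⟩ := q.H_dvd_of_fixed (q.pow_eq_pow.2 hk)
    rw [← Nat.cast_two, ← Nat.cast_mul, ZMod.natCast_eq_zero_iff, ← mul_assoc, ← q.N_eq]
    exact Dvd.intro c rfl
  τ_half := by
    rw [eq_neg_iff_add_eq_zero, ← Nat.cast_mul, ← Nat.cast_add, ZMod.natCast_eq_zero_iff]
    exact q.tau_half_dvd
  four_dvd := by
    by_cases h : 4 ≤ q.n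
    · exact Or.inr (q.four_dvd_H h)
    · left
      show 2 ^ (q.n - 2) = 2
      have := q.three_le
      rw [show q.n - 2 = 1 by omega, pow_one]

theorem mem_free {l : ℕ} : (l : ZMod q.setup.N) ∈ q.setup.free ↔ ¬ q.H ∣ l := by
  simp only [SQFourier.Setup.free, mem_filter, mem_univ, true_and, Ne]
  rw [← Nat.cast_two, ← Nat.cast_mul, ZMod.natCast_eq_zero_iff]
  show ¬ q.N ∣ 2 * l ↔ _
  rw [q.N_eq]
  exact not_congr (Nat.mul_dvd_mul_iff_left two_pos)

/-- The element of order four in `⟨x⟩`. -/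
def i : G := q.x ^ (q.H / 2)

theorem i_mem : q.i ∈ P := pow_mem q.x_mem _

theorem i_sq : q.i * q.i = q.z := by
  rw [SQP.i, ← pow_add, ← two_mul, ← q.H_eq]
  rfl

theorem orderOf_i : orderOf q.i = 4 := by
  refine orderOf_eq_prime_pow (p := 2) (n := 1) ?_ ?_
  · rw [pow_one, sq, q.i_sq]
    exact q.z_ne_one
  · rw [show (2 : ℕ) ^ (1 + 1) = 2 * 2 from rfl, pow_mul, sq q.i, q.i_sq, sq, q.z_sq]

theorem half_free : ¬ q.H ∣ q.H / 2 := fun h => by
  have := q.H_eq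
  have := q.two_le_H
  have := Nat.le_of_dvd (by omega) h
  omega

theorem i_mem_zpowers {l : ℕ} (h : ¬ q.H ∣ l) : q.i ∈ Subgroup.zpowers (q.x ^ l) := by
  have h3 := q.three_le
  set g := Nat.gcd l q.N with hg
  have hgN : g ∣ 2 ^ (q.n - 1) := Nat.gcd_dvd_right l q.N
  obtain ⟨a, -, ha⟩ := (Nat.dvd_prime_pow Nat.prime_two).1 hgN
  have hdvd : g ∣ q.H / 2 := by
    have hH : q.H / 2 = 2 ^ (q.n - 3) := by
      show 2 ^ (q.n - 2) / 2 = _
      rw [show q.n - 2 = q.n - 3 + 1 by omega, pow_succ, Nat.mul_div_cancel _ two_pos]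
    rw [hH, ha]
    refine pow_dvd_pow 2 ?_
    by_contra hlt
    exact h ((pow_dvd_pow 2 (show q.n - 2 ≤ a by omega)).trans (ha ▸ Nat.gcd_dvd_left l q.N))
  obtain ⟨c, hc⟩ := hdvd
  haveI : NeZero q.N := ⟨q.N_pos.ne'⟩
  have hbez : (g : ℤ) = l * Nat.gcdA l q.N + q.N * Nat.gcdB l q.N := Nat.gcd_eq_gcd_ab l q.N
  refine ⟨Nat.gcdA l q.N * c, ?_⟩
  show (q.x ^ l) ^ (Nat.gcdA l q.N * (c : ℤ)) = q.x ^ (q.H / 2)
  rw [← zpow_natCast q.x l, ← zpow_mul, ← zpow_natCast q.x (q.H / 2), zpow_eq_zpow_iff_modEq,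
    q.orderOf_x_eq, hc, Int.modEq_iff_dvd]
  exact ⟨Nat.gcdB l q.N * c, by push_cast; rw [hbez]; ring⟩

theorem four_le_orderOf {l : ℕ} (h : ¬ q.H ∣ l) : 4 ∣ orderOf (q.x ^ l) := by
  rw [← q.orderOf_i, ← Nat.card_zpowers (q.x ^ l)]
  exact Subgroup.orderOf_dvd_natCard _ (q.i_mem_zpowers h)

theorem conj_i {g : G} (hg : g ∈ P) : g * q.i * g⁻¹ = q.i ∨ g * q.i * g⁻¹ = q.i⁻¹ := by
  rcases q.conj_pow hg (q.H / 2) with ⟨h, -⟩ | h
  · exact Or.inl h
  · right
    show _ = _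
    rw [SQP.i, h, eq_inv_iff_mul_eq_one, ← pow_add, q.pow_eq_one]
    exact q.tau_half_dvd

theorem mem_normalizer_i {g : G} (h : g * q.i * g⁻¹ ∈ Subgroup.zpowers q.i) :
    g ∈ Subgroup.normalizer (Subgroup.zpowers q.i : Set G) := by
  have hmap : (Subgroup.zpowers q.i).map (MulAut.conj g).toMonoidHom = Subgroup.zpowers q.i := by
    refine Subgroup.eq_of_le_of_card_ge ?_ (le_of_eq (Base.card_map_conj g _).symm)
    rw [MonoidHom.map_zpowers]
    exact Subgroup.zpowers_le.2 h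
  refine Subgroup.mem_normalizer_iff.2 fun w => ⟨fun hw => ?_, fun hw => ?_⟩
  · rw [← SetLike.mem_coe, ← hmap]
    exact ⟨w, hw, rfl⟩
  · rw [← SetLike.mem_coe, ← hmap] at hw
    obtain ⟨v, hv, hvw⟩ := hw
    have e : v = w := (MulAut.conj g).injective hvw
    exact e ▸ hv

theorem le_normalizer_i : P ≤ Subgroup.normalizer (Subgroup.zpowers q.i : Set G) := fun g hg =>
  q.mem_normalizer_i (by
    rcases q.conj_i hg with e | e <;> rw [e]
    · exact Subgroup.mem_zpowers _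
    · exact inv_mem (Subgroup.mem_zpowers _))

theorem centralizer_le_normalizer_i {l : ℕ} (h : ¬ q.H ∣ l) :
    Subgroup.centralizer (Subgroup.zpowers (q.x ^ l) : Set G) ≤
      Subgroup.normalizer (Subgroup.zpowers q.i : Set G) := fun g hg =>
  q.mem_normalizer_i (by
    rw [← Subgroup.mem_centralizer_iff.1 hg q.i (q.i_mem_zpowers h), mul_inv_cancel_right]
    exact Subgroup.mem_zpowers _)

theorem eq_i_of_pow_four {w : G} (hw : w ∈ Subgroup.zpowers q.x) (h4 : w ^ 4 = 1) :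
    w ∈ Subgroup.zpowers q.i := by
  obtain ⟨j, rfl⟩ := q.mem_zpowers_iff'.1 hw
  rw [← pow_mul, q.pow_eq_one, q.N_eq] at h4
  have hH := q.H_eq
  obtain ⟨c, hc⟩ := h4
  have : j = q.H / 2 * c := by
    have h1 : j * 4 = q.H / 2 * c * 4 := by
      generalize q.H / 2 = a at hH ⊢
      rw [hc, hH]; ring
    omega
  exact ⟨c, by rw [this, pow_mul, ← zpow_natCast (q.x ^ (q.H / 2)) c]; rfl⟩

theorem mem_normalizer_of_conj {l m : ℕ} (hl : ¬ q.H ∣ l) {g : G}
    (hg : g * q.x ^ l * g⁻¹ = q.x ^ m) :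
    g ∈ Subgroup.normalizer (Subgroup.zpowers q.i : Set G) := by
  obtain ⟨k, hk⟩ := q.i_mem_zpowers hl
  simp only at hk
  refine q.mem_normalizer_i (q.eq_i_of_pow_four ?_ ?_)
  · rw [← hk, ← conj_zpow, hg]
    exact zpow_mem (q.pow_mem_zpowers m) k
  · rw [_root_.conj_pow, ← q.orderOf_i, pow_orderOf_eq_one, mul_one, mul_inv_cancel]

/-- An element of odd order fixing `⟨i⟩` centralises what it normalises in `P`. -/
theorem commute_of_fix_i (hP : IsPGroup 2 P) {S : Subgroup G} (hS : S ≤ P) {y : G}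
    (hy : Odd (orderOf y)) (hyi : y ∈ Subgroup.normalizer (Subgroup.zpowers q.i : Set G))
    (hn : ∀ s ∈ S, y * s * y⁻¹ ∈ S) : ∀ s ∈ S, Commute y s := by
  have hZp : IsPGroup 2 (Subgroup.zpowers q.i) := hP.to_le (Subgroup.zpowers_le.2 q.i_mem)
  have hfixi := commute_of_cyclic hZp hy
    fun a ha => (Subgroup.mem_normalizer_iff.1 hyi a).1 ha
  set A := S ⊓ Subgroup.zpowers q.x with hA
  have hAn : ∀ a ∈ A, y * a * y⁻¹ ∈ A := fun a ha => by
    refine ⟨hn a ha.1, ?_⟩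
    by_cases h4 : a ^ 4 = 1
    · rw [(hfixi a (q.eq_i_of_pow_four ha.2 h4)).eq, mul_inv_cancel_right]
      exact ha.2
    · by_contra hout
      exact h4 (conj_eq_one_iff.1 (_root_.conj_pow.symm.trans
        (q.pow_four_of_notMem (hS (hn a ha.1)) hout)))
  haveI : IsCyclic A := Subgroup.isCyclic_of_le inf_le_right
  have hAp : IsPGroup 2 A := hP.to_le (inf_le_left.trans hS)
  have hfix := commute_of_cyclic hAp hy hAn
  intro s hs
  by_cases hsx : s ∈ Subgroup.zpowers q.x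
  · exact hfix s ⟨hs, hsx⟩
  refine commute_of_stab (W := A) hAp hy hfix
    ⟨S.mul_mem (hn s hs) (S.inv_mem hs), q.mul_inv_mem_zpowers (hS hs) hsx (hS (hn s hs)) ?_⟩
  intro h
  have h2 := hfix _ ⟨hn s hs, h⟩
  have e : y * s * y⁻¹ = s := by
    calc y * s * y⁻¹ = y⁻¹ * (y * (y * s * y⁻¹)) := by group
      _ = y⁻¹ * (y * s * y⁻¹ * y) := by rw [h2.eq]
      _ = s := by group
  exact hsx (e ▸ h)

theorem centralizer_xD {l : ℕ} (h : ¬ q.H ∣ l) :
    Nat.card (Subgroup.centralizer ({(⟨q.x, q.x_mem⟩ : P) ^ l} : Set P)) = q.N := by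
  have hl : l % q.N < q.N := Nat.mod_lt _ q.N_pos
  have h0 : ¬ q.H ∣ l % q.N := fun hd => h (by
    rw [← Nat.mod_add_div l q.N]
    exact dvd_add hd (Dvd.dvd.mul_right ⟨2, by rw [q.N_eq, mul_comm]⟩ _))
  have hc := q.centralizer_pow hl (fun e => h0 (e ▸ dvd_zero _)) (fun e => h0 (e ▸ dvd_rfl))
  rw [show q.x ^ (l % q.N) = q.x ^ l from q.pow_eq_pow.2 (Nat.mod_modEq _ _)] at hc
  have e : (Subgroup.centralizer ({(⟨q.x, q.x_mem⟩ : P) ^ l} : Set P)).map P.subtype =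
      P ⊓ Subgroup.centralizer ({q.x ^ l} : Set G) := by
    ext g
    constructor
    · rintro ⟨a, ha, rfl⟩
      exact ⟨a.2, Subgroup.mem_centralizer_singleton_iff.2
        (congrArg Subtype.val (Subgroup.mem_centralizer_singleton_iff.1 ha))⟩
    · rintro ⟨hg, hgc⟩
      exact ⟨⟨g, hg⟩, Subgroup.mem_centralizer_singleton_iff.2
        (Subtype.ext (Subgroup.mem_centralizer_singleton_iff.1 hgc)), rfl⟩
  rw [← Subgroup.card_map_of_injective P.subtype_injective, e, hc, Nat.card_zpowers,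
    q.orderOf_x_eq]

theorem isConj_xD {l m : ℕ} :
    IsConj ((⟨q.x, q.x_mem⟩ : P) ^ m) ((⟨q.x, q.x_mem⟩ : P) ^ l) ↔
      (m : ZMod q.setup.N) = (l : ZMod q.setup.N) ∨
        (m : ZMod q.setup.N) = q.setup.τ * (l : ZMod q.setup.N) := by
  have key : ∀ a b : ℕ, (a : ZMod q.N) = b ↔ q.x ^ a = q.x ^ b := fun a b => by
    rw [ZMod.natCast_eq_natCast_iff, q.pow_eq_pow]
  show _ ↔ (m : ZMod q.N) = (l : ZMod q.N) ∨ (m : ZMod q.N) = (q.τ : ZMod q.N) * (l : ZMod q.N)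
  rw [← Nat.cast_mul, key, key]
  constructor
  · intro h
    obtain ⟨g, hg⟩ := isConj_iff.1 h.symm
    have hg' : (g : G) * q.x ^ l * (g : G)⁻¹ = q.x ^ m := congrArg Subtype.val hg
    rcases q.conj_pow g.2 l with ⟨h1, -⟩ | h1
    · exact Or.inl (hg'.symm.trans h1)
    · exact Or.inr (hg'.symm.trans h1)
  · rintro (h | h)
    · rw [show (⟨q.x, q.x_mem⟩ : P) ^ m = (⟨q.x, q.x_mem⟩ : P) ^ l from Subtype.ext h]
    · refine (isConj_iff.2 ⟨⟨q.y, q.y_mem⟩, Subtype.ext ?_⟩).symm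
      show q.y * q.x ^ l * q.y⁻¹ = q.x ^ m
      rw [q.y_pow, h]

end Arith

end SQP

theorem secVal_central_mul {G : Type u} [Group G] [Fintype G] {θ : IrrCharacter G} {z : G}
    (hz : z ∈ Subgroup.center G) (a : BrauerPairIdx G) (g : G) :
    secVal a (θ : G → ℂ) (g * z) = centralScalar (θ : G → ℂ) z * secVal a (θ : G → ℂ) g := by
  rw [secVal, secVal, Finset.mul_sum]
  refine Finset.sum_congr rfl fun w _ => ?_
  rw [← mul_assoc w, ← Subgroup.mem_center_iff.1 hz (w * g) |>.symm, irr_central_mul θ hz]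
  ring

variable {G : Type u} [Group G] [Fintype G] {M : Ideal AlgInt} [M.IsPrime] [Fact (Nat.Prime 2)]
  {B : Set (IrrCharacter G)} {P : Subgroup G}
  {e : Set (IrrCharacter (Subgroup.centralizer (P : Set G)))}

/-- The columns on the powers of `x`. -/
structure SQCols (M : Ideal AlgInt) [M.IsPrime] (B : Set (IrrCharacter G))
    (e : Set (IrrCharacter (Subgroup.centralizer (P : Set G)))) (q : SQP P)
    (s : Finset (IrrCharacter G)) where
  f : IrrCharacter G → ZMod q.setup.N → ℂ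
  horth : ∀ l ∈ q.setup.free, ∀ m ∈ q.setup.free, ∑ χ ∈ s, f χ l * conj (f χ m) =
    (if m = l then (q.setup.N : ℂ) else 0) + if m = q.setup.τ * l then (q.setup.N : ℂ) else 0
  tau_inv : ∀ χ l, f χ (q.setup.τ * l) = f χ l
  rows : SQFourier.Rows q.setup s (fun χ => charDegree (χ : G → ℂ)) f
  nofus : ∀ l m : ℕ, ¬ q.H ∣ l → ¬ q.H ∣ m →
    PairFus M 2 (⟨P, e⟩ : BrauerPairIdx G) (q.x ^ l) (q.x ^ m) →
    (m : ZMod q.setup.N) = (l : ZMod q.setup.N) ∨
      (m : ZMod q.setup.N) = q.setup.τ * (l : ZMod q.setup.N)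
  section_free : ∀ l : ℕ, ¬ q.H ∣ l →
    ∀ b, pairBelow 2 M (⟨P, e⟩ : BrauerPairIdx G) (q.x ^ l) = ⟨Subgroup.zpowers (q.x ^ l), b⟩ →
    blockRank 2 b = 1 ∧ ∀ χ ψ : IrrCharacter G,
      secInner 2 (q.x ^ l) b (χ : G → ℂ) (ψ : G → ℂ) =
        f χ (l : ZMod q.setup.N) * conj (f ψ (l : ZMod q.setup.N)) / (q.setup.N : ℂ)
  height_zero : ∀ χ ∈ B, blockHeight 2 B (χ : G → ℂ) = 0 → rows.w χ ≠ 0
  shift_central : q.z ∈ Subgroup.center G → ∃ c : ℂ, (c = 1 ∨ c = -1) ∧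
    ∀ χ : IrrCharacter G, ∀ l ∈ q.setup.free, f χ (l + (q.setup.H : ZMod q.setup.N)) =
      c * centralScalar (χ : G → ℂ) q.z * f χ l

/-- The columns on the powers of `x` exist. -/
theorem exists_sqCols (hM : IsPModular 2 M) (hmax : IsMaximalBrauerPair 2 M B P e) (q : SQP P)
    (s : Finset (IrrCharacter G)) (hs : ∀ χ, χ ∈ s ↔ χ ∈ B) : Nonempty (SQCols M B e q s) := by
  classical
  haveI := irrFintype G
  haveI := fun S : Subgroup G => Fintype.ofFinite S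
  haveI := fun S : Subgroup G => irrFintype S
  haveI : NeZero q.N := ⟨q.N_pos.ne'⟩
  have hpM : ((2 : ℕ) : AlgInt) ∈ M := hM.2.2
  have hc : IsBrauerPair 2 M P e := hmax.1.1
  have hPp : IsPGroup 2 P := hc.1
  set S := q.setup with hS
  set K : Subgroup G := Subgroup.normalizer (Subgroup.zpowers q.i : Set G) with hKdef
  have hPK : P ≤ K := q.le_normalizer_i
  have hCP : Subgroup.centralizer (P : Set G) ≤ K :=
    (centralizer_antitone (Subgroup.zpowers_le.2 q.i_mem)).trans fun g hg => q.mem_normalizer_i (by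
      rw [← Subgroup.mem_centralizer_iff.1 hg q.i (Subgroup.mem_zpowers _), mul_inv_cancel_right]
      exact Subgroup.mem_zpowers _)
  have hcK : IsBrauerPair 2 M (P.subgroupOf K) (relBlock hPK hCP e) :=
    ⟨isPGroup_subgroupOf hc.1 hPK, isPBlock_relBlock hPK hCP hc.2⟩
  obtain ⟨bK, hbK, -⟩ := existsUnique_block_of_pair hpM hcK
  have hmaxK := isMaximal_rel_of_maximal hpM hPK hCP hmax hbK
  have hnil : IsNilpotentBlock 2 M bK := by
    refine ⟨hmaxK.1.2.1, fun R r hR x hxN hst hreg => ?_⟩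
    obtain ⟨k, hk⟩ := exists_conj_below
      (b := ⟨P.subgroupOf K, relBlock hPK hCP e⟩) (a := ⟨R, r⟩) hpM hmaxK hR
    have hxs := (conj_mem_stabPair_iff (⟨R, r⟩ : BrauerPairIdx _) k x).2
      ((mem_stabPair_iff hR.1.2).2 ⟨hxN, hst⟩)
    have hN := Subgroup.mem_normalizer_iff.1 (stabPair_le_normalizer _ hxs)
    refine (centralizer_conj_iff R k x).1 (Subgroup.mem_centralizer_iff.2 fun w hw => Subtype.ext ?_)
    refine ((q.commute_of_fix_i hPp
      (S := ((conjPair k ⟨R, r⟩).1).map K.subtype) ?_ ?_ ?_ ?_ _ ⟨w, hw, rfl⟩).eq).symm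
    · rintro _ ⟨v, hv, rfl⟩
      exact Subgroup.mem_subgroupOf.1 (below_le hk hv)
    · show Odd (orderOf ((k * x * k⁻¹ : K) : G))
      rw [Subgroup.orderOf_coe, ← (SemiconjBy.conj_mk k x).orderOf_eq, Nat.odd_iff,
        ← Nat.two_dvd_ne_zero]
      exact hreg
    · exact (k * x * k⁻¹).2
    · rintro _ ⟨v, hv, rfl⟩
      exact ⟨_, (hN v).1 hv, rfl⟩
  obtain ⟨θ, hθ, hθ0⟩ := exists_blockHeight_eq_zero (p := 2) hnil.1
  obtain ⟨ξ, V, hξn, hcol, hnorm, horth, hVK⟩ :=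
    exists_local_columns hpM hmax hPK hCP hnil hmaxK hθ hθ0
  set xD : P := ⟨q.x, q.x_mem⟩ with hxD
  have hcoe : ∀ l : ℕ, ((xD ^ l : P) : G) = q.x ^ l := fun l => rfl
  have hxDN : xD ^ q.N = 1 := Subtype.ext q.pow_N
  set f : IrrCharacter G → ZMod S.N → ℂ := fun χ l => ξ χ (xD ^ l.val) with hf
  have hxmod : ∀ a : ℕ, xD ^ ((a : ZMod S.N).val) = xD ^ a := fun a => by
    rw [ZMod.val_natCast]
    exact (pow_eq_pow_mod a hxDN).symm
  have hfl : ∀ χ (a : ℕ), f χ (a : ZMod S.N) = ξ χ (xD ^ a) := fun χ a => by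
    simp only [hf, hxmod]
  have hKle : ∀ a : ℕ, ¬ q.H ∣ a →
      Subgroup.centralizer (Subgroup.zpowers ((xD ^ a : P) : G) : Set G) ≤ K := fun a ha =>
    q.centralizer_le_normalizer_i ha
  have hfree : ∀ l ∈ S.free, ∃ a : ℕ, l = (a : ZMod S.N) ∧ ¬ q.H ∣ a := fun l hl =>
    ⟨l.val, (ZMod.natCast_zmod_val l).symm,
      q.mem_free.1 ((ZMod.natCast_zmod_val l).symm ▸ hl)⟩
  have hτ : ∀ χ l, f χ (S.τ * l) = f χ l := by
    intro χ l
    obtain ⟨n, hn⟩ := hξn χ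
    obtain ⟨a, rfl⟩ := ZMod.natCast_zmod_surjective l
    have e1 : S.τ * (a : ZMod S.N) = ((q.τ * a : ℕ) : ZMod S.N) := (Nat.cast_mul _ _).symm
    rw [e1, hfl, hfl, hn, hn]
    refine Finset.sum_congr rfl fun ψ _ => ?_
    have e2 : xD ^ (q.τ * a) = ⟨q.y, q.y_mem⟩ * xD ^ a * (⟨q.y, q.y_mem⟩ : P)⁻¹ :=
      Subtype.ext (q.y_pow a).symm
    rw [e2, isClassFunction_irr ψ]
  have horth' : ∀ l ∈ S.free, ∀ m ∈ S.free, ∑ χ ∈ s, f χ l * conj (f χ m) =
      (if m = l then (S.N : ℂ) else 0) + if m = S.τ * l then (S.N : ℂ) else 0 := by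
    intro l hl m hm
    obtain ⟨a, rfl, ha⟩ := hfree l hl
    obtain ⟨b, rfl, hb⟩ := hfree m hm
    have h1 := horth (xD ^ a) (xD ^ b) (hKle a ha) (hKle b hb) fun g hg =>
      q.mem_normalizer_of_conj ha hg
    rw [second_orthogonality, hxD, q.centralizer_xD ha, if_congr q.isConj_xD rfl rfl, ← hxD] at h1
    simp only [hfl]
    rw [show s = univ.filter (· ∈ B) by ext χ; simp [hs], h1]
    by_cases hA : (b : ZMod S.N) = (a : ZMod S.N)
    · have hne : ¬ (b : ZMod S.N) = S.τ * (a : ZMod S.N) := fun hB => by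
        have := S.τ_fix _ (hB.symm.trans hA)
        exact (mem_filter.1 hl).2 this
      rw [if_pos (Or.inl hA), if_pos hA, if_neg hne, add_zero]
      rfl
    · by_cases hB : (b : ZMod S.N) = S.τ * (a : ZMod S.N)
      · rw [if_pos (Or.inr hB), if_neg hA, if_pos hB, zero_add]
        rfl
      · rw [if_neg (not_or.2 ⟨hA, hB⟩), if_neg hA, if_neg hB, add_zero]
  choose bl hbl using fun u : G =>
    exists_pairBelow_eq (M := M) (p := 2) (⟨P, e⟩ : BrauerPairIdx G) u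
  have hblle : ∀ u ∈ P, Below 2 M ⟨Subgroup.zpowers u, bl u⟩ ⟨P, e⟩ := fun u hu =>
    hbl u ▸ pairBelow_below (c := ⟨P, e⟩) hpM hc hu
  have hblB : ∀ u ∈ P, IsBrauerPairOf 2 M B (Subgroup.zpowers u) (bl u) := fun u hu =>
    (isBrauerPairOf_iff_of_below hpM (hblle u hu) B).2 hmax.1
  have h1reg : ¬ 2 ∣ orderOf (1 : G) := by simp
  have hsec1 : ∀ (χ : IrrCharacter G) (a : ℕ), ¬ q.H ∣ a →
      secVal (pairBelow 2 M ⟨P, e⟩ (q.x ^ a)) (χ : G → ℂ) (q.x ^ a) =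
        f χ (a : ZMod S.N) * V (xD ^ a) (q.x ^ a) := fun χ a ha => by
    have h1 := hcol χ (xD ^ a) (hKle a ha) 1 (Commute.one_right _) h1reg
    rw [mul_one, hcoe] at h1
    rw [h1, hfl]
  have hVne : ∀ a : ℕ, ¬ q.H ∣ a → V (xD ^ a) (q.x ^ a) ≠ 0 := fun a ha =>
    (hnorm (xD ^ a) (hKle a ha)).1
  have hdeg : ∀ l ∈ S.free, ∑ χ ∈ s, f χ l * (charDegree (χ : G → ℂ) : ℂ) = 0 := by
    intro l hl
    obtain ⟨a, rfl, ha⟩ := hfree l hl
    have hne1 : q.x ^ a ≠ 1 := fun h => ha ((dvd_trans ⟨2, by rw [q.N_eq, mul_comm]⟩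
      (q.pow_eq_one.1 h)))
    have h1 := sum_secVal_mul_degree hpM (exists_pow_eq_one_of_mem hPp (pow_mem q.x_mem a))
      hne1 (hblB _ (pow_mem q.x_mem a))
    have h2 : (∑ χ ∈ s, f χ (a : ZMod S.N) * (charDegree (χ : G → ℂ) : ℂ)) *
        V (xD ^ a) (q.x ^ a) = 0 := by
      rw [Finset.sum_mul]
      refine Eq.trans (Finset.sum_congr (by ext χ; simp [hs]) fun χ _ => ?_) h1
      rw [← hbl, hsec1 χ a ha, irr_apply_one]
      ring
    exact (mul_eq_zero.1 h2).resolve_right (hVne a ha)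
  -- integrality
  have hint : ∀ χ ∈ s, ∀ k : ZMod S.N,
      ∃ m : ℤ, (m : ℂ) = (S.N : ℂ)⁻¹ * ∑ l, f χ l * S.e (l * -k) := by
    intro χ _ k
    obtain ⟨n, hn⟩ := hξn χ
    obtain ⟨b, rfl⟩ := ZMod.natCast_zmod_surjective k
    set ζ : ℂ := S.e 1 with hζdef
    have hpow : ∀ j : ℕ, ζ ^ j = S.e (j : ZMod S.N) := fun j => by
      rw [hζdef, ← AddChar.map_nsmul_eq_pow, nsmul_eq_mul, mul_one]
    have hζ : IsPrimitiveRoot ζ q.N := by
      refine (IsPrimitiveRoot.iff_def _ _).2 ⟨?_, fun j hj => ?_⟩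
      · rw [hpow, show ((q.N : ℕ) : ZMod S.N) = 0 from ZMod.natCast_self _, S.e_zero]
      · rw [hpow] at hj
        have h2 : (j : ZMod S.N) = 0 :=
          ZMod.injective_stdAddChar (N := S.N) (hj.trans S.e_zero.symm)
        exact (ZMod.natCast_eq_zero_iff _ _).1 h2
    choose m hm using fun ψ : IrrCharacter P => exists_int_fourier ψ xD hxDN hζ b
    refine ⟨∑ ψ, n ψ * m ψ, ?_⟩
    push_cast
    simp only [hm, Finset.mul_sum]
    rw [Finset.sum_comm]
    refine Finset.sum_bij' (fun (a : ℕ) _ => (a : ZMod S.N)) (fun l _ => l.val)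
      (fun _ _ => mem_univ _) (fun l _ => Finset.mem_range.2 (ZMod.val_lt l))
      (fun a ha => ZMod.val_natCast_of_lt (Finset.mem_range.1 ha))
      (fun l _ => ZMod.natCast_zmod_val l) fun a _ => ?_
    rw [hfl, hn, Finset.sum_mul, Finset.mul_sum]
    refine Finset.sum_congr rfl fun ψ _ => ?_
    rw [zpow_neg, ← Nat.cast_mul, zpow_natCast, hpow, Nat.cast_mul, mul_neg,
      AddChar.map_neg_eq_inv]
    show _ = ((q.N : ℕ) : ℂ)⁻¹ * _
    ring
  obtain ⟨rows⟩ := SQFourier.nonempty_rows S s (fun χ => charDegree (χ : G → ℂ))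
    (fun χ _ => Nat.pos_of_ne_zero (irr_charDegree_ne_zero χ)) f hint
    (fun χ _ => hτ χ) horth' hdeg
  -- fusion
  have hnofus : ∀ l m : ℕ, ¬ q.H ∣ l → ¬ q.H ∣ m →
      PairFus M 2 (⟨P, e⟩ : BrauerPairIdx G) (q.x ^ l) (q.x ^ m) →
      (m : ZMod S.N) = (l : ZMod S.N) ∨ (m : ZMod S.N) = S.τ * (l : ZMod S.N) := by
    intro l m hl hm ⟨g, hg, hgp⟩
    by_contra hne
    rw [not_or] at hne
    have h1 := sum_secVal_pairBelow hpM hmax (pow_mem q.x_mem l) (pow_mem q.x_mem m)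
    have hz : ∑ χ ∈ univ.filter (· ∈ B), secVal (pairBelow 2 M ⟨P, e⟩ (q.x ^ l)) (χ : G → ℂ)
        (q.x ^ l) * conj (secVal (pairBelow 2 M ⟨P, e⟩ (q.x ^ m)) (χ : G → ℂ) (q.x ^ m)) = 0 := by
      rw [Finset.sum_congr (show univ.filter (· ∈ B) = s by ext χ; simp [hs])
        (g := fun χ => f χ (l : ZMod S.N) * conj (f χ (m : ZMod S.N)) *
          (V (xD ^ l) (q.x ^ l) * conj (V (xD ^ m) (q.x ^ m)))) fun χ _ => by
        rw [hsec1 χ l hl, hsec1 χ m hm, map_mul]; ring,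
        ← Finset.sum_mul, horth' _ (q.mem_free.2 hl) _ (q.mem_free.2 hm), if_neg hne.1,
        if_neg hne.2, add_zero, zero_mul]
    rw [hz] at h1
    refine mul_ne_zero (Nat.cast_ne_zero.2 (Finset.card_ne_zero.2 ⟨g, ?_⟩)) ?_ h1.symm
    · exact Finset.mem_filter.2 ⟨Finset.mem_univ _, hg, hgp⟩
    · exact pairCoeff_pairBelow_one_ne_zero hpM hc (pow_mem q.x_mem l)
  -- the subsections
  have hsect : ∀ a : ℕ, ¬ q.H ∣ a →
      blockRank 2 (bl (q.x ^ a)) = 1 ∧ blockDefect 2 (bl (q.x ^ a)) = q.n - 1 ∧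
      ∀ χ ψ : IrrCharacter G, secInner 2 (q.x ^ a) (bl (q.x ^ a)) (χ : G → ℂ) (ψ : G → ℂ) =
        f χ (a : ZMod S.N) * conj (f ψ (a : ZMod S.N)) / (S.N : ℂ) := by
    intro a ha
    set u := q.x ^ a with hu
    have huP : u ∈ P := pow_mem q.x_mem a
    have hcard : ∀ (j : ℕ), ¬ q.H ∣ j →
        Nat.card (P ⊓ Subgroup.centralizer ({q.x ^ j} : Set G) : Subgroup G) = q.N := by
      intro j hj
      have h0 : ¬ q.H ∣ j % q.N := fun hd => hj (by
        rw [← Nat.mod_add_div j q.N]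
        exact dvd_add hd (Dvd.dvd.mul_right ⟨2, by rw [q.N_eq, mul_comm]⟩ _))
      rw [show q.x ^ j = q.x ^ (j % q.N) from (q.pow_eq_pow.2 (Nat.mod_modEq _ _)).symm,
        q.centralizer_pow (Nat.mod_lt _ q.N_pos) (fun e' => h0 (e' ▸ dvd_zero _))
          (fun e' => h0 (e' ▸ dvd_rfl)), Nat.card_zpowers, q.orderOf_x_eq]
    have hdef : blockDefect 2 (bl u) = q.n - 1 := by
      have h1 := blockDefect_of_images hpM hmax huP (hbl u) fun v hv hfus => by
        rw [hcard a ha]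
        by_cases hvx : v ∈ Subgroup.zpowers q.x
        · obtain ⟨j, rfl⟩ := q.mem_zpowers_iff'.1 hvx
          refine (hcard j fun hd => ?_).le
          obtain ⟨c', rfl⟩ := hd
          have h4 := q.four_le_orderOf ha
          rw [hfus.orderOf_eq, q.pow_mul_H] at h4
          split_ifs at h4
          · rw [orderOf_one] at h4; omega
          · rw [q.orderOf_z] at h4; omega
        · rw [q.card_centralizer_of_notMem hv hvx]
          have := q.N_eq
          have := q.two_le_H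
          omega
      rw [hcard a ha] at h1
      exact (Nat.pow_right_injective le_rfl h1).symm
    set C := Subgroup.centralizer (Subgroup.zpowers u : Set G) with hC
    set r : ℂ := (∑ w ∈ univ.filter (fun w : G => Commute u w ∧ ¬ 2 ∣ orderOf w),
      V (xD ^ a) (u * w) * conj (V (xD ^ a) (u * w))) / (Nat.card C : ℂ) with hr
    have hsi : ∀ χ ψ : IrrCharacter G, secInner 2 u (bl u) (χ : G → ℂ) (ψ : G → ℂ) =
        f χ (a : ZMod S.N) * conj (f ψ (a : ZMod S.N)) * r := by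
      intro χ ψ
      rw [secInner, secPair, hr, ← mul_div_assoc, Finset.mul_sum]
      congr 1
      refine Finset.sum_congr (by congr) fun w hw => ?_
      obtain ⟨-, hw1, hw2⟩ := mem_filter.1 hw
      have h1 := hcol χ (xD ^ a) (hKle a ha) w hw1 hw2
      have h2 := hcol ψ (xD ^ a) (hKle a ha) w hw1 hw2
      rw [hcoe, ← hu, hbl] at h1 h2
      show secVal ⟨Subgroup.zpowers u, bl u⟩ _ _ * conj (secVal ⟨Subgroup.zpowers u, bl u⟩ _ _) = _
      rw [h1, h2, map_mul, hfl, hfl]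
      ring
    have hnormf : ∑ χ ∈ univ.filter (· ∈ B), f χ (a : ZMod S.N) * conj (f χ (a : ZMod S.N)) =
        (q.N : ℂ) := by
      rw [show univ.filter (· ∈ B) = s by ext χ; simp [hs],
        horth' _ (q.mem_free.2 ha) _ (q.mem_free.2 ha), if_pos rfl, if_neg, add_zero]
      · rfl
      · exact fun h => (mem_filter.1 (q.mem_free.2 ha)).2 (S.τ_fix _ h.symm)
    have hrR : (q.N : ℂ) * r = (blockRank 2 (bl u) : ℂ) := by
      rw [← sum_secInner_self hM (exists_pow_eq_one_of_mem hPp huP) (hblB u huP),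
        Finset.sum_congr rfl fun χ _ => hsi χ χ, ← Finset.sum_mul, hnormf]
    have hcon : ∀ χ ψ : IrrCharacter G, contrib 2 (bl u) u χ ψ =
        (blockRank 2 (bl u) : ℂ) * (f χ (a : ZMod S.N) * conj (f ψ (a : ZMod S.N))) := fun χ ψ => by
      rw [← secInner_eq_contrib hpM (hblB u huP).1.2, hdef, hsi, ← hrR]
      show ((q.N : ℕ) : ℂ) * _ = _
      ring
    have hsq := sum_norm_sq_contrib hM (mem_centralizer_zpowers_iff u)
      (exists_pow_orderOf_of_mem hPp huP) (isInducedBlock_zpowers hpM (hblB u huP))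
    have hnormr : ∑ χ ∈ univ.filter (· ∈ B), ‖f χ (a : ZMod S.N)‖ ^ 2 = (q.N : ℝ) := by
      apply Complex.ofReal_injective
      push_cast
      rw [← hnormf]
      exact Finset.sum_congr rfl fun χ _ => (Complex.mul_conj' _).symm
    have hR1 : blockRank 2 (bl u) = 1 := by
      have hpow : ((2 : ℕ) : ℝ) ^ (2 * blockDefect 2 (bl u)) = (q.N : ℝ) ^ 2 := by
        rw [hdef, mul_comm 2, pow_mul]
        congr 1
        exact_mod_cast (rfl : 2 ^ (q.n - 1) = q.N)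
      simp only [hcon, norm_mul, Complex.norm_natCast, Complex.norm_conj, mul_pow] at hsq
      simp only [← Finset.mul_sum, hnormr, ← Finset.sum_mul] at hsq
      rw [hpow] at hsq
      have h1 : ((blockRank 2 (bl u) : ℝ) - 1) * (blockRank 2 (bl u) : ℝ) * (q.N : ℝ) ^ 2 = 0 := by linear_combination hsq
      have hN0 : (q.N : ℝ) ^ 2 ≠ 0 := pow_ne_zero _ (Nat.cast_ne_zero.2 q.N_pos.ne')
      have hR0 : (blockRank 2 (bl u) : ℝ) ≠ 0 :=
        Nat.cast_ne_zero.2 (Nat.one_le_iff_ne_zero.1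
          (one_le_blockRank (M := M) (p := 2) (hblB u huP).1.2))
      have h2 := ((mul_eq_zero.1 ((mul_eq_zero.1 h1).resolve_right hN0)).resolve_right hR0)
      exact_mod_cast (sub_eq_zero.1 h2)
    refine ⟨hR1, hdef, fun χ ψ => ?_⟩
    rw [hR1, Nat.cast_one] at hrR
    rw [hsi, eq_inv_of_mul_eq_one_right hrR, div_eq_mul_inv]
    rfl
  refine ⟨⟨f, horth', hτ, rows, hnofus, fun l hl b hb => ?_, fun χ hχ h0 => ?_, fun hzZ => ?_⟩⟩
  · rw [hbl] at hb
    obtain rfl : bl (q.x ^ l) = b := eq_of_heq (Sigma.mk.inj_iff.1 hb).2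
    exact ⟨(hsect l hl).1, (hsect l hl).2.2⟩
  · -- the unit at `i`
    intro hw0
    obtain ⟨m, hm, hodd⟩ := rows.half χ ((hs χ).2 hχ)
    have hd := (blockHeight_eq_zero_iff hχ).1 h0
    have hiP : q.i ∈ P := q.i_mem
    obtain ⟨hR1, hdef, hsi⟩ := hsect (q.H / 2) q.half_free
    refine not_memLocalIdeal_contrib hpM (mem_centralizer_zpowers_iff q.i)
      (exists_pow_orderOf_of_mem hPp hiP) (isInducedBlock_zpowers hpM (hblB _ hiP)) hχ hχ hd hd ?_
    have hm' : f χ ((q.H / 2 : ℕ) : ZMod S.N) = (m : ℂ) := hm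
    have hcon : contrib 2 (bl q.i) q.i χ χ = ((m * m : ℤ) : ℂ) := by
      rw [← secInner_eq_contrib hpM (hblB _ hiP).1.2]
      show ((2 ^ blockDefect 2 (bl (q.x ^ (q.H / 2))) : ℕ) : ℂ) *
        secInner 2 (q.x ^ (q.H / 2)) (bl (q.x ^ (q.H / 2))) (χ : G → ℂ) (χ : G → ℂ) = _
      rw [hdef, hsi, hm', map_intCast]
      show ((q.N : ℕ) : ℂ) * ((m : ℂ) * (m : ℂ) / ((q.N : ℕ) : ℂ)) = _
      rw [mul_div_cancel₀]
      · push_cast; rfl
      · exact Nat.cast_ne_zero.2 (NeZero.ne q.N)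
    rw [hcon, memLocalIdeal_intCast_iff hpM, Int.odd_mul]
    exact fun h => (hodd.1 h.1) hw0
  · -- the central shift
    have hzK : q.z ∈ K := hPK q.z_mem
    have hzcen : (⟨q.z, hzK⟩ : K) ∈ Subgroup.center K :=
      Subgroup.mem_center_iff.2 fun g => Subtype.ext (Subgroup.mem_center_iff.1 hzZ g)
    set ω := centralScalar (θ : K → ℂ) ⟨q.z, hzK⟩ with hω
    have hω2 : ω ^ 2 = 1 :=
      centralScalar_pow_eq_one θ hzcen (Subtype.ext (by rw [sq]; exact q.z_sq))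
    refine ⟨ω, sq_eq_one_iff.1 hω2, fun χ l hl => ?_⟩
    obtain ⟨a, rfl, ha⟩ := hfree l hl
    have ha' : ¬ q.H ∣ a + q.H := fun h => ha ((Nat.dvd_add_left dvd_rfl).1 h)
    have hxz : q.x ^ (a + q.H) = q.x ^ a * q.z := pow_add _ _ _
    have hzp : Subgroup.zpowers (q.x ^ (a + q.H)) = Subgroup.zpowers (q.x ^ a) := by
      have hmem : ∀ b : ℕ, ¬ q.H ∣ b → q.z ∈ Subgroup.zpowers (q.x ^ b) := fun b hb => by
        rw [← q.i_sq]
        exact mul_mem (q.i_mem_zpowers hb) (q.i_mem_zpowers hb)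
      refine le_antisymm (Subgroup.zpowers_le.2 ?_) (Subgroup.zpowers_le.2 ?_)
      · rw [hxz]
        exact mul_mem (Subgroup.mem_zpowers _) (hmem a ha)
      · have h5 := mul_mem (Subgroup.mem_zpowers (q.x ^ (a + q.H))) (hmem _ ha')
        rwa [hxz, mul_assoc, q.z_sq, mul_one, ← hxz] at h5
    have h1 : secVal (pairBelow 2 M ⟨P, e⟩ (q.x ^ (a + q.H))) (χ : G → ℂ) (q.x ^ (a + q.H)) =
        centralScalar (χ : G → ℂ) q.z *
          secVal (pairBelow 2 M ⟨P, e⟩ (q.x ^ a)) (χ : G → ℂ) (q.x ^ a) := by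
      rw [pairBelow_congr (c := (⟨P, e⟩ : BrauerPairIdx G)) hzp hpM hc (pow_mem q.x_mem _), hxz,
        secVal_central_mul hzZ]
    have hV : V (xD ^ (a + q.H)) (q.x ^ (a + q.H)) = ω * V (xD ^ a) (q.x ^ a) := by
      have hK : ∀ b : ℕ, V (xD ^ b) (q.x ^ b) = secVal (pairBelow 2 M
          (⟨P.subgroupOf K, relBlock hPK hCP e⟩ : BrauerPairIdx K)
          ⟨q.x ^ b, hPK (pow_mem q.x_mem b)⟩) (θ : K → ℂ) ⟨q.x ^ b, hPK (pow_mem q.x_mem b)⟩ :=
        fun b => hVK (xD ^ b) ⟨q.x ^ b, hPK (pow_mem q.x_mem b)⟩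
      rw [hK, hK, pairBelow_congr (c := (⟨P.subgroupOf K, relBlock hPK hCP e⟩ : BrauerPairIdx K))
        (u' := (⟨q.x ^ a, hPK (pow_mem q.x_mem a)⟩ : K)) ?_
        hpM hcK (Subgroup.mem_subgroupOf.2 (pow_mem q.x_mem _)),
        show (⟨q.x ^ (a + q.H), hPK (pow_mem q.x_mem _)⟩ : K) =
          ⟨q.x ^ a, hPK (pow_mem q.x_mem a)⟩ * ⟨q.z, hzK⟩ from Subtype.ext hxz,
        secVal_central_mul hzcen]
      apply Subgroup.map_injective K.subtype_injective
      rw [MonoidHom.map_zpowers, MonoidHom.map_zpowers]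
      exact hzp
    rw [hsec1 χ _ ha', hsec1 χ a ha, hV] at h1
    have h2 : f χ ((a + q.H : ℕ) : ZMod S.N) * ω =
        centralScalar (χ : G → ℂ) q.z * f χ (a : ZMod S.N) := by
      refine mul_right_cancel₀ (hVne a ha) ?_
      linear_combination h1
    rw [show (a : ZMod S.N) + (S.H : ZMod S.N) = ((a + q.H : ℕ) : ZMod S.N) from
      (Nat.cast_add a q.H).symm]
    linear_combination ω * h2 - f χ ((a + q.H : ℕ) : ZMod S.N) * hω2

end CfsgLib.Blocks
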