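import Cfsg.Agent.Lib.Blocks.SQ.Group
import Cfsg.Agent.Lib.Chars.Induction

/-!
# The generalised character `1 + λ + ψ` of a generalised quaternion or semidihedral group

`ψ` is induced from a faithful linear character of the cyclic subgroup `⟨x⟩`, `λ` is trivial in
the quaternion case and the parity character in the semidihedral case.
-/

set_option autoImplicit false
set_option linter.unusedSectionVars false
set_option linter.style.haveILetI false

open Subgroup Cfsg CfsgLib.Chars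

namespace CfsgLib.Blocks.SQP

universe u

variable {G : Type u} [Group G] [Finite G] {P : Subgroup G} (q : SQP P)

theorem exists_faithful :
    ∃ θ : ↥((zpowers q.x).subgroupOf P) →* ℂˣ, ∃ ζ : ℂ, IsPrimitiveRoot ζ q.N ∧
      ∀ (j : ℕ) (k : ↥((zpowers q.x).subgroupOf P)), ((k : P) : G) = q.x ^ j → (θ k : ℂ) = ζ ^ j := by
  set K := (zpowers q.x).subgroupOf P with hK
  set x0 : K := ⟨⟨q.x, q.x_mem⟩, mem_zpowers q.x⟩ with hx0
  have hN : q.N ≠ 0 := q.N_pos.ne'
  set ζ : ℂ := Complex.exp (2 * Real.pi * Complex.I / q.N) with hζ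
  have hprim : IsPrimitiveRoot ζ q.N := Complex.isPrimitiveRoot_exp _ hN
  have hu : IsUnit ζ := hprim.isUnit hN
  have hgen : ∀ k : K, k ∈ zpowers x0 := by
    intro k
    obtain ⟨j, hj⟩ := q.mem_zpowers_iff'.mp (mem_subgroupOf.mp k.2)
    exact ⟨(j : ℤ), Subtype.ext (Subtype.ext (by simp [hx0, hj]))⟩
  have ho : orderOf hu.unit ∣ orderOf x0 := by
    rw [← Subgroup.orderOf_coe x0, ← Subgroup.orderOf_coe (x0 : P)]
    show _ ∣ orderOf q.x
    rw [q.orderOf_x_eq, orderOf_dvd_iff_pow_eq_one]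
    exact Units.ext (by rw [Units.val_pow_eq_pow_val, IsUnit.unit_spec, hprim.pow_eq_one, Units.val_one])
  refine ⟨monoidHomOfForallMemZpowers hgen ho, ζ, hprim, fun j k hk => ?_⟩
  have hk' : k = x0 ^ j := Subtype.ext (Subtype.ext (by simp [hx0, hk]))
  rw [hk', map_pow, monoidHomOfForallMemZpowers_apply_gen, Units.val_pow_eq_pow_val,
    IsUnit.unit_spec]

theorem exists_psi : ∃ ψ : P → ℂ, IsCharacter P ψ ∧ ∃ ζ : ℂ, IsPrimitiveRoot ζ q.N ∧
    (∀ (j : ℕ) (u : P), (u : G) = q.x ^ j → ψ u = ζ ^ j + ζ ^ (q.τ * j)) ∧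
    ∀ u : P, (u : G) ∉ zpowers q.x → ψ u = 0 := by
  classical
  haveI : Fintype P := Fintype.ofFinite P
  obtain ⟨θ, ζ, hprim, hθ⟩ := q.exists_faithful
  let K := (zpowers q.x).subgroupOf P
  refine ⟨indFun K (fun k => (θ k : ℂ)),
    isCharacter_indFun K (isCharacter_of_irr (isIrrCharacter_linear θ)), ζ, hprim, ?_, ?_⟩
  · intro j u hu
    have hext : ∀ v : P, extendByZero K (fun k => (θ k : ℂ)) (v⁻¹ * u * v) =
        if v ∈ K then ζ ^ j else ζ ^ (q.τ * j) := by
      intro v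
      have key : ∀ i : ℕ, ((v⁻¹ * u * v : P) : G) = q.x ^ i →
          extendByZero K (fun k => (θ k : ℂ)) (v⁻¹ * u * v) = ζ ^ i := fun i hi => by
        have hmem : v⁻¹ * u * v ∈ K := by
          show v⁻¹ * u * v ∈ (zpowers q.x).subgroupOf P
          rw [mem_subgroupOf, hi]; exact q.pow_mem_zpowers i
        rw [extendByZero_of_mem K _ hmem]
        exact hθ i ⟨_, hmem⟩ hi
      split_ifs with hv
      · refine key j ?_
        obtain ⟨i, hi⟩ := q.mem_zpowers_iff'.mp (mem_subgroupOf.mp hv)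
        simp only [Subgroup.coe_mul, Subgroup.coe_inv, hu, hi]
        rw [mul_assoc, ← pow_add, add_comm, pow_add, inv_mul_cancel_left]
      · refine key (q.τ * j) ?_
        have hv' : (v : G)⁻¹ ∉ zpowers q.x := fun h => hv (mem_subgroupOf.mpr (by simpa using inv_mem h))
        have h1 := q.conj_pow_outside (inv_mem v.2) hv' j
        rw [inv_inv] at h1
        simp only [Subgroup.coe_mul, Subgroup.coe_inv, hu]
        exact h1
    rw [indFun_apply, Finset.sum_congr rfl (fun v _ => hext v), Finset.sum_ite, Finset.sum_const,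
      Finset.sum_const]
    have hKc : Nat.card K = q.N := by
      show Nat.card ↥((zpowers q.x).subgroupOf P) = q.N
      rw [Nat.card_congr (subgroupOfEquivOfLe q.zpowers_x_le).toEquiv, Nat.card_zpowers,
        q.orderOf_x_eq]
    have h1 : (Finset.univ.filter (fun v : P => v ∈ K)).card = q.N := by
      rw [← hKc, Nat.card_eq_fintype_card, Fintype.card_subtype]
    have h2 : (Finset.univ.filter (fun v : P => v ∉ K)).card = q.N := by
      rw [Finset.filter_not, Finset.card_sdiff_of_subset (Finset.filter_subset _ _), h1,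
        Finset.card_univ, ← Nat.card_eq_fintype_card, q.card_eq']
      omega
    rw [h1, h2, hKc, nsmul_eq_mul, nsmul_eq_mul, ← mul_add, ← mul_assoc,
      inv_mul_cancel₀ (Nat.cast_ne_zero.mpr q.N_pos.ne'), one_mul]
  · intro u hu
    rw [indFun_apply, Finset.sum_eq_zero, mul_zero]
    intro v _
    refine extendByZero_of_not_mem K _ fun h => hu ?_
    replace h := mem_subgroupOf.mp (show v⁻¹ * u * v ∈ (zpowers q.x).subgroupOf P from h)
    obtain ⟨i, hi⟩ := q.mem_zpowers_iff'.mp h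
    simp only [Subgroup.coe_mul, Subgroup.coe_inv] at hi
    have h1 : (u : G) = (v : G) * q.x ^ i * (v : G)⁻¹ := by rw [← hi]; group
    rcases q.conj_pow v.2 i with ⟨h2, -⟩ | h2 <;> rw [h1, h2] <;> exact q.pow_mem_zpowers _

theorem exists_parity (hq : q.quat = false) : ∃ μ : P →* ℂˣ,
    (∀ (j : ℕ) (u : P), (u : G) = q.x ^ j → (μ u : ℂ) = (-1) ^ j) ∧
    ∀ (j : ℕ) (u : P), (u : G) = q.x ^ j * q.y → (μ u : ℂ) = (-1) ^ (j + 1) := by
  classical
  let f : P → ℂˣ := fun u =>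
    if ∃ j : ℕ, (u : G) = q.x ^ (2 * j) ∨ (u : G) = q.x ^ (2 * j + 1) * q.y then 1 else -1
  have h2N : 2 ∣ q.N := ⟨q.H, q.N_eq⟩
  have hpar : ∀ a b : ℕ, q.x ^ a = q.x ^ b → a % 2 = b % 2 := fun a b h =>
    (q.pow_eq_pow.mp h).of_dvd h2N
  have hin : ∀ (a : ℕ) (u : P), (u : G) = q.x ^ a → f u = (-1) ^ a := by
    intro a u hu
    rcases Nat.even_or_odd a with ha | ha
    · obtain ⟨b, hb⟩ := ha
      simp only [f]
      rw [if_pos ⟨b, Or.inl (by rw [hu, hb, two_mul])⟩, Even.neg_one_pow ⟨b, hb⟩]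
    · simp only [f]
      rw [if_neg, ha.neg_one_pow]
      rintro ⟨b, hb | hb⟩
      · have h1 := hpar _ _ (hu.symm.trans hb)
        obtain ⟨c, rfl⟩ := ha
        omega
      · exact q.pow_mul_y_not _ (hb ▸ hu ▸ q.pow_mem_zpowers a)
  have hout : ∀ (a : ℕ) (u : P), (u : G) = q.x ^ a * q.y → f u = (-1) ^ (a + 1) := by
    intro a u hu
    rcases Nat.even_or_odd a with ha | ha
    · simp only [f]
      rw [if_neg, (ha.add_one).neg_one_pow]
      rintro ⟨b, hb | hb⟩
      · exact q.pow_mul_y_not _ (hu ▸ hb ▸ q.pow_mem_zpowers (2 * b))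
      · have h1 := hpar _ _ (mul_right_cancel (hu.symm.trans hb))
        obtain ⟨c, rfl⟩ := ha
        omega
    · obtain ⟨b, hb⟩ := ha
      simp only [f]
      rw [if_pos ⟨b, Or.inr (by rw [hu, hb])⟩, Even.neg_one_pow ⟨b + 1, by omega⟩]
  have hτ : ∀ b : ℕ, (-1 : ℂˣ) ^ (q.τ * b) = (-1) ^ b := by
    intro b
    have h4 := q.tau_mod_four
    rw [pow_mul, Odd.neg_one_pow ⟨q.τ / 2, by omega⟩]
  have hy2 : q.y * q.y = 1 := by rw [q.y_sq, if_neg (by simp [hq])]
  have hmul : ∀ u v : P, f (u * v) = f u * f v := by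
    intro u v
    rcases q.cover _ u.2 with ⟨a, ha⟩ | ⟨a, ha⟩ <;> rcases q.cover _ v.2 with ⟨b, hb⟩ | ⟨b, hb⟩
    · rw [hin a u ha, hin b v hb, hin (a + b) (u * v) (by rw [Subgroup.coe_mul, ha, hb, pow_add]),
        pow_add]
    · rw [hin a u ha, hout b v hb,
        hout (a + b) (u * v) (by rw [Subgroup.coe_mul, ha, hb, pow_add, mul_assoc]),
        add_assoc, pow_add]
    · have h1 : ((u * v : P) : G) = q.x ^ (a + q.τ * b) * q.y := by
        rw [Subgroup.coe_mul, ha, hb, mul_assoc, q.y_mul_pow, ← mul_assoc, pow_add]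
      rw [hout a u ha, hin b v hb, hout _ _ h1, pow_succ, pow_succ, pow_add, hτ]
      ac_rfl
    · have h1 : ((u * v : P) : G) = q.x ^ (a + q.τ * b) := by
        rw [Subgroup.coe_mul, ha, hb, mul_assoc, ← mul_assoc q.y, q.y_mul_pow, mul_assoc, hy2,
          mul_one, pow_add]
      rw [hout a u ha, hout b v hb, hin _ _ h1, pow_succ, pow_succ, pow_add, hτ]
      simp
  refine ⟨{ toFun := f, map_one' := by simpa using hin 0 1 (by simp), map_mul' := hmul },
    fun j u hu => ?_, fun j u hu => ?_⟩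
  · show (f u : ℂ) = _
    rw [hin j u hu]; simp
  · show (f u : ℂ) = _
    rw [hout j u hu]; simp

/-- The auxiliary generalised character of a generalised quaternion or semidihedral group. -/
theorem exists_eta (h4 : 4 ≤ q.n) : ∃ η : G → ℂ,
    Cfsg.IsGeneralizedCharacter P (fun u : P => η u) ∧ η 1 = 4 ∧ η q.z = 0 ∧
      (∀ l : ℕ, η (q.x ^ (q.τ * l)) = η (q.x ^ l)) ∧
      (∀ g ∈ P, orderOf g = 4 → η g = 2) ∧ ∀ g ∈ P, orderOf g = 2 → η g = 0 := by
  classical
  obtain ⟨ψ, hψ, ζ, hprim, hψin, hψout⟩ := q.exists_psi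
  obtain ⟨μ, hμin, hμout⟩ : ∃ μ : P →* ℂˣ,
      (∀ (j : ℕ) (u : P), (u : G) = q.x ^ j → (μ u : ℂ) = if q.quat then 1 else (-1) ^ j) ∧
      ∀ (j : ℕ) (u : P), (u : G) = q.x ^ j * q.y →
        (μ u : ℂ) = if q.quat then 1 else (-1) ^ (j + 1) := by
    rcases hq : q.quat with _ | _
    · obtain ⟨μ, h1, h2⟩ := q.exists_parity hq
      exact ⟨μ, by simpa using h1, by simpa using h2⟩
    · exact ⟨1, fun j u _ => by simp, fun j u _ => by simp⟩
  let φ : P → ℂ := (fun _ => (1 : ℂ)) + (fun u => (μ u : ℂ)) + ψ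
  have hφ : IsCharacter P φ :=
    isCharacter_add (isCharacter_add isCharacter_one
      (isCharacter_of_irr (isIrrCharacter_linear μ))) hψ
  refine ⟨extendByZero P φ, ?_, ?_⟩
  · rw [show (fun u : P => extendByZero P φ u) = φ from funext fun u => extendByZero_coe P φ u]
    exact ⟨φ, 0, hφ, isCharacter_zero, (sub_zero φ).symm⟩
  have hN8 : 8 ∣ q.N := by
    obtain ⟨a, ha⟩ := q.four_dvd_H h4
    exact ⟨a, by rw [q.N_eq, ha]; ring⟩
  have hval : ∀ j : ℕ, extendByZero P φ (q.x ^ j) =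
      1 + (if q.quat then 1 else (-1) ^ j) + (ζ ^ j + ζ ^ (q.τ * j)) := by
    intro j
    rw [extendByZero_of_mem P φ (pow_mem q.x_mem j)]
    show 1 + (μ ⟨_, _⟩ : ℂ) + ψ ⟨_, _⟩ = _
    rw [hμin j ⟨_, pow_mem q.x_mem j⟩ rfl, hψin j ⟨_, pow_mem q.x_mem j⟩ rfl]
  -- a power of `x` killed by `4` has an even exponent
  have heven : ∀ j : ℕ, q.N ∣ 4 * j → 2 ∣ j := fun j hj => by
    have := hN8.trans hj
    omega
  have hpar : ∀ j : ℕ, q.N ∣ 4 * j → (if q.quat then (1 : ℂ) else (-1) ^ j) = 1 := fun j hj => by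
    split_ifs
    · rfl
    · exact (even_iff_two_dvd.mpr (heven j hj)).neg_one_pow
  have htau : ∃ t, q.τ = 4 * t + 3 := ⟨q.τ / 4, by have := q.tau_mod_four; omega⟩
  obtain ⟨t, ht⟩ := htau
  have hcases : ∀ g ∈ P, g ^ 4 = 1 → g ≠ 1 →
      (g ^ 2 ≠ 1 ∧ extendByZero P φ g = 2) ∨ (g ^ 2 = 1 ∧ extendByZero P φ g = 0) := by
    intro g hg hg4 hg1
    rcases q.cover g hg with ⟨j, rfl⟩ | ⟨j, rfl⟩
    · rw [← pow_mul, q.pow_eq_one] at hg4
      have hw4 : (ζ ^ j) ^ 4 = 1 := by rw [← pow_mul, hprim.pow_eq_one_iff_dvd, mul_comm]; rwa [mul_comm] at hg4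
      have hv : extendByZero P φ (q.x ^ j) = 1 + 1 + (ζ ^ j + (ζ ^ j) ^ 3) := by
        rw [hval, hpar j (by rwa [mul_comm] at hg4), mul_comm q.τ j, pow_mul, ht, pow_add, pow_mul,
          hw4, one_pow, one_mul]
      rw [hv, ← pow_mul, q.pow_eq_one]
      have hw1 : ζ ^ j ≠ 1 := by
        rw [Ne, hprim.pow_eq_one_iff_dvd]
        exact fun h => hg1 (q.pow_eq_one.mpr h)
      by_cases h2 : q.N ∣ j * 2
      · refine Or.inr ⟨h2, ?_⟩
        have hw2 : (ζ ^ j) ^ 2 = 1 := by rwa [← pow_mul, hprim.pow_eq_one_iff_dvd]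
        have hm : ζ ^ j = -1 := (sq_eq_one_iff.mp hw2).resolve_left hw1
        rw [hm]; ring
      · refine Or.inl ⟨fun h => h2 (q.pow_eq_one.mp h), ?_⟩
        have hw2 : (ζ ^ j) ^ 2 = -1 := by
          refine (sq_eq_one_iff.mp (by rw [← hw4]; ring)).resolve_left ?_
          rwa [← pow_mul, hprim.pow_eq_one_iff_dvd]
        linear_combination (ζ ^ j) * hw2
    · have hψ0 : ψ ⟨_, mul_mem (pow_mem q.x_mem j) q.y_mem⟩ = 0 := hψout _ (q.pow_mul_y_not j)
      rw [extendByZero_of_mem P φ (mul_mem (pow_mem q.x_mem j) q.y_mem)]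
      show (_ ∧ 1 + (μ ⟨_, _⟩ : ℂ) + ψ ⟨_, _⟩ = 2) ∨ (_ ∧ 1 + (μ ⟨_, _⟩ : ℂ) + ψ ⟨_, _⟩ = 0)
      rw [hψ0, hμout j ⟨_, mul_mem (pow_mem q.x_mem j) q.y_mem⟩ rfl, sq]
      rcases hq : q.quat with _ | _
      · rw [q.sq_outside_semi hq]
        rcases Nat.even_or_odd j with hj | hj
        · right
          rw [if_pos hj, if_neg (by simp), (hj.add_one).neg_one_pow]
          exact ⟨rfl, by ring⟩
        · left
          rw [if_neg (Nat.not_even_iff_odd.mpr hj), if_neg (by simp), (hj.add_one).neg_one_pow]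
          exact ⟨q.z_ne_one, by ring⟩
      · left
        rw [q.sq_outside_quat hq, if_pos rfl]
        exact ⟨q.z_ne_one, by ring⟩
  refine ⟨?_, ?_, ?_, ?_, ?_⟩
  · have h := hval 0
    simp only [pow_zero, mul_zero, ite_self] at h
    rw [h]; norm_num
  · have h := hcases q.z q.z_mem (by rw [show 4 = 2 * 2 from rfl, pow_mul, sq q.z, q.z_sq, one_pow]) q.z_ne_one
    rcases h with ⟨h, -⟩ | ⟨-, h⟩
    · exact absurd (by rw [sq]; exact q.z_sq) h
    · exact h
  · intro l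
    rw [hval, hval]
    have h1 : ζ ^ (q.τ * (q.τ * l)) = ζ ^ l := by
      have h2 : q.τ * q.τ ≡ 1 [MOD q.N] := q.tau_sq
      have h3 : q.τ * (q.τ * l) % q.N = l % q.N := by
        rw [← mul_assoc]; simpa [Nat.ModEq] using h2.mul_right l
      rw [pow_eq_pow_mod _ hprim.pow_eq_one, h3, ← pow_eq_pow_mod _ hprim.pow_eq_one]
    have h2 : ((-1 : ℂ) ^ (q.τ * l)) = (-1) ^ l := by
      rw [pow_mul, Odd.neg_one_pow ⟨2 * t + 1, by omega⟩]
    rw [h1, h2, add_comm (ζ ^ (q.τ * l))]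
  · intro g hg ho
    rcases hcases g hg (ho ▸ pow_orderOf_eq_one g) (fun h => by simp [h] at ho) with ⟨-, h⟩ | ⟨h, -⟩
    · exact h
    · have := Nat.le_of_dvd two_pos (orderOf_dvd_of_pow_eq_one h)
      omega
  · intro g hg ho
    have hg2 : g ^ 2 = 1 := ho ▸ pow_orderOf_eq_one g
    rcases hcases g hg (by rw [show 4 = 2 * 2 from rfl, pow_mul, hg2, one_pow])
      (fun h => by simp [h] at ho) with ⟨h, -⟩ | ⟨-, h⟩
    · exact absurd hg2 h
    · exact h

end CfsgLib.Blocks.SQP
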