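import Cfsg.Agent.Lib.Blocks.SQ.Family
import Cfsg.Agent.Lib.Blocks.SQ.Eta
import Cfsg.Agent.Lib.BlockOrth.Dimension

/-!
# The contribution matrices of the major subsections of a quaternion or semidihedral block
-/

set_option autoImplicit false
set_option linter.unusedSectionVars false
set_option linter.style.haveILetI false

namespace CfsgLib.Blocks

open Cfsg Chars BlockOrth Finset
open scoped ComplexConjugate

universe u

variable {G : Type u} [Group G] [Fintype G] {M : Ideal AlgInt} [M.IsPrime] [Fact (Nat.Prime 2)]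
  {B : Set (IrrCharacter G)} {P : Subgroup G}
  {e : Set (IrrCharacter (Subgroup.centralizer (P : Set G)))}

/-- In a block of defect at least two the number of characters of height zero is divisible by
four. -/
theorem four_dvd_card_height_zero (hpM : ((2 : ℕ) : AlgInt) ∈ M) (hB : IsPBlock M B)
    (hd : 2 ≤ blockDefect 2 B) [Fintype (IrrCharacter G)] (s : Finset (IrrCharacter G))
    (hs : ∀ χ, χ ∈ s ↔ χ ∈ B) :
    4 ∣ (s.filter fun χ : IrrCharacter G => blockHeight 2 B (χ : G → ℂ) = 0).card := by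
  classical
  set bm := blockMin 2 B
  have h1 := sum_degree_sq_factorization (p := 2) hpM hB
  rw [finsum_mem_eq_sum_of_inter_support_eq (t := s) _ (by ext χ; simp [hs]),
    ← blockMin_add_blockDefect (p := 2) (IsPBlock.nonempty hB)] at h1
  set o : IrrCharacter G → ℕ := fun χ =>
    charDegree (χ : G → ℂ) / 2 ^ degVal 2 χ with ho
  have hdeg : ∀ χ ∈ s, charDegree (χ : G → ℂ) ^ 2 =
      2 ^ (2 * bm) * (4 ^ blockHeight 2 B (χ : G → ℂ) * o χ ^ 2) := fun χ hχ => by
    have h2 : degVal 2 χ = bm + blockHeight 2 B (χ : G → ℂ) := by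
      have := blockHeight_eq (p := 2) (B := B) χ
      have := blockMin_le (p := 2) ((hs χ).1 hχ)
      omega
    have h3 : 2 ^ degVal 2 χ * o χ = charDegree (χ : G → ℂ) := Nat.ordProj_mul_ordCompl_eq_self _ 2
    conv_lhs => rw [← h3, h2]
    rw [show (4 : ℕ) ^ blockHeight 2 B (χ : G → ℂ) = 2 ^ (2 * blockHeight 2 B (χ : G → ℂ)) by
      rw [pow_mul]; norm_num]
    ring
  rw [Finset.sum_congr rfl hdeg, ← Finset.mul_sum] at h1
  set S : ℕ := ∑ χ ∈ s, 4 ^ blockHeight 2 B (χ : G → ℂ) * o χ ^ 2 with hS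
  have hodd : ∀ χ, o χ % 2 = 1 := fun χ => by
    have h : ¬ 2 ∣ o χ := Nat.not_dvd_ordCompl Nat.prime_two (irr_charDegree_ne_zero χ)
    omega
  have hS0 : S ≠ 0 := by
    obtain ⟨χ, hχ, h0⟩ := exists_blockHeight_eq_zero (p := 2) hB
    refine fun h => ?_
    have := (Finset.sum_eq_zero_iff.1 h) χ ((hs χ).2 hχ)
    rw [h0, pow_zero, one_mul] at this
    have h2 : o χ = 0 := (pow_eq_zero_iff two_ne_zero).1 this
    have h3 := hodd χ
    rw [h2] at h3
    omega
  rw [Nat.factorization_mul (pow_ne_zero _ two_ne_zero) hS0, Finsupp.add_apply,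
    Nat.Prime.factorization_pow Nat.prime_two, Finsupp.single_eq_same] at h1
  have h4 : 4 ∣ S := by
    refine (dvd_trans (pow_dvd_pow 2 (show 2 ≤ S.factorization 2 by omega)) ?_)
    exact Nat.ordProj_dvd S 2
  have hmod : ((S : ℕ) : ZMod 4) =
      ((s.filter fun χ : IrrCharacter G => blockHeight 2 B (χ : G → ℂ) = 0).card : ZMod 4) := by
    rw [hS, Nat.cast_sum, Finset.card_filter, Nat.cast_sum]
    refine Finset.sum_congr rfl fun χ _ => ?_
    push_cast
    rw [show (4 : ZMod 4) = 0 from rfl]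
    split_ifs with h
    · rw [h, pow_zero, one_mul]
      have hsq : ∀ a : ℕ, a % 2 = 1 → (a : ZMod 4) ^ 2 = 1 := fun a ha => by
        obtain ⟨t, rfl⟩ : ∃ t, a = 2 * t + 1 := ⟨a / 2, by omega⟩
        push_cast
        have h4z : (4 : ZMod 4) = 0 := rfl
        linear_combination ((t : ZMod 4) ^ 2 + t) * h4z
      exact hsq _ (hodd χ)
    · rw [zero_pow h, zero_mul]
  rwa [← ZMod.natCast_eq_zero_iff, ← hmod, ZMod.natCast_eq_zero_iff]

namespace SQP

theorem two_pow_n (q : SQP P) : 2 ^ q.n = 4 * q.H := by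
  show 2 ^ q.n = 2 ^ 2 * 2 ^ (q.n - 2)
  rw [← pow_add]
  congr 1
  have := q.three_le
  omega

end SQP

/-- The local contributions of a quaternion or semidihedral block at its major subsections, with
the identities they satisfy. -/
structure SQData (M : Ideal AlgInt) [M.IsPrime] (B : Set (IrrCharacter G))
    (e : Set (IrrCharacter (Subgroup.centralizer (P : Set G)))) (q : SQP P)
    (bz : Set (IrrCharacter (Subgroup.centralizer (Subgroup.zpowers q.z : Set G))))
    (s : Finset (IrrCharacter G)) where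
  cols : SQCols M B e q s
  A : IrrCharacter G → IrrCharacter G → ℤ
  C : IrrCharacter G → IrrCharacter G → ℤ
  A_spec : ∀ χ ∈ s, ∀ ψ ∈ s, (A χ ψ : ℂ) =
    ((4 * q.H : ℕ) : ℂ) * classInner (pRegularPart 2 (χ : G → ℂ)) (ψ : G → ℂ)
  C_spec : ∀ χ ψ : IrrCharacter G, (C χ ψ : ℂ) =
    ((4 * q.H : ℕ) : ℂ) * secInner 2 q.z bz (χ : G → ℂ) (ψ : G → ℂ)
  card_eq : Nat.card B + 1 = blockRank 2 B + blockRank 2 bz + outCount M e q + q.H
  traceA : ∑ χ ∈ s, A χ χ = 4 * q.H * blockRank 2 B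
  traceC : ∑ χ ∈ s, C χ χ = 4 * q.H * blockRank 2 bz
  rowA : ∀ χ ∈ s, ∑ ψ ∈ s, A χ ψ ^ 2 = 4 * q.H * A χ χ
  rowC : ∀ χ ∈ s, ∑ ψ ∈ s, C χ ψ ^ 2 = 4 * q.H * C χ χ
  symm : ∀ χ ψ : IrrCharacter G, A χ ψ = A ψ χ ∧ C χ ψ = C ψ χ
  pos : ∀ χ ∈ s, 1 ≤ A χ χ ∧ 1 ≤ C χ χ
  height_zero : ∀ χ ∈ s, blockHeight 2 B (χ : G → ℂ) = 0 ↔ cols.rows.w χ ≠ 0
  dvd : ∀ χ ∈ s, cols.rows.w χ = 0 →
    (2 : ℤ) ^ (blockHeight 2 B (χ : G → ℂ) + 1) ∣ A χ χ ∧
      (2 : ℤ) ^ (blockHeight 2 B (χ : G → ℂ) + 1) ∣ C χ χ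
  diag : ∀ χ ∈ s, cols.rows.w χ = 0 →
    ((A χ χ + C χ χ : ℤ) : ℂ) + SQFourier.freeNorm q.setup (cols.f χ) = ((4 * q.H : ℕ) : ℂ)
  vanish : ∀ χ ∈ s, cols.rows.w χ = 0 → χ ∉ cols.rows.Ev → χ ∉ cols.rows.Od →
    A χ χ = 2 * q.H ∧ C χ χ = 2 * q.H ∧ blockHeight 2 B (χ : G → ℂ) = q.n - 2 ∧
      ∀ ψ ∈ s, cols.rows.w ψ ≠ 0 → (q.H : ℤ) ≤ |A χ ψ| ∧ C χ ψ = -A χ ψ
  bessel : ∀ p ∈ s, ∀ t ⊆ s,
    ∑ ψ ∈ t, (A p ψ - C p ψ) ^ 2 ≤ 4 * q.H * (A p p + C p p)

/-- The data exist. -/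
theorem exists_sqData (hM : IsPModular 2 M) (hmax : IsMaximalBrauerPair 2 M B P e) (q : SQP P)
    {bz : Set (IrrCharacter (Subgroup.centralizer (Subgroup.zpowers q.z : Set G)))}
    (hbz : pairBelow 2 M (⟨P, e⟩ : BrauerPairIdx G) q.z = pairAt q.z bz)
    (s : Finset (IrrCharacter G)) (hs : ∀ χ, χ ∈ s ↔ χ ∈ B) :
    Nonempty (SQData M B e q bz s) := by
  classical
  haveI := irrFintype G
  haveI := fun S : Subgroup G => Fintype.ofFinite S
  haveI := fun S : Subgroup G => irrFintype S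
  haveI : Fintype {j : Bool // OutCand M e q j} := Fintype.ofFinite _
  have hpM : ((2 : ℕ) : AlgInt) ∈ M := hM.2.2
  have hB : IsPBlock M B := hmax.1.2.1
  have hc : IsBrauerPair 2 M P e := hmax.1.1
  have hPp : IsPGroup 2 P := hc.1
  have hsB : s = univ.filter (· ∈ B) := by ext χ; simp [hs]
  have hdB : blockDefect 2 B = q.n := by
    have h1 := card_defectGroup hpM hB (isDefectGroup_of_maximal hpM hmax)
    rw [q.card_eq] at h1
    exact (Nat.pow_right_injective le_rfl h1).symm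
  obtain ⟨cols⟩ := exists_sqCols hM hmax q s hs
  obtain ⟨F, hF⟩ := exists_sqFamily q hM hmax cols.nofus
  have hL : ∀ (i : SQIdx M e q) (u : G), sqElt M e q i = u →
      ∀ b, pairBelow 2 M (⟨P, e⟩ : BrauerPairIdx G) u = pairAt u b →
      blockRank 2 (F.b i) = blockRank 2 b ∧ ∀ χ ψ : IrrCharacter G,
        F.L i χ ψ = secInner 2 u b (χ : G → ℂ) (ψ : G → ℂ) := by
    intro i u hu b hb
    obtain rfl : F.y i = u := (hF i).1.trans hu
    rw [(hF i).2] at hb
    obtain rfl : F.b i = b := eq_of_heq (Sigma.mk.inj_iff.1 hb).2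
    exact ⟨rfl, fun _ _ => rfl⟩
  -- the major subsections
  obtain ⟨b1, hb1⟩ := exists_pairBelow_eq (M := M) (p := 2) (⟨P, e⟩ : BrauerPairIdx G) (1 : G)
  have hmajor : ∀ (u : G), u ∈ P → u * u = 1 → u ∈ Subgroup.centralizer (P : Set G) →
      ∀ b, pairBelow 2 M (⟨P, e⟩ : BrauerPairIdx G) u = pairAt u b →
      ∃ a : IrrCharacter G → IrrCharacter G → ℤ,
        (∀ χ ψ, (a χ ψ : ℂ) = ((4 * q.H : ℕ) : ℂ) * secInner 2 u b (χ : G → ℂ) (ψ : G → ℂ)) ∧
        ∑ χ ∈ s, a χ χ = 4 * q.H * blockRank 2 b ∧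
        (∀ χ ∈ s, ∑ ψ ∈ s, a χ ψ ^ 2 = 4 * q.H * a χ χ) ∧
        (∀ χ ψ, a χ ψ = a ψ χ) ∧ (∀ χ ∈ s, 1 ≤ a χ χ) ∧
        (∀ χ ∈ s, ∀ ψ ∈ s, blockHeight 2 B (ψ : G → ℂ) = 0 →
          ∃ m : ℤ, Odd m ∧ a χ ψ = 2 ^ blockHeight 2 B (χ : G → ℂ) * m) ∧
        (∀ χ ∈ s, 0 < blockHeight 2 B (χ : G → ℂ) →
          (2 : ℤ) ^ (blockHeight 2 B (χ : G → ℂ) + 1) ∣ a χ χ) := by
    intro u hu hu2 huC b hb
    have hle : Below 2 M (pairAt u b) ⟨P, e⟩ :=
      hb ▸ pairBelow_below (c := (⟨P, e⟩ : BrauerPairIdx G)) hpM hc hu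
    have hbB : IsBrauerPairOf 2 M B (Subgroup.zpowers u) b :=
      (isBrauerPairOf_iff_of_below hpM hle B).2 hmax.1
    have hH := mem_centralizer_zpowers_iff u
    have hord : ∃ k, orderOf u = 2 ^ k := exists_pow_orderOf_of_mem hPp hu
    have hind := isInducedBlock_zpowers hpM hbB
    have hmaj := blockDefect_eq_of_central hpM hmax huC hle
    choose a ha using fun χ ψ : IrrCharacter G => exists_int_contrib (b := b) hH hu2 χ ψ
    have hsi : ∀ χ ψ, (a χ ψ : ℂ) =
        ((4 * q.H : ℕ) : ℂ) * secInner 2 u b (χ : G → ℂ) (ψ : G → ℂ) := fun χ ψ => by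
      rw [← ha, ← secInner_eq_contrib hpM hbB.1.2, hmaj, hdB, q.two_pow_n]
    have hsymm : ∀ χ ψ, a χ ψ = a ψ χ := fun χ ψ => by
      apply Int.cast_injective (α := ℂ)
      rw [← ha ψ χ, ← conj_contrib hpM hH hind.1, ha χ ψ, map_intCast]
    have hrow : ∀ χ ∈ s, ∑ ψ ∈ s, a χ ψ ^ 2 = 4 * q.H * a χ χ := fun χ _ => by
      have h1 := sum_norm_sq_contrib_row hM hH hord hind χ
      simp only [ha, Complex.norm_intCast, sq_abs, Complex.intCast_re, hmaj, hdB, ← hsB] at h1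
      apply Int.cast_injective (α := ℝ)
      push_cast
      rw [h1]
      congr 1
      exact_mod_cast q.two_pow_n
    obtain ⟨ψ₀, hψ₀, hψ0⟩ := exists_blockHeight_eq_zero (p := 2) hB
    have hnn : ∀ χ, 0 ≤ a χ χ := fun χ => by
      obtain ⟨r, hr, hr'⟩ := contrib_self_eq_ofReal hpM hH hind.1 (b := b) χ
      rw [ha] at hr'
      have : ((a χ χ : ℤ) : ℝ) = r := by exact_mod_cast hr'
      exact_mod_cast this ▸ hr
    refine ⟨a, hsi, ?_, hrow, hsymm, fun χ hχ => ?_, fun χ hχ ψ hψ h0 => ?_, fun χ hχ hpos => ?_⟩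
    · have h1 := sum_contrib_self hM hH hord hind
      simp only [ha, hmaj, hdB, ← hsB, q.two_pow_n] at h1
      apply Int.cast_injective (α := ℂ)
      push_cast
      rw [h1]
      push_cast
      ring
    · by_contra hlt
      have h0 : a χ χ = 0 := by have := hnn χ; omega
      have h1 := hrow χ hχ
      rw [h0, mul_zero, Finset.sum_eq_zero_iff_of_nonneg fun ψ _ => sq_nonneg _] at h1
      refine contrib_ne_zero_of_height_zero hpM hH hord hind hmaj ((hs χ).1 hχ) hψ₀ hψ0 ?_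
      rw [ha, pow_eq_zero_iff two_ne_zero |>.1 (h1 ψ₀ ((hs _).2 hψ₀)), Int.cast_zero]
    · have hi := isIntegral_contrib_div hpM hH hind.1 hmaj ((hs χ).1 hχ) ψ
      have hu' := not_memLocalIdeal_contrib_div hpM hH hord hind hmaj ((hs χ).1 hχ) ((hs ψ).1 hψ) h0
      simp only [ha, Nat.cast_ofNat] at hi hu'
      obtain ⟨m, hm, hodd⟩ := exists_odd_mul hpM hi
      exact ⟨m, hodd.2 hu', hm⟩
    · have hi := isIntegral_contrib_div hpM hH hind.1 hmaj ((hs χ).1 hχ) χ
      have hu' := memLocalIdeal_contrib_self_div hpM hH hord hind hmaj ((hs χ).1 hχ) hpos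
      simp only [ha, Nat.cast_ofNat] at hi hu'
      obtain ⟨m, hm, hodd⟩ := exists_odd_mul hpM hi
      obtain ⟨t, ht⟩ : Even m := Int.not_odd_iff_even.1 fun h => hodd.1 h hu'
      exact ⟨t, by rw [hm, ht, pow_succ]; ring⟩
  have hzC : q.z ∈ Subgroup.centralizer (P : Set G) :=
    Subgroup.mem_centralizer_iff.2 fun g hg => (q.commute_z hg).eq.symm
  obtain ⟨A, hA, htA, hrowA, hsA, hposA, hdivA, hdvdA⟩ :=
    hmajor 1 (one_mem _) (one_mul _) (one_mem _) b1 hb1
  obtain ⟨C, hC, htC, hrowC, hsC, hposC, hdivC, hdvdC⟩ := hmajor q.z q.z_mem q.z_sq hzC bz hbz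
  have hb1B : IsBrauerPairOf 2 M B (Subgroup.zpowers (1 : G)) b1 :=
    (isBrauerPairOf_iff_of_below hpM
      (hb1 ▸ pairBelow_below (c := (⟨P, e⟩ : BrauerPairIdx G)) hpM hc (one_mem _)) B).2 hmax.1
  rw [blockRank_pair_one hpM hb1B] at htA
  -- the free subsections
  choose bl hbl using fun u : G =>
    exists_pairBelow_eq (M := M) (p := 2) (⟨P, e⟩ : BrauerPairIdx G) u
  have hfree : ∀ r : q.Rep, blockRank 2 (F.b (Sum.inr (Sum.inl r))) = 1 ∧ ∀ χ ψ : IrrCharacter G,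
      F.L (Sum.inr (Sum.inl r)) χ ψ = cols.f χ ((r : ℕ) : ZMod q.setup.N) *
        conj (cols.f ψ ((r : ℕ) : ZMod q.setup.N)) / (q.setup.N : ℂ) := fun r => by
    obtain ⟨h1, h2⟩ := hL (Sum.inr (Sum.inl r)) (q.x ^ (r : ℕ)) rfl _ (hbl _)
    obtain ⟨h3, h4⟩ := cols.section_free r r.2.1 _ (hbl _)
    exact ⟨h1.trans h3, fun χ ψ => (h2 χ ψ).trans (h4 χ ψ)⟩
  -- heights zero
  set W := s.filter fun χ => cols.rows.w χ ≠ 0 with hW
  set Z := s.filter fun χ : IrrCharacter G => blockHeight 2 B (χ : G → ℂ) = 0 with hZ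
  have hZW : Z = W := by
    refine Finset.eq_of_subset_of_card_le (fun χ hχ => ?_) ?_
    · obtain ⟨h1, h2⟩ := mem_filter.1 hχ
      exact mem_filter.2 ⟨h1, cols.height_zero χ ((hs χ).1 h1) h2⟩
    · obtain ⟨χ, hχ, h0⟩ := exists_blockHeight_eq_zero (p := 2) hB
      have h1 : 0 < Z.card := Finset.card_pos.2 ⟨χ, mem_filter.2 ⟨(hs χ).2 hχ, h0⟩⟩
      have h2 := four_dvd_card_height_zero hpM hB (by have := q.three_le; omega) s hs
      rw [hW, cols.rows.w_card]
      rw [← hZ] at h2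
      obtain ⟨c', hc'⟩ := h2
      omega
  have hh0 : ∀ χ ∈ s, blockHeight 2 B (χ : G → ℂ) = 0 ↔ cols.rows.w χ ≠ 0 := fun χ hχ => by
    have : χ ∈ Z ↔ χ ∈ W := by rw [hZW]
    simpa [hZ, hW, hχ] using this
  -- the outside subsections
  have houtside : ∀ j : {j : Bool // OutCand M e q j},
      blockRank 2 (F.b (Sum.inr (Sum.inr j))) = 1 ∧
        ∀ χ ∈ s, cols.rows.w χ = 0 → F.L (Sum.inr (Sum.inr j)) χ χ = 0 := by
    intro j
    set v := sqElt M e q (Sum.inr (Sum.inr j)) with hv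
    obtain ⟨hvP, hvx⟩ : v ∈ P ∧ v ∉ Subgroup.zpowers q.x := by
      obtain ⟨_ | _, hj⟩ := j
      · exact ⟨q.y_mem, q.y_not⟩
      · exact ⟨xy_mem q, xy_not q⟩
    obtain ⟨hr, hLv⟩ := hL _ v rfl _ (hbl v)
    set b := bl v with hb
    have hbB : IsBrauerPairOf 2 M B (Subgroup.zpowers v) b :=
      (isBrauerPairOf_iff_of_below hpM
        (hbl v ▸ pairBelow_below (c := (⟨P, e⟩ : BrauerPairIdx G)) hpM hc hvP) B).2 hmax.1
    have hdef : blockDefect 2 b = 2 := by
      have h1 := blockDefect_of_images hpM hmax hvP (hbl v) fun w hw hfus => by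
        by_cases hwx : w ∈ Subgroup.zpowers q.x
        · exfalso
          obtain ⟨l, rfl⟩ := q.mem_zpowers_iff'.1 hwx
          obtain ⟨k, hk⟩ := exists_fus_pow q hM hmax l
          have heq := member_inj q hM hmax cols.nofus
            (show PairFus M 2 (⟨P, e⟩ : BrauerPairIdx G) v (sqElt M e q (k.map id Sum.inl)) from
              hfus.trans hk.symm)
          cases k <;> simp at heq
        · rw [q.card_centralizer_of_notMem hw hwx, q.card_centralizer_of_notMem hvP hvx]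
      rw [q.card_centralizer_of_notMem hvP hvx, show 4 = 2 ^ 2 from rfl] at h1
      exact (Nat.pow_right_injective le_rfl h1).symm
    have hH := mem_centralizer_zpowers_iff v
    have hord := exists_pow_orderOf_of_mem hPp hvP
    have hind := isInducedBlock_zpowers hpM hbB
    have hrank : blockRank 2 b = 1 := by
      refine blockRank_eq_one_of_four hM hbB.1.2 hdef.le (mem_center_of_self hH) ?_ ?_
      · intro h
        have h1 : v = 1 := congrArg Subtype.val h
        exact hvx (h1 ▸ one_mem _)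
      · obtain ⟨k, hk⟩ := hord
        exact ⟨k, by rw [← Subgroup.orderOf_coe]; exact hk⟩
    refine ⟨hr.trans hrank, ?_⟩
    choose a ha0 ha using fun χ : IrrCharacter G =>
      exists_int_contrib_self (b := b) hpM hH hbB.1.2 (q.pow_four_of_notMem hvP hvx) χ
    have htr := sum_contrib_self hM hH hord hind
    rw [hdef, hrank, ← hsB] at htr
    simp only [ha] at htr
    norm_num at htr
    have hsum : ∑ χ ∈ s, a χ = 4 := by exact_mod_cast htr
    have hodd : ∀ χ ∈ W, 1 ≤ a χ := fun χ hχ => by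
      rw [← hZW] at hχ
      obtain ⟨h1, h2⟩ := mem_filter.1 hχ
      have hd := (blockHeight_eq_zero_iff ((hs χ).1 h1)).1 h2
      have h3 := not_memLocalIdeal_contrib hpM hH hord hind ((hs χ).1 h1) ((hs χ).1 h1) hd hd
      rw [ha, memLocalIdeal_intCast_iff hpM, not_not] at h3
      obtain ⟨t, ht⟩ := h3
      have := ha0 χ
      omega
    intro χ hχ hw
    have hW4 : (4 : ℤ) ≤ ∑ χ ∈ W, a χ := by
      calc (4 : ℤ) = ∑ χ ∈ W, 1 := by simp [hW, cols.rows.w_card]
        _ ≤ _ := Finset.sum_le_sum hodd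
    have hχW : χ ∉ W := fun h => (mem_filter.1 h).2 hw
    have h5 : ∑ φ ∈ W, a φ + a χ ≤ ∑ φ ∈ s, a φ := by
      rw [add_comm, ← Finset.sum_insert hχW]
      refine Finset.sum_le_sum_of_subset_of_nonneg ?_ fun φ _ _ => ha0 φ
      exact Finset.insert_subset hχ (Finset.filter_subset _ _)
    have hz : a χ = 0 := by have := ha0 χ; omega
    rw [hLv]
    have h6 := secInner_eq_contrib hpM hbB.1.2 χ χ
    rw [ha, hz, Int.cast_zero, hdef, mul_eq_zero] at h6
    exact h6.resolve_left (by norm_num)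
  -- the two major subsections in the family
  have hLA : ∀ χ ψ, F.L (Sum.inl false) χ ψ = (A χ ψ : ℂ) / ((4 * q.H : ℕ) : ℂ) := fun χ ψ => by
    rw [(hL (Sum.inl false) 1 rfl b1 hb1).2, hA, mul_div_cancel_left₀]
    exact Nat.cast_ne_zero.2 (by have := q.two_le_H; omega)
  have hLC : ∀ χ ψ, F.L (Sum.inl true) χ ψ = (C χ ψ : ℂ) / ((4 * q.H : ℕ) : ℂ) := fun χ ψ => by
    rw [(hL (Sum.inl true) q.z rfl bz hbz).2, hC, mul_div_cancel_left₀]
    exact Nat.cast_ne_zero.2 (by have := q.two_le_H; omega)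
  have h4H : ((4 * q.H : ℕ) : ℂ) ≠ 0 := Nat.cast_ne_zero.2 (by have := q.two_le_H; omega)
  have hτf : ∀ χ ∈ s, ∀ l, cols.f χ (q.setup.τ * l) * conj (cols.f χ (q.setup.τ * l)) =
      cols.f χ l * conj (cols.f χ l) := fun χ hχ l => by rw [cols.tau_inv χ l]
  have hsplit : ∀ g : SQIdx M e q → ℂ, ∑ i, g i = g (Sum.inl false) + g (Sum.inl true) +
      (∑ r : q.Rep, g (Sum.inr (Sum.inl r)) + ∑ j, g (Sum.inr (Sum.inr j))) := fun g => by
    rw [Fintype.sum_sum_type, Fintype.sum_sum_type, Fintype.sum_bool]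
    ring
  have hdiag : ∀ χ ∈ s, cols.rows.w χ = 0 →
      ((A χ χ + C χ χ : ℤ) : ℂ) + SQFourier.freeNorm q.setup (cols.f χ) =
        ((4 * q.H : ℕ) : ℂ) := by
    intro χ hχ hw
    have h1 := F.inner_eq_sum_L hpM hB ((hs χ).1 hχ) χ
    rw [inner_irr_self, hsplit, hLA, hLC, Finset.sum_congr rfl fun r _ => (hfree r).2 χ χ,
      Finset.sum_eq_zero fun j _ => (houtside j).2 χ hχ hw, add_zero, ← Finset.sum_div] at h1
    have h2 := q.two_sum_reps (fun l => cols.f χ l * conj (cols.f χ l)) (hτf χ hχ)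
    have hN : (q.setup.N : ℂ) ≠ 0 := Nat.cast_ne_zero.2 (NeZero.ne _)
    have h3 : ((4 * q.H : ℕ) : ℂ) = 2 * (q.setup.N : ℂ) := by
      rw [q.setup.N_eq]
      show ((4 * q.H : ℕ) : ℂ) = 2 * ((2 * q.H : ℕ) : ℂ)
      push_cast; ring
    rw [SQFourier.freeNorm, ← h2]
    push_cast
    rw [h3] at h1
    field_simp at h1
    push_cast at h3
    linear_combination -h1 - h3
  refine ⟨⟨cols, A, C, fun χ hχ ψ hψ => ?_, hC, ?_, htA, htC, hrowA, hrowC,
    fun χ ψ => ⟨hsA χ ψ, hsC χ ψ⟩, fun χ hχ => ⟨hposA χ hχ, hposC χ hχ⟩, hh0, fun χ hχ hw => ?_,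
    hdiag, fun χ hχ hw hE hO => ?_, fun p hp t ht => ?_⟩⟩
  · rw [hA, secInner_one hpM hmax hb1B ((hs χ).1 hχ) ((hs ψ).1 hψ)]
  · rw [F.card_eq_sum_rank hM hB]
    rw [Fintype.sum_sum_type, Fintype.sum_sum_type, Fintype.sum_bool,
      (hL (Sum.inl false) 1 rfl b1 hb1).1, (hL (Sum.inl true) q.z rfl bz hbz).1,
      blockRank_pair_one hpM hb1B, Finset.sum_congr rfl fun r _ => (hfree r).1,
      Finset.sum_congr rfl fun j _ => (houtside j).1]
    simp only [Finset.sum_const, smul_eq_mul, mul_one, Finset.card_univ]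
    rw [outCount, Nat.card_eq_fintype_card]
    have := q.card_rep
    omega
  · have hpos := Nat.pos_of_ne_zero fun h0 => (hh0 χ hχ).1 h0 hw
    exact ⟨hdvdA χ hχ hpos, hdvdC χ hχ hpos⟩
  · -- the vanishing rows
    have hpos := Nat.pos_of_ne_zero fun h0 => (hh0 χ hχ).1 h0 hw
    have hf0 : ∀ l ∈ q.setup.free, cols.f χ l = 0 := cols.rows.other χ hχ hw hE hO
    have hLfree : ∀ (r : q.Rep) (ψ : IrrCharacter G), F.L (Sum.inr (Sum.inl r)) χ ψ = 0 :=
      fun r ψ => by rw [(hfree r).2, hf0 _ (q.mem_free.2 r.2.1), zero_mul, zero_div]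
    have hLout : ∀ j (ψ : IrrCharacter G), F.L (Sum.inr (Sum.inr j)) χ ψ = 0 := fun j ψ =>
      secInner_eq_zero ((houtside j).2 χ hχ hw) _
    have hsum : (A χ χ + C χ χ : ℤ) = 4 * (q.H : ℤ) := by
      have h1 := hdiag χ hχ hw
      rw [SQFourier.freeNorm, Finset.sum_eq_zero fun l hl => by rw [hf0 l hl, zero_mul],
        add_zero] at h1
      exact_mod_cast h1
    have hAC : ∀ ψ ∈ s, cols.rows.w ψ ≠ 0 → C χ ψ = -A χ ψ := by
      intro ψ hψ hwψ
      have h1 := F.inner_eq_sum_L hpM hB ((hs χ).1 hχ) ψ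
      rw [hsplit, hLA, hLC, Finset.sum_eq_zero fun r _ => hLfree r ψ,
        Finset.sum_eq_zero fun j _ => hLout j ψ, inner_irr,
        if_neg (fun h => hwψ (by rw [← h]; exact hw)), add_zero, add_zero, ← add_div, eq_comm,
        div_eq_zero_iff] at h1
      have h2 : ((C χ ψ : ℤ) : ℂ) = ((-A χ ψ : ℤ) : ℂ) := by
        push_cast
        linear_combination (h1.resolve_right h4H)
      exact_mod_cast h2
    set h := blockHeight 2 B (χ : G → ℂ) with hh
    -- the height is at least `n - 2`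
    have hge : q.n - 2 ≤ h := by
      rcases Nat.lt_or_ge q.n 4 with h3 | h4
      · omega
      obtain ⟨η, hηgen, hη1, hηz, hητ, hη4, hη2⟩ := q.exists_eta h4
      set c : BrauerPairIdx G := ⟨P, e⟩ with hcdef
      have hval : ∀ u v : G, u ∈ P → v ∈ P → PairFus M 2 c u v → η v = η u := by
        intro u v hu hv hf
        have ho := hf.orderOf_eq
        obtain ⟨k, hk⟩ := exists_pow_orderOf_of_mem hPp hu
        rcases Nat.lt_or_ge k 3 with hk3 | hk3
        · interval_cases k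
          · rw [pow_zero] at hk
            rw [hk] at ho
            rw [orderOf_eq_one_iff.1 hk, orderOf_eq_one_iff.1 ho.symm]
          · rw [pow_one] at hk
            rw [hk] at ho
            rw [hη2 u hu hk, hη2 v hv ho.symm]
          · rw [show (2 : ℕ) ^ 2 = 4 from rfl] at hk
            rw [hk] at ho
            rw [hη4 u hu hk, hη4 v hv ho.symm]
        · have hbig : ∀ w ∈ P, 8 ∣ orderOf w → w ∈ Subgroup.zpowers q.x := fun w hw hw8 => by
            by_contra hwx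
            have := Nat.le_of_dvd (by norm_num)
              (hw8.trans (orderOf_dvd_of_pow_eq_one (q.pow_four_of_notMem hw hwx)))
            omega
          have h8 : 8 ∣ orderOf u := hk ▸ pow_dvd_pow 2 hk3
          obtain ⟨l, rfl⟩ := q.mem_zpowers_iff'.1 (hbig u hu h8)
          obtain ⟨m, rfl⟩ := q.mem_zpowers_iff'.1 (hbig v hv (ho ▸ h8))
          have hnd : ∀ j : ℕ, 8 ∣ orderOf (q.x ^ j) → ¬ q.H ∣ j := fun j hj ⟨c', hc'⟩ => by
            rw [hc', q.pow_mul_H] at hj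
            split_ifs at hj
            · rw [orderOf_one] at hj; omega
            · rw [q.orderOf_z] at hj; omega
          rcases cols.nofus l m (hnd l h8) (hnd m (ho ▸ h8)) hf with e1 | e1
          · rw [q.pow_eq_pow.2 ((ZMod.natCast_eq_natCast_iff _ _ _).1 e1)]
          · have e2 : (m : ZMod q.setup.N) = ((q.τ * l : ℕ) : ZMod q.setup.N) :=
              e1.trans (Nat.cast_mul _ _).symm
            rw [q.pow_eq_pow.2 ((ZMod.natCast_eq_natCast_iff _ _ _).1 e2)]
            exact hητ l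
      have hstab : IsPairStable 2 M c η := by
        intro a g ha hga w hw
        have hwP : w ∈ P := below_le ha hw
        have hgwP : g * w * g⁻¹ ∈ P := below_le hga ⟨w, hw, rfl⟩
        refine hval w _ hwP hgwP (PairFus.of_below hpM hc ?_)
        have hle : Below 2 M (pairBelow 2 M c w) a := by
          obtain ⟨b, hb⟩ := exists_below (b := a) hpM (below_isBrauerPair ha hc) _
            (Subgroup.zpowers_le.2 hw)
          rw [← eq_pairBelow (c := c) (a := ⟨_, b⟩) hpM hc (hb.trans ha) rfl]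
          exact hb
        exact (below_conj hle g).trans hga
      have hmax' : IsMaximalBrauerPair 2 M B c.1 c.2 := hmax
      obtain ⟨hcl, hgen⟩ :=
        isGeneralized_iff_inner.1 (isGeneralized_starFun hpM hmax' hstab hηgen χ)
      obtain ⟨ψ₀, hψ₀, hψ0⟩ := exists_blockHeight_eq_zero (p := 2) hB
      obtain ⟨m, hm⟩ := hgen ψ₀
      have hwy : ∀ i, pairWeight 2 M c η (pairAt (F.y i) (F.b i)) (F.y i) = η (F.y i) := fun i => by
        rw [pairWeight_eq hstab (x := 1) (Subgroup.mem_zpowers _), one_mul, inv_one, mul_one]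
        rw [conjPair_one, ← (hF i).2]
        exact pairBelow_below hpM hc ((hF i).1 ▸ sqElt_mem q hM hmax i)
      have hinner : classInner (starFun M 2 c η (χ : G → ℂ)) (ψ₀ : G → ℂ) =
          ∑ i, η (F.y i) * F.L i χ ψ₀ := by
        rw [inner_weighted hpM (isClassFunction_irr χ) (isClassFunction_irr ψ₀)
          (f := starFun M 2 c η (χ : G → ℂ)) (f' := (ψ₀ : G → ℂ))
          (w := pairWeight 2 M c η) (w' := fun _ _ => 1) (fun g => rfl)
          fun g => by simp [sum_secVal]]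
        simp only [map_one, mul_one]
        rw [F.sum_orbit (fun x a => pairWeight 2 M c η a x *
            secPair 2 x a (χ : G → ℂ) (ψ₀ : G → ℂ))
          (fun i g => by
            rw [pairWeight_conj hstab (Subgroup.mem_zpowers _),
              secPair_conj₂ (isClassFunction_irr χ) (isClassFunction_irr ψ₀)])
          fun x a ha hx hn => by
            rw [PairFamily.secPair_eq_zero hpM hB ((hs χ).1 hχ) _ ha hx hn, mul_zero]]
        refine Finset.sum_congr rfl fun i _ => ?_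
        rw [hwy, mul_div_assoc]
        rfl
      have hy1 : F.y (Sum.inl false) = 1 := (hF _).1
      have hyz : F.y (Sum.inl true) = q.z := (hF _).1
      rw [hm, hsplit, hy1, hyz, hη1, hηz, hLA,
        Finset.sum_eq_zero (fun r _ => by rw [hLfree r ψ₀, mul_zero]),
        Finset.sum_eq_zero (fun j _ => by rw [hLout j ψ₀, mul_zero]), zero_mul, add_zero, add_zero,
        add_zero] at hinner
      obtain ⟨m', hm', hAm⟩ := hdivA χ hχ ψ₀ ((hs _).2 hψ₀) hψ0
      have hH0 : (q.H : ℂ) ≠ 0 := Nat.cast_ne_zero.2 (by have := q.two_le_H; omega)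
      have h5 : (q.H : ℤ) * m = 2 ^ h * m' := by
        rw [hh, ← hAm]
        apply Int.cast_injective (α := ℂ)
        push_cast at hinner ⊢
        rw [hinner]
        field_simp
      have h6 : 2 ^ (q.n - 2) ∣ 2 ^ h * m'.natAbs := by
        refine ⟨m.natAbs, ?_⟩
        have := congrArg Int.natAbs h5
        rw [Int.natAbs_mul, Int.natAbs_mul, Int.natAbs_natCast, Int.natAbs_pow] at this
        exact this.symm
      have hcop : Nat.Coprime (2 ^ (q.n - 2)) m'.natAbs :=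
        Nat.Coprime.pow_left _ (Nat.coprime_two_left.2 (Int.natAbs_odd.2 hm'))
      exact (Nat.pow_dvd_pow_iff_le_right one_lt_two).1 (hcop.dvd_of_dvd_mul_right h6)
    obtain ⟨a, ha⟩ := hdvdA χ hχ hpos
    obtain ⟨c', hc'⟩ := hdvdC χ hχ hpos
    have hpa := hposA χ hχ
    have hpc := hposC χ hχ
    rw [← hh] at ha hc'
    have hpw : (2 : ℤ) ^ (h + 1) = 2 * (q.H : ℤ) * 2 ^ (h - (q.n - 2)) := by
      show (2 : ℤ) ^ (h + 1) = 2 * ((2 ^ (q.n - 2) : ℕ) : ℤ) * _
      push_cast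
      rw [mul_assoc, ← pow_add, ← pow_succ']
      congr 1
      omega
    have ha0 : 0 < a := pos_of_mul_pos_right (ha ▸ hpa) (by positivity)
    have hc0 : 0 < c' := pos_of_mul_pos_right (hc' ▸ hpc) (by positivity)
    have hH0 : (0 : ℤ) < 2 * q.H := by have := q.two_le_H; omega
    have hle : h = q.n - 2 := by
      by_contra hne
      obtain ⟨j, hj⟩ : ∃ j, h - (q.n - 2) = j + 1 := ⟨h - (q.n - 2) - 1, by omega⟩
      have : (2 : ℤ) * (2 * q.H) * (a + c') ≤ 4 * q.H := by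
        calc (2 : ℤ) * (2 * q.H) * (a + c') ≤ 2 * q.H * 2 ^ (j + 1) * (a + c') := by
              refine mul_le_mul_of_nonneg_right ?_ (by omega)
              rw [mul_comm (2 : ℤ) (2 * q.H)]
              refine mul_le_mul_of_nonneg_left ?_ (by omega)
              exact le_self_pow₀ (by norm_num) (by omega)
          _ = 4 * q.H := by rw [← hj, ← hpw, mul_add, ← ha, ← hc', hsum]
      nlinarith
    rw [hle, Nat.sub_self, pow_zero, mul_one] at hpw
    rw [hle, hpw] at ha hc'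
    have h1 : a + c' = 2 := by
      refine mul_left_cancel₀ hH0.ne' ?_
      rw [mul_add, ← ha, ← hc', hsum]; ring
    obtain rfl : a = 1 := by omega
    obtain rfl : c' = 1 := by omega
    refine ⟨by rw [ha, mul_one], by rw [hc', mul_one], hle, fun ψ hψ hwψ => ⟨?_, hAC ψ hψ hwψ⟩⟩
    obtain ⟨m, hm, hAm⟩ := hdivA χ hχ ψ hψ ((hh0 ψ hψ).2 hwψ)
    rw [← hh, hle] at hAm
    rw [hAm, abs_mul, abs_of_nonneg (by positivity : (0 : ℤ) ≤ 2 ^ (q.n - 2))]
    have : (1 : ℤ) ≤ |m| := Int.one_le_abs fun h0 => by rw [h0] at hm; exact absurd hm (by decide)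
    calc (q.H : ℤ) = 2 ^ (q.n - 2) * 1 := by rw [mul_one]; exact_mod_cast rfl
      _ ≤ _ := mul_le_mul_of_nonneg_left this (by positivity)
  · -- Bessel
    have h1 := F.bessel hpM hB ((hs p).1 hp)
      (Sum.elim (fun b => if b then (-1 : ℂ) else 1) 0) t
    simp only [hsplit, Sum.elim_inl, Sum.elim_inr, Pi.zero_apply, zero_mul, Finset.sum_const_zero,
      add_zero, Bool.false_eq_true, if_false, if_true, one_mul, neg_one_mul, hLA, hLC] at h1
    have h2 : ∀ i : SQIdx M e q,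
        ‖Sum.elim (fun b => if b then (-1 : ℂ) else 1) 0 i‖ ^ 2 * (F.L i p p).re =
          Sum.elim (fun b => (F.L (Sum.inl b) p p).re) 0 i := by
      rintro (b | i) <;> [cases b; skip] <;> simp
    rw [Finset.sum_congr rfl fun i _ => h2 i, Fintype.sum_sum_type, Fintype.sum_bool] at h1
    simp only [Sum.elim_inl, Sum.elim_inr, Pi.zero_apply, Finset.sum_const_zero, add_zero, hLA,
      hLC] at h1
    have hRpos : (0 : ℝ) < ((4 * q.H : ℕ) : ℝ) := by
      exact_mod_cast (by have := q.two_le_H; omega : 0 < 4 * q.H)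
    have h3 : ∀ a : ℤ, ((a : ℂ) / ((4 * q.H : ℕ) : ℂ)).re = (a : ℝ) / ((4 * q.H : ℕ) : ℝ) :=
      fun a => by rw [Complex.div_natCast_re, Complex.intCast_re]
    have h4 : ∀ a c : ℤ, ‖(a : ℂ) / ((4 * q.H : ℕ) : ℂ) + -((c : ℂ) / ((4 * q.H : ℕ) : ℂ))‖ ^ 2 =
        ((a - c : ℤ) : ℝ) ^ 2 / ((4 * q.H : ℕ) : ℝ) ^ 2 := fun a c => by
      rw [← sub_eq_add_neg, ← sub_div, norm_div, Complex.norm_natCast, ← Int.cast_sub,
        Complex.norm_intCast, div_pow, sq_abs]
    simp only [h3, h4] at h1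
    rw [← Finset.sum_div, ← add_div, div_le_div_iff₀ (by positivity) hRpos] at h1
    have h5 : (∑ ψ ∈ t, ((A p ψ - C p ψ : ℤ) : ℝ) ^ 2) ≤
        ((4 * q.H : ℕ) : ℝ) * ((A p p : ℝ) + (C p p : ℝ)) := by
      refine le_of_mul_le_mul_right (h1.trans (le_of_eq ?_)) hRpos
      ring
    exact_mod_cast h5

end CfsgLib.Blocks
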