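import Cfsg.Agent.Lib.Involutions.DihedralFusion

/-!
# Generalised quaternion and semidihedral subgroups with their generators
-/

set_option autoImplicit false

namespace CfsgLib.Blocks

universe u

/-- A generalised quaternion (`quat = true`) or semidihedral (`quat = false`) subgroup of order
`2 ^ n`. -/
structure SQP {G : Type u} [Group G] (P : Subgroup G) where
  n : ℕ
  quat : Bool
  x : G
  y : G
  three_le : 3 ≤ n
  four_le : quat = false → 4 ≤ n
  card_eq : Nat.card P = 2 ^ n
  x_mem : x ∈ P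
  y_mem : y ∈ P
  orderOf_x : orderOf x = 2 ^ (n - 1)
  conj_y : y * x * y⁻¹ = x ^ (if quat then 2 ^ (n - 1) - 1 else 2 ^ (n - 2) - 1)
  y_sq : y * y = if quat then x ^ 2 ^ (n - 2) else 1
  y_not : y ∉ Subgroup.zpowers x
  cover : ∀ g ∈ P, (∃ j : ℕ, g = x ^ j) ∨ ∃ j : ℕ, g = x ^ j * y

namespace SQP

variable {G : Type u} [Group G] {P : Subgroup G} (q : SQP P)

/-- A quarter of the order of `P`; half the order of `x`. -/
def H : ℕ := 2 ^ (q.n - 2)

/-- The order of `x`. -/
def N : ℕ := 2 ^ (q.n - 1)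

/-- The exponent of the action of `y` on `x`. -/
def τ : ℕ := if q.quat then 2 ^ (q.n - 1) - 1 else 2 ^ (q.n - 2) - 1

/-- The central involution. -/
def z : G := q.x ^ q.H

end SQP

end CfsgLib.Blocks
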