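import Cfsg.Agent.Lib.Blocks.SectionSum
import Cfsg.Agent.Lib.Blocks.NilpotentStar
import Cfsg.Agent.Lib.Blocks.StarLinear
import Cfsg.Agent.Lib.Blocks.SubsectionColumn

/-!
# The inner product of a block, subsection by subsection

For a complete family of pairwise non-conjugate subsections `(y i, b i)` of a block `B` the inner
product of two characters of `B` is the sum of their local inner products, and a combination of
these satisfies Bessel's inequality.
-/

set_option autoImplicit false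
set_option linter.unusedSectionVars false
set_option linter.style.haveILetI false

namespace CfsgLib.Blocks

open Cfsg Chars BlockOrth Finset
open scoped ComplexConjugate

universe u v

variable {G : Type u} [Group G] [Fintype G] {M : Ideal AlgInt} [M.IsPrime] {p : ℕ} [Fact p.Prime]
  {B : Set (IrrCharacter G)}

/-- The pair of an element and a block of its centralizer. -/
abbrev pairAt (y : G) (b : Set (IrrCharacter (Subgroup.centralizer (Subgroup.zpowers y : Set G)))) :
    BrauerPairIdx G := ⟨Subgroup.zpowers y, b⟩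

/-- A complete family of pairwise non-conjugate subsections of a block. -/
structure PairFamily (M : Ideal AlgInt) [M.IsPrime] (p : ℕ) [Fact p.Prime]
    (B : Set (IrrCharacter G)) (ι : Type v) where
  y : ι → G
  b : ∀ i, Set (IrrCharacter (Subgroup.centralizer (Subgroup.zpowers (y i) : Set G)))
  ord : ∀ i, ∃ k : ℕ, y i ^ p ^ k = 1
  pair : ∀ i, IsBrauerPairOf p M B (Subgroup.zpowers (y i)) (b i)
  inj : ∀ i j (g : G), g * y i * g⁻¹ = y j →
    conjPair g (pairAt (y i) (b i)) = pairAt (y j) (b j) → i = j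
  exh : ∀ x : G, (∃ k : ℕ, x ^ p ^ k = 1) → ∀ a ∈ pairsAt M x,
    IsBrauerPairOf p M B a.1 a.2 →
      ∃ i, ∃ g : G, g * y i * g⁻¹ = x ∧ conjPair g (pairAt (y i) (b i)) = a

/-- The local inner product of two class functions at a subsection. -/
noncomputable def secInner (p : ℕ) (y : G)
    (b : Set (IrrCharacter (Subgroup.centralizer (Subgroup.zpowers y : Set G)))) (θ θ' : G → ℂ) :
    ℂ :=
  secPair p y (pairAt y b) θ θ' /
    (Nat.card (Subgroup.centralizer (Subgroup.zpowers y : Set G)) : ℂ)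

theorem secPair_conj₂ {θ θ' : G → ℂ} (hθ : IsClassFunction G θ) (hθ' : IsClassFunction G θ')
    (g x : G) (a : BrauerPairIdx G) :
    secPair p (g * x * g⁻¹) (conjPair g a) θ θ' = secPair p x a θ θ' := by
  classical
  rw [secPair, secPair]
  symm
  refine Finset.sum_equiv (MulAut.conj g).toEquiv (fun y => ?_) fun y _ => ?_
  · simp only [Finset.mem_filter, Finset.mem_univ, true_and]
    show Commute x y ∧ _ ↔ Commute (g * x * g⁻¹) (g * y * g⁻¹) ∧ ¬ p ∣ orderOf (g * y * g⁻¹)
    rw [← (SemiconjBy.conj_mk g y).orderOf_eq]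
    exact and_congr_left fun _ => (Commute.conj_iff g).symm
  · show _ = secVal (conjPair g a) θ (g * x * g⁻¹ * (g * y * g⁻¹)) *
      conj (secVal (conjPair g a) θ' (g * x * g⁻¹ * (g * y * g⁻¹)))
    rw [show g * x * g⁻¹ * (g * y * g⁻¹) = g * (x * y) * g⁻¹ by group, secVal_conj hθ,
      secVal_conj hθ']

theorem conj_secInner (y : G)
    (b : Set (IrrCharacter (Subgroup.centralizer (Subgroup.zpowers y : Set G)))) (θ θ' : G → ℂ) :
    conj (secInner p y b θ θ') = secInner p y b θ' θ := by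
  simp only [secInner, secPair, map_div₀, map_sum, map_mul, map_natCast, Complex.conj_conj,
    mul_comm]

/-- The local norm is a nonnegative real number. -/
theorem secInner_self (y : G)
    (b : Set (IrrCharacter (Subgroup.centralizer (Subgroup.zpowers y : Set G)))) (θ : G → ℂ) :
    ∃ r : ℝ, 0 ≤ r ∧ secInner p y b θ θ = (r : ℂ) := by
  classical
  refine ⟨(∑ w ∈ Finset.univ.filter (fun w : G => Commute y w ∧ ¬ p ∣ orderOf w),
      ‖secVal (pairAt y b) θ (y * w)‖ ^ 2) /
        (Nat.card (Subgroup.centralizer (Subgroup.zpowers y : Set G)) : ℝ), by positivity, ?_⟩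
  rw [secInner, secPair]
  push_cast
  congr 1
  refine Finset.sum_congr (by congr) fun w _ => ?_
  rw [Complex.mul_conj']

open scoped Classical in
theorem secPair_eq_sum (hpM : (p : AlgInt) ∈ M) {y : G}
    [Fintype (Subgroup.centralizer (Subgroup.zpowers y : Set G))]
    [Fintype (IrrCharacter (Subgroup.centralizer (Subgroup.zpowers y : Set G)))]
    {b : Set (IrrCharacter (Subgroup.centralizer (Subgroup.zpowers y : Set G)))}
    [DecidablePred (· ∈ b)] (hb : IsPBlock M b) (χ ψ : IrrCharacter G) :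
    secPair p y (pairAt y b) (χ : G → ℂ) (ψ : G → ℂ) =
      (Nat.card (Subgroup.centralizer (Subgroup.zpowers y : Set G)) : ℂ) *
      ∑ η ∈ univ.filter (· ∈ b),
        classInner (pRegularPart p (secFun (Subgroup.centralizer (Subgroup.zpowers y : Set G)) y
          (χ : G → ℂ))) (η : _ → ℂ) *
        conj (classInner (pRegularPart p (secFun (Subgroup.centralizer (Subgroup.zpowers y : Set G))
          y (ψ : G → ℂ))) (η : _ → ℂ)) := by
  have hmem : ∀ w : G, w ∈ Subgroup.centralizer (Subgroup.zpowers y : Set G) ↔ Commute y w :=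
    fun w => (mem_centralizer_zpowers_iff y w).trans eq_comm
  have hcl := fun χ : IrrCharacter G => isClassFunction_secFun_zpowers (isClassFunction_irr χ) y
  have hpar : classInner
      (pRegularPart p (blockPart b (secFun _ y (χ : G → ℂ))))
      (pRegularPart p (blockPart b (secFun _ y (ψ : G → ℂ)))) = ∑ η ∈ univ.filter (· ∈ b),
        classInner (pRegularPart p (secFun (Subgroup.centralizer (Subgroup.zpowers y : Set G)) y
          (χ : G → ℂ))) (η : _ → ℂ) *
        conj (classInner (pRegularPart p (secFun (Subgroup.centralizer (Subgroup.zpowers y : Set G))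
          y (ψ : G → ℂ))) (η : _ → ℂ)) := by
    rw [inner_eq_sum (isClassFunction_pRegularPart (isClassFunction_blockPart _ _)) _,
      Finset.sum_filter]
    refine Finset.sum_congr rfl fun η _ => ?_
    rw [inner_pRegularPart_blockPart hpM hb (hcl χ), inner_pRegularPart_blockPart hpM hb (hcl ψ)]
    split_ifs <;> simp
  rw [← hpar, inner_def, ← mul_assoc, mul_inv_cancel₀ (card_ne_zero _), one_mul, secPair]
  refine Finset.sum_bij_ne_zero (fun w hw _ => (⟨w, (hmem w).2 (Finset.mem_filter.1 hw).2.1⟩ :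
      Subgroup.centralizer (Subgroup.zpowers y : Set G))) (fun _ _ _ => Finset.mem_univ _)
    (fun w _ _ z _ _ h => congrArg Subtype.val h) (fun k _ hk => ?_) (fun w hw _ => ?_)
  · have hkr : ¬ p ∣ orderOf k := fun h => hk (by
      rw [pRegularPart_apply, if_neg (not_not.2 h), zero_mul])
    refine ⟨k, Finset.mem_filter.2 ⟨Finset.mem_univ _, (hmem k).1 k.2,
      by rwa [Subgroup.orderOf_coe]⟩, ?_, rfl⟩
    rw [pRegularPart_apply, if_pos hkr, pRegularPart_apply, if_pos hkr,
      ← secVal_eq_blockPart (isClassFunction_irr χ),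
      ← secVal_eq_blockPart (isClassFunction_irr ψ)] at hk
    exact hk
  · have hr : ¬ p ∣ orderOf (⟨w, (hmem w).2 (Finset.mem_filter.1 hw).2.1⟩ :
        Subgroup.centralizer (Subgroup.zpowers y : Set G)) := by
      rw [← Subgroup.orderOf_coe]
      exact (Finset.mem_filter.1 hw).2.2
    rw [pRegularPart_apply, if_pos hr, pRegularPart_apply, if_pos hr,
      ← secVal_eq_blockPart (isClassFunction_irr χ),
      ← secVal_eq_blockPart (isClassFunction_irr ψ)]

/-- The local inner product is the contribution, scaled. -/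
theorem secInner_eq_contrib (hpM : (p : AlgInt) ∈ M) {y : G}
    [Fintype (Subgroup.centralizer (Subgroup.zpowers y : Set G))]
    [Fintype (IrrCharacter (Subgroup.centralizer (Subgroup.zpowers y : Set G)))]
    {b : Set (IrrCharacter (Subgroup.centralizer (Subgroup.zpowers y : Set G)))}
    [DecidablePred (· ∈ b)] (hb : IsPBlock M b) (χ ψ : IrrCharacter G) :
    ((p ^ blockDefect p b : ℕ) : ℂ) * secInner p y b (χ : G → ℂ) (ψ : G → ℂ) =
      contrib p b y χ ψ := by
  classical
  rw [secInner, secPair_eq_sum hpM hb, mul_div_cancel_left₀ _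
    (Nat.cast_ne_zero.2 Nat.card_pos.ne'), contrib_eq_inner hpM (mem_centralizer_zpowers_iff y) hb]

open scoped Classical in
/-- The local norms of the characters of a block add up to the rank of the local block. -/
theorem sum_secInner_self [Fintype (IrrCharacter G)] (hM : IsPModular p M) {y : G}
    (hy : ∃ k : ℕ, y ^ p ^ k = 1)
    {b : Set (IrrCharacter (Subgroup.centralizer (Subgroup.zpowers y : Set G)))}
    (hb : IsBrauerPairOf p M B (Subgroup.zpowers y) b) :
    ∑ χ ∈ univ.filter (· ∈ B), secInner p y b (χ : G → ℂ) (χ : G → ℂ) = (blockRank p b : ℂ) := by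
  haveI := Fintype.ofFinite (Subgroup.centralizer (Subgroup.zpowers y : Set G))
  haveI := irrFintype (Subgroup.centralizer (Subgroup.zpowers y : Set G))
  have hy' : ∃ k, orderOf y = p ^ k := by
    obtain ⟨k, hk⟩ := hy
    obtain ⟨i, -, hi⟩ := (Nat.dvd_prime_pow (Fact.out : p.Prime)).1 (orderOf_dvd_of_pow_eq_one hk)
    exact ⟨i, hi⟩
  rw [← sum_secFun_sq hM (mem_centralizer_zpowers_iff y) hy'
    (isInducedBlock_centralizer_of_pair hM.2.2 hb)]
  refine Finset.sum_congr rfl fun χ _ => ?_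
  rw [secInner, secPair_eq_sum hM.2.2 hb.1.2, mul_div_cancel_left₀ _
    (Nat.cast_ne_zero.2 Nat.card_pos.ne')]

/-- Bessel's inequality for irreducible characters. -/
theorem bessel_irr (f : G → ℂ) (t : Finset (IrrCharacter G)) :
    ∑ ψ ∈ t, ‖classInner f (ψ : G → ℂ)‖ ^ 2 ≤ (classInner f f).re := by
  classical
  have hpos : ∀ φ : G → ℂ, 0 ≤ (classInner φ φ).re := fun φ => by
    rw [inner_def, show (Nat.card G : ℂ)⁻¹ * ∑ g : G, φ g * conj (φ g) =
      ((((Nat.card G : ℝ)⁻¹ * ∑ g : G, ‖φ g‖ ^ 2 : ℝ)) : ℂ) by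
      push_cast; simp only [Complex.mul_conj'], Complex.ofReal_re]
    positivity
  set c : IrrCharacter G → ℂ := fun ψ => classInner f (ψ : G → ℂ) with hc
  set S : G → ℂ := ∑ ψ ∈ t, c ψ • (ψ : G → ℂ) with hS
  have h1 : classInner f S = ∑ ψ ∈ t, (‖c ψ‖ ^ 2 : ℝ) := by
    rw [hS, inner_sum_right]
    push_cast
    refine Finset.sum_congr rfl fun ψ _ => ?_
    rw [Chars.inner_smul_right, ← Complex.conj_mul']
  have h2 : classInner S S = ∑ ψ ∈ t, (‖c ψ‖ ^ 2 : ℝ) := by
    rw [hS, Chars.inner_sum_left]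
    push_cast
    refine Finset.sum_congr rfl fun ψ hψ => ?_
    rw [Chars.inner_smul_left, inner_sum_right, Finset.sum_eq_single ψ]
    · rw [Chars.inner_smul_right, inner_irr, if_pos rfl, mul_one, Complex.mul_conj']
    · intro φ _ hφ
      rw [Chars.inner_smul_right, inner_irr, if_neg fun h => hφ h.symm, mul_zero]
    · exact fun h => absurd hψ h
  have h3 : classInner S f = ∑ ψ ∈ t, (‖c ψ‖ ^ 2 : ℝ) := by
    rw [← inner_conj, h1, Complex.conj_ofReal]
  have h4 := hpos (f - S)
  rw [Chars.inner_sub_left, Chars.inner_sub_right, Chars.inner_sub_right, h1, h2, h3] at h4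
  simpa [← Complex.ofReal_pow] using h4

namespace PairFamily

variable {ι : Type v} [Fintype ι] (F : PairFamily M p B ι)

theorem mem_pairsAt (i : ι) : pairAt (F.y i) (F.b i) ∈ pairsAt M (F.y i) :=
  mem_pairsAt_of_pair (F.pair i)

open scoped Classical in
/-- A sum over the subsections of `B`, collected over the family. -/
theorem sum_orbit (Φ : G → BrauerPairIdx G → ℂ)
    (hinv : ∀ i (g : G), Φ (g * F.y i * g⁻¹) (conjPair g (pairAt (F.y i) (F.b i))) =
      Φ (F.y i) (pairAt (F.y i) (F.b i)))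
    (h0 : ∀ x : G, ∀ a ∈ pairsAt M x, (∃ k : ℕ, x ^ p ^ k = 1) →
      ¬ IsBrauerPairOf p M B a.1 a.2 → Φ x a = 0) :
    (Nat.card G : ℂ)⁻¹ * ∑ x ∈ univ.filter (fun x : G => ∃ k : ℕ, x ^ p ^ k = 1),
        ∑ a ∈ pairsAt M x, Φ x a =
      ∑ i, Φ (F.y i) (pairAt (F.y i) (F.b i)) /
        (Nat.card (Subgroup.centralizer (Subgroup.zpowers (F.y i) : Set G)) : ℂ) := by
  haveI := Fintype.ofFinite (BrauerPairIdx G)
  set C : ι → Subgroup G := fun i => Subgroup.centralizer (Subgroup.zpowers (F.y i) : Set G) with hC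
  set S : Finset (G × BrauerPairIdx G) := univ.filter fun s => (∃ k : ℕ, s.1 ^ p ^ k = 1) ∧
    s.2 ∈ pairsAt M s.1 ∧ IsBrauerPairOf p M B s.2.1 s.2.2 with hS
  have hmemS : ∀ (i : ι) (g : G),
      (g * F.y i * g⁻¹, conjPair g (pairAt (F.y i) (F.b i))) ∈ S := by
    intro i g
    obtain ⟨k, hk⟩ := F.ord i
    refine mem_filter.2 ⟨mem_univ _, ⟨k, ?_⟩, ?_, isBrauerPairOf_conj (F.pair i) g⟩
    · rw [conj_pow, hk, mul_one, mul_inv_cancel]
    · refine Blocks.mem_pairsAt.2 ⟨?_, isPBlock_conjBlock (F.pair i).1.2 _⟩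
      show (Subgroup.zpowers (F.y i)).map _ = _
      rw [map_zpowers_conj]
  have hL : ∑ x ∈ univ.filter (fun x : G => ∃ k : ℕ, x ^ p ^ k = 1), ∑ a ∈ pairsAt M x, Φ x a =
      ∑ s ∈ S, Φ s.1 s.2 := by
    rw [Finset.sum_sigma']
    symm
    refine Finset.sum_bij_ne_zero (fun s _ _ => (⟨s.1, s.2⟩ : Σ _ : G, BrauerPairIdx G))
      (fun s hs _ => ?_) (fun s _ _ s' _ _ h => ?_) (fun s hs hne => ?_) fun _ _ _ => rfl
    · obtain ⟨-, hk, ha, -⟩ := mem_filter.1 hs
      exact mem_sigma.2 ⟨mem_filter.2 ⟨mem_univ _, hk⟩, ha⟩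
    · exact Prod.ext (congrArg (fun z : Σ _ : G, BrauerPairIdx G => z.1) h)
        (congrArg (fun z : Σ _ : G, BrauerPairIdx G => z.2) h)
    · obtain ⟨hx, ha⟩ := mem_sigma.1 hs
      have hk := (mem_filter.1 hx).2
      refine ⟨(s.1, s.2), mem_filter.2 ⟨mem_univ _, hk, ha, ?_⟩, hne, rfl⟩
      by_contra hB
      exact hne (h0 _ _ ha hk hB)
  have hfib : ∀ s ∈ S, ∑ q ∈ (univ : Finset (ι × G)).filter (fun q =>
      (q.2 * F.y q.1 * q.2⁻¹, conjPair q.2 (pairAt (F.y q.1) (F.b q.1))) = s),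
        (Nat.card (C q.1) : ℂ)⁻¹ = 1 := by
    intro s hs
    obtain ⟨-, hk, ha, hB⟩ := mem_filter.1 hs
    obtain ⟨i₀, g₀, hg₀, hga⟩ := F.exh s.1 hk s.2 ha hB
    have hset : (univ : Finset (ι × G)).filter (fun q =>
        (q.2 * F.y q.1 * q.2⁻¹, conjPair q.2 (pairAt (F.y q.1) (F.b q.1))) = s) =
        (univ.filter fun c : G => c ∈ C i₀).image fun c => (i₀, g₀ * c) := by
      ext ⟨i, g⟩
      simp only [mem_filter, mem_univ, true_and, mem_image, Prod.ext_iff]
      constructor
      · rintro ⟨h1, h2⟩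
        have hy : (g₀⁻¹ * g) * F.y i * (g₀⁻¹ * g)⁻¹ = F.y i₀ := by
          calc (g₀⁻¹ * g) * F.y i * (g₀⁻¹ * g)⁻¹ = g₀⁻¹ * (g * F.y i * g⁻¹) * g₀ := by group
            _ = g₀⁻¹ * (g₀ * F.y i₀ * g₀⁻¹) * g₀ := by rw [h1, hg₀]
            _ = F.y i₀ := by group
        have hp' : conjPair (g₀⁻¹ * g) (pairAt (F.y i) (F.b i)) = pairAt (F.y i₀) (F.b i₀) := by
          rw [← conjPair_mul, h2, ← hga, conjPair_mul, inv_mul_cancel, conjPair_one]
        obtain rfl := F.inj i i₀ _ hy hp'
        exact ⟨g₀⁻¹ * g, (mem_centralizer_zpowers_iff _ _).2 (mul_inv_eq_iff_eq_mul.1 hy), rfl,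
          by group⟩
      · rintro ⟨c, hc, rfl, rfl⟩
        refine ⟨?_, ?_⟩
        · rw [← hg₀]
          have h := (mem_centralizer_zpowers_iff _ c).1 hc
          calc g₀ * c * F.y i₀ * (g₀ * c)⁻¹ = g₀ * (c * F.y i₀) * c⁻¹ * g₀⁻¹ := by group
            _ = g₀ * (F.y i₀ * c) * c⁻¹ * g₀⁻¹ := by rw [h]
            _ = g₀ * F.y i₀ * g₀⁻¹ := by group
        · rw [← conjPair_mul, show conjPair c (pairAt (F.y i₀) (F.b i₀)) = pairAt (F.y i₀) (F.b i₀)
            from centralizer_le_stabPair (F.pair i₀).1.2 hc, hga]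
    rw [hset, Finset.sum_image (fun c _ c' _ h => mul_left_cancel (congrArg Prod.snd h))]
    dsimp only
    rw [Finset.sum_const, nsmul_eq_mul,
      show (univ.filter fun c : G => c ∈ C i₀).card = Nat.card (C i₀) by
        rw [← Fintype.card_subtype, ← Nat.card_eq_fintype_card],
      mul_inv_cancel₀ (Nat.cast_ne_zero.2 Nat.card_pos.ne')]
  have hR : ∑ s ∈ S, Φ s.1 s.2 =
      ∑ i, ∑ g : G, (Nat.card (C i) : ℂ)⁻¹ * Φ (F.y i) (pairAt (F.y i) (F.b i)) := by
    rw [← Fintype.sum_prod_type', ← Finset.sum_fiberwise_of_maps_to (s := (univ : Finset (ι × G)))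
      (t := S) (g := fun q : ι × G =>
        (q.2 * F.y q.1 * q.2⁻¹, conjPair q.2 (pairAt (F.y q.1) (F.b q.1))))
      fun q _ => hmemS q.1 q.2]
    refine Finset.sum_congr rfl fun s hs => ?_
    conv_lhs => rw [← one_mul (Φ s.1 s.2), ← hfib s hs, Finset.sum_mul]
    refine Finset.sum_congr rfl fun q hq => ?_
    obtain ⟨-, rfl⟩ := mem_filter.1 hq
    rw [hinv]
  rw [hL, hR, Finset.mul_sum]
  refine Finset.sum_congr rfl fun i _ => ?_
  rw [Finset.sum_const, Finset.card_univ, ← Nat.card_eq_fintype_card, nsmul_eq_mul, ← mul_assoc,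
    inv_mul_cancel₀ (card_ne_zero G), one_mul, inv_mul_eq_div]

/-- The local inner product at a member of the family. -/
noncomputable def L (i : ι) (χ ψ : IrrCharacter G) : ℂ :=
  secInner p (F.y i) (F.b i) (χ : G → ℂ) (ψ : G → ℂ)

theorem secPair_eq_zero (hpM : (p : AlgInt) ∈ M) {χ : IrrCharacter G} (hB : IsPBlock M B)
    (hχ : χ ∈ B) (θ : G → ℂ) {x : G} {a : BrauerPairIdx G} (ha : a ∈ pairsAt M x)
    (hx : ∃ k : ℕ, x ^ p ^ k = 1) (hn : ¬ IsBrauerPairOf p M B a.1 a.2) :
    secPair p x a (χ : G → ℂ) θ = 0 := by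
  classical
  refine Finset.sum_eq_zero fun y hy => ?_
  rw [secVal_eq_zero hpM hB hχ (Finset.mem_filter.1 hy).2.1 hx (Finset.mem_filter.1 hy).2.2 ha hn,
    zero_mul]

/-- **The inner product, subsection by subsection.** -/
theorem inner_eq_sum_L (hpM : (p : AlgInt) ∈ M) (hB : IsPBlock M B) {χ : IrrCharacter G}
    (hχ : χ ∈ B) (ψ : IrrCharacter G) :
    classInner (χ : G → ℂ) (ψ : G → ℂ) = ∑ i, F.L i χ ψ := by
  classical
  rw [inner_weighted hpM (isClassFunction_irr χ) (isClassFunction_irr ψ)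
    (f := (χ : G → ℂ)) (f' := (ψ : G → ℂ)) (w := fun _ _ => 1) (w' := fun _ _ => 1)
    (fun g => by simp [sum_secVal]) fun g => by simp [sum_secVal]]
  simp only [map_one, one_mul]
  exact F.sum_orbit (fun x a => secPair p x a (χ : G → ℂ) (ψ : G → ℂ))
    (fun i g => secPair_conj₂ (isClassFunction_irr χ) (isClassFunction_irr ψ) g _ _)
    fun x a ha hx hn => secPair_eq_zero hpM hB hχ _ ha hx hn

/-- The ranks of a complete family add up to `k(B)`. -/
theorem card_eq_sum_rank (hM : IsPModular p M) (hB : IsPBlock M B) :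
    Nat.card B = ∑ i, blockRank p (F.b i) := by
  classical
  haveI := irrFintype G
  apply Nat.cast_injective (R := ℂ)
  rw [Nat.cast_sum, Finset.sum_congr rfl fun i _ => (sum_secInner_self hM (F.ord i) (F.pair i)).symm,
    Finset.sum_comm, show Nat.card B = (univ.filter (· ∈ B)).card by
      rw [← Fintype.card_subtype, ← Nat.card_eq_fintype_card], Finset.card_eq_sum_ones,
    Nat.cast_sum]
  refine Finset.sum_congr rfl fun χ hχ => ?_
  rw [Nat.cast_one, ← inner_irr_self χ, F.inner_eq_sum_L hM.2.2 hB (mem_filter.1 hχ).2]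
  rfl

/-- **Bessel's inequality for a combination of the parts of a character.** -/
theorem bessel (hpM : (p : AlgInt) ∈ M) (hB : IsPBlock M B) {χ : IrrCharacter G} (hχ : χ ∈ B)
    (c : ι → ℂ) (t : Finset (IrrCharacter G)) :
    ∑ ψ ∈ t, ‖∑ i, c i * F.L i χ ψ‖ ^ 2 ≤ ∑ i, ‖c i‖ ^ 2 * (F.L i χ χ).re := by
  classical
  set w : BrauerPairIdx G → G → ℂ := fun a x => ∑ i,
    if ∃ g : G, g * F.y i * g⁻¹ = x ∧ conjPair g (pairAt (F.y i) (F.b i)) = a then c i else 0
    with hw
  set f : G → ℂ := fun g => ∑ a ∈ pairsAt M (pPartElt p g),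
    w a (pPartElt p g) * secVal a (χ : G → ℂ) g with hf
  have hwy : ∀ i (g : G),
      w (conjPair g (pairAt (F.y i) (F.b i))) (g * F.y i * g⁻¹) = c i := by
    intro i g
    simp only [hw]
    rw [Finset.sum_eq_single i, if_pos ⟨g, rfl, rfl⟩]
    · intro j _ hj
      refine if_neg ?_
      rintro ⟨h, h1, h2⟩
      refine hj (F.inj j i (g⁻¹ * h) ?_ ?_)
      · calc g⁻¹ * h * F.y j * (g⁻¹ * h)⁻¹ = g⁻¹ * (h * F.y j * h⁻¹) * g := by group
          _ = F.y i := by rw [h1]; group
      · rw [← conjPair_mul, h2, conjPair_mul, inv_mul_cancel, conjPair_one]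
    · exact fun h => absurd (mem_univ i) h
  have hwy1 : ∀ i, w (pairAt (F.y i) (F.b i)) (F.y i) = c i := fun i => by
    simpa [conjPair_one] using hwy i 1
  have h1 : ∀ ψ : IrrCharacter G, classInner f (ψ : G → ℂ) = ∑ i, c i * F.L i χ ψ := by
    intro ψ
    rw [inner_weighted hpM (isClassFunction_irr χ) (isClassFunction_irr ψ) (f := f)
      (f' := (ψ : G → ℂ)) (w := w) (w' := fun _ _ => 1) (fun g => rfl)
      fun g => by simp [sum_secVal]]
    simp only [map_one, mul_one]
    rw [F.sum_orbit (fun x a => w a x * secPair p x a (χ : G → ℂ) (ψ : G → ℂ))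
      (fun i g => by rw [hwy, hwy1, secPair_conj₂ (isClassFunction_irr χ) (isClassFunction_irr ψ)])
      fun x a ha hx hn => by rw [secPair_eq_zero hpM hB hχ _ ha hx hn, mul_zero]]
    refine Finset.sum_congr rfl fun i _ => ?_
    rw [hwy1, mul_div_assoc]
    rfl
  have h2 : classInner f f = ∑ i, ((‖c i‖ ^ 2 : ℝ) : ℂ) * F.L i χ χ := by
    rw [inner_weighted hpM (isClassFunction_irr χ) (isClassFunction_irr χ) (f := f) (f' := f)
      (w := w) (w' := w) (fun g => rfl) fun g => rfl,
      F.sum_orbit (fun x a => w a x * conj (w a x) * secPair p x a (χ : G → ℂ) (χ : G → ℂ))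
      (fun i g => by rw [hwy, hwy1, secPair_conj₂ (isClassFunction_irr χ) (isClassFunction_irr χ)])
      fun x a ha hx hn => by rw [secPair_eq_zero hpM hB hχ _ ha hx hn, mul_zero]]
    refine Finset.sum_congr rfl fun i _ => ?_
    rw [hwy1, mul_div_assoc, Complex.mul_conj']
    push_cast
    rfl
  have h := bessel_irr f t
  simp only [h1, h2, Complex.re_sum, Complex.re_ofReal_mul] at h
  exact h

end PairFamily

open scoped Classical in
/-- The characters of a block, weighted by the scalars of a central element, have no regular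
norm. -/
theorem sum_scalar_mul_regular [Fintype (IrrCharacter G)] (hpM : (p : AlgInt) ∈ M)
    (hB : IsPBlock M B) {w : G} (hwZ : w ∈ Subgroup.center G) {n : ℕ} (hwp : w ^ p ^ n = 1)
    (hw : w ≠ 1) :
    ∑ χ ∈ univ.filter (· ∈ B), centralScalar (χ : G → ℂ) w *
      classInner (pRegularPart p (χ : G → ℂ)) (χ : G → ℂ) = 0 := by
  simp only [inner_def, Finset.mul_sum]
  rw [Finset.sum_comm]
  refine Finset.sum_eq_zero fun y _ => ?_
  by_cases hy : p ∣ orderOf y
  · simp [pRegularPart_apply, hy]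
  set φ : G → ℂ := fun g => if IsConj g (w * y) then 1 else 0 with hφ
  have hφc : IsClassFunction G φ := fun g h => by
    simp only [hφ]
    refine if_congr ⟨fun hc => (isConj_iff.2 ⟨h, rfl⟩).trans hc,
      fun hc => (isConj_iff.2 ⟨h, rfl⟩).symm.trans hc⟩ rfl rfl
  have hsing : p ∣ orderOf (w * y) := by
    have hcm : Commute w y := ((Subgroup.mem_center_iff.1 hwZ) y).symm
    obtain ⟨i, -, hi⟩ := (Nat.dvd_prime_pow (Fact.out : p.Prime)).1
      (orderOf_dvd_of_pow_eq_one hwp)
    rw [hcm.orderOf_mul_eq_mul_orderOf_of_coprime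
      (hi ▸ Nat.Coprime.pow_left i ((Fact.out : p.Prime).coprime_iff_not_dvd.2 hy)), hi]
    refine dvd_mul_of_dvd_left (dvd_pow_self p fun h0 => hw ?_) _
    rw [← orderOf_eq_one_iff, hi, h0, pow_zero]
  have h0 := blockPart_eq_zero_of_regular (Fact.out : p.Prime) hpM hB hφc
    (fun s hs => if_neg fun hc => by
      obtain ⟨c, hc⟩ := isConj_iff.1 hc
      rw [← hc, ← (SemiconjBy.conj_mk c s).orderOf_eq] at hsing
      exact hs hsing) (s := y) hy
  rw [blockPart, sum_mem_block] at h0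
  set K : ℂ := ((univ.filter fun g : G => IsConj g (w * y)).card : ℂ) with hK
  have hin : ∀ χ : IrrCharacter G, classInner φ (χ : G → ℂ) =
      (Nat.card G : ℂ)⁻¹ * (K * conj ((χ : G → ℂ) (w * y))) := by
    intro χ
    rw [inner_def, hK, ← nsmul_eq_mul, ← Finset.sum_const, Finset.sum_filter]
    congr 1
    refine Finset.sum_congr rfl fun g _ => ?_
    simp only [hφ]
    split_ifs with hg
    · obtain ⟨c, rfl⟩ := isConj_iff.1 hg.symm
      rw [one_mul, isClassFunction_irr χ]
    · rw [zero_mul]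
  have hK0 : K ≠ 0 := Nat.cast_ne_zero.2 (Finset.card_ne_zero.2
    ⟨w * y, mem_filter.2 ⟨mem_univ _, IsConj.refl _⟩⟩)
  have h0' : ∑ χ ∈ univ.filter (· ∈ B), (Nat.card G : ℂ)⁻¹ * (K * conj ((χ : G → ℂ) (w * y))) *
      (χ : G → ℂ) y = 0 := by
    rw [← h0]
    refine Finset.sum_congr rfl fun χ _ => ?_
    rw [← hin, inner_congr_inst]
  have h1 : ∑ χ ∈ univ.filter (· ∈ B), conj ((χ : G → ℂ) (w * y)) * (χ : G → ℂ) y = 0 := by
    refine (mul_eq_zero.1 (show ((Nat.card G : ℂ)⁻¹ * K) * _ = 0 from ?_)).resolve_left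
      (mul_ne_zero (inv_ne_zero (card_ne_zero G)) hK0)
    rw [Finset.mul_sum, ← h0']
    exact Finset.sum_congr rfl fun χ _ => by ring
  have h2 := congrArg (starRingEnd ℂ) h1
  rw [map_zero, map_sum] at h2
  rw [← mul_zero (Nat.card G : ℂ)⁻¹, ← h2, Finset.mul_sum]
  refine Finset.sum_congr rfl fun χ _ => ?_
  rw [pRegularPart_apply, if_pos hy, map_mul, Complex.conj_conj, irr_central_mul χ hwZ]
  ring

end CfsgLib.Blocks
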