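import Cfsg.Agent.Lib.Blocks.SQ.Columns
import Cfsg.Agent.Lib.Blocks.SQ.Identity

/-!
# The subsections of a block with quaternion or semidihedral defect group
-/

set_option autoImplicit false
set_option linter.unusedSectionVars false
set_option linter.style.haveILetI false

namespace CfsgLib.Blocks

open Cfsg Chars BlockOrth Finset
open scoped ComplexConjugate

universe u

namespace SQP

section Reps

variable {G : Type u} [Group G] {P : Subgroup G} (q : SQP P)

/-- The exponent `l` is the smaller one of its orbit under `τ`, outside the classes killed by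
two. -/
def IsRep (l : ℕ) : Prop := ¬ q.H ∣ l ∧ l ≤ q.τ * l % q.N

/-- The representatives of the free exponents. -/
abbrev Rep := {l : Fin q.N // q.IsRep l}

/-- The element of `⟨x⟩` to which `y` may be fused. -/
def base : G := if q.quat then q.x ^ (q.H / 2) else q.z

noncomputable instance : Fintype q.Rep := Fintype.ofFinite _

variable [Finite G]

theorem val_tau (l : ZMod q.setup.N) : (q.setup.τ * l).val = q.τ * l.val % q.N := by
  conv_lhs => rw [← ZMod.natCast_zmod_val l]
  show (((q.τ : ℕ) : ZMod q.setup.N) * (l.val : ZMod q.setup.N)).val = _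
  rw [← Nat.cast_mul, ZMod.val_natCast]
  rfl

theorem val_rep (r : q.Rep) : (((r : ℕ) : ZMod q.setup.N)).val = (r : ℕ) :=
  ZMod.val_natCast_of_lt (show (r : ℕ) < q.setup.N from r.1.2)

/-- An invariant function summed over the representatives gives half the free sum. -/
theorem two_sum_reps (g : ZMod q.setup.N → ℂ) (hg : ∀ l, g (q.setup.τ * l) = g l) :
    2 * ∑ r : q.Rep, g ((r : ℕ) : ZMod q.setup.N) = ∑ l ∈ q.setup.free, g l := by
  classical
  have hne : ∀ l ∈ q.setup.free, (q.setup.τ * l).val ≠ l.val := fun l hl h =>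
    (mem_filter.1 hl).2 (q.setup.τ_fix l (ZMod.val_injective _ h))
  have h1 : ∑ r : q.Rep, g ((r : ℕ) : ZMod q.setup.N) =
      ∑ l ∈ q.setup.free.filter (fun l => l.val ≤ (q.setup.τ * l).val), g l := by
    refine Finset.sum_bij (fun r _ => ((r : ℕ) : ZMod q.setup.N)) (fun r _ => ?_)
      (fun r _ r' _ h => ?_) (fun l hl => ?_) fun _ _ => rfl
    · have hv := q.val_rep r
      refine mem_filter.2 ⟨q.mem_free.2 r.2.1, ?_⟩
      rw [q.val_tau, hv]
      exact r.2.2
    · refine Subtype.ext (Fin.ext ?_)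
      have h2 := congrArg ZMod.val h
      rwa [q.val_rep r, q.val_rep r'] at h2
    · obtain ⟨hl1, hl2⟩ := mem_filter.1 hl
      refine ⟨⟨⟨l.val, ZMod.val_lt l⟩, ⟨q.mem_free.1 ?_, ?_⟩⟩, mem_univ _,
        ZMod.natCast_zmod_val l⟩
      · show ((l.val : ℕ) : ZMod q.setup.N) ∈ q.setup.free
        rw [ZMod.natCast_zmod_val]; exact hl1
      · show l.val ≤ _
        rw [← q.val_tau]; exact hl2
  have h2 : ∑ l ∈ q.setup.free.filter (fun l => ¬ l.val ≤ (q.setup.τ * l).val), g l =
      ∑ l ∈ q.setup.free.filter (fun l => l.val ≤ (q.setup.τ * l).val), g l := by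
    refine Finset.sum_bij' (fun l _ => q.setup.τ * l) (fun l _ => q.setup.τ * l) ?_ ?_
      (fun l _ => q.setup.τ_τ l) (fun l _ => q.setup.τ_τ l) fun l _ => (hg l).symm
    · intro l hl
      obtain ⟨hl1, hl2⟩ := mem_filter.1 hl
      refine mem_filter.2 ⟨q.setup.τ_free.2 hl1, ?_⟩
      rw [q.setup.τ_τ]
      omega
    · intro l hl
      obtain ⟨hl1, hl2⟩ := mem_filter.1 hl
      refine mem_filter.2 ⟨q.setup.τ_free.2 hl1, ?_⟩
      rw [q.setup.τ_τ]
      have := hne l hl1
      omega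
  rw [h1, ← Finset.sum_filter_add_sum_filter_not q.setup.free
    (fun l => l.val ≤ (q.setup.τ * l).val), h2, two_mul]

theorem card_free : q.setup.free.card + 2 = q.N := by
  have h := Finset.card_filter_add_card_filter_not (s := (univ : Finset (ZMod q.setup.N)))
    (fun l => 2 * l ≠ 0)
  rw [show (univ.filter fun l : ZMod q.setup.N => ¬ 2 * l ≠ 0) = {0, (q.setup.H : ZMod q.setup.N)} by
      ext l; simp [q.setup.two_mul_eq_zero]; tauto,
    Finset.card_pair q.setup.H_ne.symm, Finset.card_univ, ZMod.card] at h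
  exact h

theorem card_rep : Fintype.card q.Rep + 1 = q.H := by
  have h := q.two_sum_reps (fun _ => 1) fun _ => rfl
  rw [Finset.sum_const, Finset.sum_const, nsmul_eq_mul, mul_one, nsmul_eq_mul, mul_one,
    Finset.card_univ, ← Nat.cast_two, ← Nat.cast_mul, Nat.cast_inj] at h
  have := q.card_free
  have := q.N_eq
  omega

end Reps

end SQP

variable {G : Type u} [Group G] [Fintype G] {M : Ideal AlgInt} [M.IsPrime] [Fact (Nat.Prime 2)]
  {B : Set (IrrCharacter G)} {P : Subgroup G}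
  {e : Set (IrrCharacter (Subgroup.centralizer (P : Set G)))}

/-- The outside elements that are not fused into a subsection already present: `y` (`false`)
and `x y` (`true`). -/
def OutCand (M : Ideal AlgInt) [M.IsPrime]
    (e : Set (IrrCharacter (Subgroup.centralizer (P : Set G)))) (q : SQP P) : Bool → Prop
  | false => ¬ PairFus M 2 (⟨P, e⟩ : BrauerPairIdx G) q.y q.base
  | true => ¬ PairFus M 2 (⟨P, e⟩ : BrauerPairIdx G) (q.x * q.y) q.i ∧
      ¬ PairFus M 2 (⟨P, e⟩ : BrauerPairIdx G) (q.x * q.y) q.y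

/-- The number of outside subsections. -/
noncomputable def outCount (M : Ideal AlgInt) [M.IsPrime]
    (e : Set (IrrCharacter (Subgroup.centralizer (P : Set G)))) (q : SQP P) : ℕ :=
  Nat.card {j : Bool // OutCand M e q j}

/-- The index set of the subsections. -/
abbrev SQIdx (M : Ideal AlgInt) [M.IsPrime]
    (e : Set (IrrCharacter (Subgroup.centralizer (P : Set G)))) (q : SQP P) :=
  Bool ⊕ q.Rep ⊕ {j : Bool // OutCand M e q j}

/-- The element of an index. -/
def sqElt (M : Ideal AlgInt) [M.IsPrime]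
    (e : Set (IrrCharacter (Subgroup.centralizer (P : Set G)))) (q : SQP P) : SQIdx M e q → G
  | Sum.inl false => 1
  | Sum.inl true => q.z
  | Sum.inr (Sum.inl r) => q.x ^ (r : ℕ)
  | Sum.inr (Sum.inr ⟨false, _⟩) => q.y
  | Sum.inr (Sum.inr ⟨true, _⟩) => q.x * q.y

variable (q : SQP P)

theorem xy_mem : q.x * q.y ∈ P := mul_mem q.x_mem q.y_mem

theorem xy_not : q.x * q.y ∉ Subgroup.zpowers q.x := by
  have h := q.pow_mul_y_not 1
  rwa [pow_one] at h

theorem sq_xy : q.x * q.y * (q.x * q.y) = q.z := by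
  rcases hq : q.quat with _ | _
  · have h := q.sq_outside_semi hq 1
    rwa [pow_one, if_neg (by simp)] at h
  · have h := q.sq_outside_quat hq 1
    rwa [pow_one] at h

theorem orderOf_xy : orderOf (q.x * q.y) = 4 := by
  refine orderOf_eq_prime_pow (p := 2) (n := 1) ?_ ?_
  · rw [pow_one, sq, sq_xy q]; exact q.z_ne_one
  · rw [show (2 : ℕ) ^ (1 + 1) = 2 * 2 from rfl, pow_mul, sq (q.x * q.y), sq_xy q, sq, q.z_sq]

theorem orderOf_y : orderOf q.y = if q.quat then 4 else 2 := by
  have hne : q.y ≠ 1 := fun h => q.y_not (h ▸ one_mem _)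
  rcases hq : q.quat with _ | _
  · have h := q.sq_outside_semi hq 0
    rw [pow_zero, one_mul, if_pos (Even.zero)] at h
    simp only [Bool.false_eq_true, if_false]
    exact orderOf_eq_prime (by rw [sq]; exact h) hne
  · have h := q.sq_outside_quat hq 0
    rw [pow_zero, one_mul] at h
    refine orderOf_eq_prime_pow (p := 2) (n := 1) ?_ ?_
    · rw [pow_one, sq, h]; exact q.z_ne_one
    · rw [show (2 : ℕ) ^ (1 + 1) = 2 * 2 from rfl, pow_mul, sq q.y, h, sq, q.z_sq]

/-- An element of order four of `⟨x⟩` is `i` or its inverse. -/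
theorem eq_i_or_inv {l : ℕ} (h : orderOf (q.x ^ l) = 4) :
    q.x ^ l = q.i ∨ q.x ^ l = q.x ^ (q.τ * (q.H / 2)) := by
  have hinv : q.x ^ (q.τ * (q.H / 2)) = q.i⁻¹ := by
    rw [SQP.i, eq_inv_iff_mul_eq_one, ← pow_add, q.pow_eq_one]
    exact q.tau_half_dvd
  have hi := q.eq_i_of_pow_four (q.pow_mem_zpowers l) (h ▸ pow_orderOf_eq_one _)
  obtain ⟨k, hk⟩ := hi
  simp only at hk
  have hk4 : q.i ^ (k % 4) = q.x ^ l := by
    rw [← hk, ← zpow_mod_orderOf q.i k, q.orderOf_i]
    rfl
  have h4 := q.orderOf_i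
  have hsq : q.i ^ (2 : ℤ) = q.z := by rw [zpow_two, q.i_sq]
  rcases (show k % 4 = 0 ∨ k % 4 = 1 ∨ k % 4 = 2 ∨ k % 4 = 3 by omega) with e | e | e | e <;>
    rw [e] at hk4
  · rw [← hk4, zpow_zero, orderOf_one] at h; omega
  · exact Or.inl (by rw [← hk4, zpow_one])
  · rw [← hk4, hsq, q.orderOf_z] at h; omega
  · right
    rw [← hk4, hinv, eq_inv_iff_mul_eq_one]
    have h5 : q.i ^ (4 : ℕ) = 1 := h4 ▸ pow_orderOf_eq_one _
    rw [← h5, show (3 : ℤ) = ((3 : ℕ) : ℤ) from rfl, zpow_natCast, ← pow_succ]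

variable (hM : IsPModular 2 M) (hmax : IsMaximalBrauerPair 2 M B P e)
  (hnofus : ∀ l m : ℕ, ¬ q.H ∣ l → ¬ q.H ∣ m →
    PairFus M 2 (⟨P, e⟩ : BrauerPairIdx G) (q.x ^ l) (q.x ^ m) →
    (m : ZMod q.setup.N) = (l : ZMod q.setup.N) ∨
      (m : ZMod q.setup.N) = q.setup.τ * (l : ZMod q.setup.N))

include hM hmax

theorem sqElt_mem (i : SQIdx M e q) : sqElt M e q i ∈ P := by
  rcases i with (_ | _) | r | ⟨_ | _, hj⟩
  · exact one_mem _
  · exact q.z_mem
  · exact pow_mem q.x_mem _
  · exact q.y_mem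
  · exact xy_mem q

/-- A power of `x` is fused to `1`, `z` or a representative. -/
theorem exists_fus_pow (l : ℕ) : ∃ k : Bool ⊕ q.Rep,
    PairFus M 2 (⟨P, e⟩ : BrauerPairIdx G) (sqElt M e q (k.map id Sum.inl)) (q.x ^ l) := by
  have hpM : ((2 : ℕ) : AlgInt) ∈ M := hM.2.2
  have hc : IsBrauerPair 2 M P e := hmax.1.1
  have hl0 : q.x ^ l = q.x ^ (l % q.N) := (q.pow_eq_pow.2 (Nat.mod_modEq _ _)).symm
  rw [hl0]
  set a := l % q.N with ha'
  have haN : a < q.N := Nat.mod_lt _ q.N_pos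
  by_cases hd : q.H ∣ a
  · obtain ⟨c', hc'⟩ := hd
    rw [hc', q.pow_mul_H]
    split_ifs
    · exact ⟨Sum.inl false, PairFus.refl _⟩
    · exact ⟨Sum.inl true, PairFus.refl _⟩
  set b := q.τ * a % q.N with hb'
  have hab : q.y * q.x ^ a * q.y⁻¹ = q.x ^ b :=
    (q.y_pow a).trans (q.pow_eq_pow.2 (Nat.mod_modEq _ _).symm)
  by_cases hle : a ≤ b
  · exact ⟨Sum.inr (⟨⟨a, haN⟩, hd, hle⟩), PairFus.refl _⟩
  · have hbd : ¬ q.H ∣ b := fun h => hd (by
      have h1 : q.H ∣ q.τ * a := by
        rw [← Nat.mod_add_div (q.τ * a) q.N]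
        exact dvd_add h (Dvd.dvd.mul_right ⟨2, by rw [q.N_eq, mul_comm]⟩ _)
      have hcop : Nat.Coprime q.H q.τ := by
        have := q.tau_mod_four
        exact Nat.Coprime.pow_left _ (Nat.coprime_two_left.2 ⟨q.τ / 2, by omega⟩)
      exact hcop.dvd_of_dvd_mul_left h1)
    have hba : q.τ * b % q.N = a := by
      have h1 : q.τ * b ≡ q.τ * (q.τ * a) [MOD q.N] := (Nat.mod_modEq _ _).mul_left _
      have h2 : q.τ * (q.τ * a) ≡ 1 * a [MOD q.N] := by
        rw [← mul_assoc]; exact Nat.ModEq.mul_right a q.tau_sq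
      have h3 : q.τ * b % q.N = (1 * a) % q.N := h1.trans h2
      rw [h3, one_mul, Nat.mod_eq_of_lt haN]
    refine ⟨Sum.inr (⟨⟨b, Nat.mod_lt _ q.N_pos⟩, hbd, ?_⟩), ?_⟩
    · show b ≤ q.τ * b % q.N
      rw [hba]; omega
    · have h1 := PairFus.of_mem (M := M) (c := (⟨P, e⟩ : BrauerPairIdx G)) hpM hc
        (pow_mem q.x_mem a) q.y_mem
      rw [hab] at h1
      exact h1.symm

/-- Every element of `P` is fused to a member. -/
theorem exists_fus_member {u : G} (hu : u ∈ P) :
    ∃ i : SQIdx M e q, PairFus M 2 (⟨P, e⟩ : BrauerPairIdx G) (sqElt M e q i) u := by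
  have hpM : ((2 : ℕ) : AlgInt) ∈ M := hM.2.2
  have hc : IsBrauerPair 2 M P e := hmax.1.1
  have hfree : ∀ l : ℕ, ∃ i : SQIdx M e q,
      PairFus M 2 (⟨P, e⟩ : BrauerPairIdx G) (sqElt M e q i) (q.x ^ l) := fun l =>
    let ⟨k, hk⟩ := exists_fus_pow q hM hmax l
    ⟨k.map id Sum.inl, hk⟩
  have hy : ∃ i : SQIdx M e q,
      PairFus M 2 (⟨P, e⟩ : BrauerPairIdx G) (sqElt M e q i) q.y := by
    by_cases h : OutCand M e q false
    · exact ⟨Sum.inr (Sum.inr ⟨false, h⟩), PairFus.refl _⟩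
    · have hf : PairFus M 2 (⟨P, e⟩ : BrauerPairIdx G) q.y q.base := not_not.1 h
      rcases hq : q.quat with _ | _
      · exact ⟨Sum.inl true, by rw [SQP.base, if_neg (by simp [hq])] at hf; exact hf.symm⟩
      · rw [SQP.base, if_pos hq] at hf
        obtain ⟨i, hi⟩ := hfree (q.H / 2)
        exact ⟨i, hi.trans hf.symm⟩
  have hxy : ∃ i : SQIdx M e q,
      PairFus M 2 (⟨P, e⟩ : BrauerPairIdx G) (sqElt M e q i) (q.x * q.y) := by
    by_cases h : OutCand M e q true
    · exact ⟨Sum.inr (Sum.inr ⟨true, h⟩), PairFus.refl _⟩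
    · rcases not_and_or.1 h with h' | h'
      · obtain ⟨i, hi⟩ := hfree (q.H / 2)
        exact ⟨i, hi.trans (not_not.1 h').symm⟩
      · obtain ⟨i, hi⟩ := hy
        exact ⟨i, hi.trans (not_not.1 h').symm⟩
  by_cases hux : u ∈ Subgroup.zpowers q.x
  · obtain ⟨l, rfl⟩ := q.mem_zpowers_iff'.1 hux
    exact hfree l
  · obtain ⟨g, hgP, hg⟩ := q.outside_classes hu hux
    have h1 := PairFus.of_mem (M := M) (c := (⟨P, e⟩ : BrauerPairIdx G)) hpM hc hu hgP
    rcases hg with hg | hg <;> rw [hg] at h1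
    · obtain ⟨i, hi⟩ := hy
      exact ⟨i, hi.trans h1.symm⟩
    · obtain ⟨i, hi⟩ := hxy
      exact ⟨i, hi.trans h1.symm⟩

include hnofus

/-- The members are not fused. -/
theorem member_inj {i j : SQIdx M e q}
    (h : PairFus M 2 (⟨P, e⟩ : BrauerPairIdx G) (sqElt M e q i) (sqElt M e q j)) : i = j := by
  have hox : ∀ r : q.Rep, 4 ∣ orderOf (q.x ^ (r : ℕ)) := fun r => q.four_le_orderOf r.2.1
  -- no member outside is fused into `⟨x⟩`
  have hout : ∀ (b : {j : Bool // OutCand M e q j}) (k : Bool ⊕ q.Rep),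
      ¬ PairFus M 2 (⟨P, e⟩ : BrauerPairIdx G) (sqElt M e q (Sum.inr (Sum.inr b)))
        (sqElt M e q (k.map id Sum.inl)) := by
    rintro ⟨b, hb⟩ k hf
    have ho := hf.orderOf_eq
    have hpow : ∀ l : ℕ, orderOf (q.x ^ l) = 4 →
        PairFus M 2 (⟨P, e⟩ : BrauerPairIdx G) (q.x ^ l) q.i := fun l hl => by
      rcases eq_i_or_inv q hl with e1 | e1 <;> rw [e1]
      · exact PairFus.refl _
      · have h1 := PairFus.of_mem (M := M) (c := (⟨P, e⟩ : BrauerPairIdx G)) hM.2.2 hmax.1.1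
          q.i_mem q.y_mem
        rw [show q.y * q.i * q.y⁻¹ = q.x ^ (q.τ * (q.H / 2)) from q.y_pow _] at h1
        exact h1.symm
    cases b
    · change ¬ PairFus M 2 (⟨P, e⟩ : BrauerPairIdx G) q.y q.base at hb
      rcases k with (_ | _) | r
      · change orderOf q.y = orderOf (1 : G) at ho
        rw [orderOf_one, orderOf_eq_one_iff] at ho
        exact q.y_not (ho ▸ one_mem _)
      · change orderOf q.y = orderOf q.z at ho
        rcases hq : q.quat with _ | _
        · rw [SQP.base, if_neg (by simp [hq])] at hb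
          exact hb hf
        · rw [orderOf_y q, if_pos hq, q.orderOf_z] at ho
          omega
      · change orderOf q.y = orderOf (q.x ^ (r : ℕ)) at ho
        rcases hq : q.quat with _ | _
        · have := hox r
          rw [← ho, orderOf_y q, if_neg (by simp [hq])] at this
          omega
        · rw [orderOf_y q, if_pos hq] at ho
          rw [SQP.base, if_pos hq] at hb
          exact hb (hf.trans (hpow _ ho.symm))
    · have hb1 := hb.1
      rcases k with (_ | _) | r
      · change orderOf (q.x * q.y) = orderOf (1 : G) at ho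
        rw [orderOf_xy q, orderOf_one] at ho
        omega
      · change orderOf (q.x * q.y) = orderOf q.z at ho
        rw [orderOf_xy q, q.orderOf_z] at ho
        omega
      · change orderOf (q.x * q.y) = orderOf (q.x ^ (r : ℕ)) at ho
        rw [orderOf_xy q] at ho
        exact hb1 (hf.trans (hpow _ ho.symm))
  rcases i with a | r | b <;> rcases j with a' | r' | b'
  · have ho := h.orderOf_eq
    cases a <;> cases a'
    · rfl
    · change orderOf (1 : G) = orderOf q.z at ho
      rw [orderOf_one, q.orderOf_z] at ho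
      omega
    · change orderOf q.z = orderOf (1 : G) at ho
      rw [orderOf_one, q.orderOf_z] at ho
      omega
    · rfl
  · have ho := h.orderOf_eq
    have h4 := hox r'
    change orderOf (sqElt M e q (Sum.inl a)) = orderOf (q.x ^ (r' : ℕ)) at ho
    rw [← ho] at h4
    cases a
    · change 4 ∣ orderOf (1 : G) at h4
      rw [orderOf_one] at h4; omega
    · change 4 ∣ orderOf q.z at h4
      rw [q.orderOf_z] at h4; omega
  · exact absurd h.symm (hout b' (Sum.inl a))
  · have ho := h.orderOf_eq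
    have h4 := hox r
    change orderOf (q.x ^ (r : ℕ)) = orderOf (sqElt M e q (Sum.inl a')) at ho
    rw [ho] at h4
    cases a'
    · change 4 ∣ orderOf (1 : G) at h4
      rw [orderOf_one] at h4; omega
    · change 4 ∣ orderOf q.z at h4
      rw [q.orderOf_z] at h4; omega
  · refine congrArg (Sum.inr ∘ Sum.inl) (Subtype.ext (Fin.ext ?_))
    have hr := r.1.2
    have hr' := r'.1.2
    rcases hnofus _ _ r.2.1 r'.2.1 h with e1 | e1
    · have h2 := congrArg ZMod.val e1
      rw [q.val_rep r', q.val_rep r] at h2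
      exact h2.symm
    · have h2 := congrArg ZMod.val e1
      rw [q.val_rep r', q.val_tau, q.val_rep r] at h2
      have e2 : ((r : ℕ) : ZMod q.setup.N) = q.setup.τ * ((r' : ℕ) : ZMod q.setup.N) := by
        rw [e1, q.setup.τ_τ]
      have h3 := congrArg ZMod.val e2
      rw [q.val_rep r, q.val_tau, q.val_rep r'] at h3
      have := r.2.2
      have := r'.2.2
      omega
  · exact absurd h.symm (hout b' (Sum.inr r))
  · exact absurd h (hout b (Sum.inl a'))
  · exact absurd h (hout b (Sum.inr r'))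
  · obtain ⟨b, hb⟩ := b
    obtain ⟨b', hb'⟩ := b'
    cases b <;> cases b'
    · rfl
    · exact absurd h.symm hb'.2
    · exact absurd h hb.2
    · rfl

/-- The family of the subsections of the block. -/
theorem exists_sqFamily [Fintype (SQIdx M e q)] :
    ∃ F : PairFamily M 2 B (SQIdx M e q), ∀ i, F.y i = sqElt M e q i ∧
      pairBelow 2 M (⟨P, e⟩ : BrauerPairIdx G) (F.y i) = pairAt (F.y i) (F.b i) := by
  have hpM : ((2 : ℕ) : AlgInt) ∈ M := hM.2.2
  have hc : IsBrauerPair 2 M P e := hmax.1.1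
  choose bl hbl using fun u : G =>
    exists_pairBelow_eq (M := M) (p := 2) (⟨P, e⟩ : BrauerPairIdx G) u
  have hmem := sqElt_mem q hM hmax
  refine ⟨⟨sqElt M e q, fun i => bl (sqElt M e q i),
    fun i => exists_pow_eq_one_of_mem hc.1 (hmem i), fun i => ?_, fun i j g h1 h2 => ?_,
    fun x hx a ha hB => ?_⟩, fun i => ⟨rfl, hbl _⟩⟩
  · exact (isBrauerPairOf_iff_of_below hpM
      (hbl _ ▸ pairBelow_below (c := (⟨P, e⟩ : BrauerPairIdx G)) hpM hc (hmem i)) B).2 hmax.1
  · refine member_inj q hM hmax hnofus ⟨g, h1, ?_⟩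
    rw [hbl, hbl]
    exact h2
  · obtain ⟨g, hg⟩ := exists_conj_below (a := a) (b := (⟨P, e⟩ : BrauerPairIdx G)) hpM hmax hB
    have hfst : (conjPair g a).1 = Subgroup.zpowers (g * x * g⁻¹) := by
      show a.1.map _ = _
      rw [(mem_pairsAt.1 ha).1, map_zpowers_conj]
    have hu : g * x * g⁻¹ ∈ P := below_le hg (hfst ▸ Subgroup.mem_zpowers _)
    have heq := eq_pairBelow (c := (⟨P, e⟩ : BrauerPairIdx G)) hpM hc hg hfst
    obtain ⟨i, k, hk1, hk2⟩ := exists_fus_member q hM hmax hu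
    refine ⟨i, g⁻¹ * k, ?_, ?_⟩
    · calc g⁻¹ * k * sqElt M e q i * (g⁻¹ * k)⁻¹ = g⁻¹ * (k * sqElt M e q i * k⁻¹) * g := by group
        _ = x := by rw [hk1]; group
    · show conjPair (g⁻¹ * k) ⟨Subgroup.zpowers (sqElt M e q i), bl _⟩ = a
      rw [← hbl, ← conjPair_mul, hk2, ← heq, conjPair_mul, inv_mul_cancel, conjPair_one]

end CfsgLib.Blocks
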