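import Mathlib.Analysis.SpecialFunctions.Complex.CircleAddChar
import Mathlib.NumberTheory.LegendreSymbol.AddCharacter

/-!
# Fourier coefficients of the columns on the powers of an element of order `N`

A function on `ZMod N` is recorded by the differences `coef k` of its Fourier coefficients at `k`
and at the parity of `k`; these see the function only outside the two elements killed by two.
-/

set_option autoImplicit false
set_option linter.unusedSectionVars false

namespace CfsgLib.Blocks.SQFourier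

open Finset
open scoped ComplexConjugate

universe v

/-- The arithmetic of the exponents: `N = 2 H`, `τ` an involutive odd multiplier which is `-1` on
the even classes and fixes only the classes killed by two. -/
structure Setup where
  N : ℕ
  H : ℕ
  τ : ZMod N
  N_eq : N = 2 * H
  two_le : 2 ≤ H
  even_H : Even H
  τ_sq : τ * τ = 1
  τ_two : 2 * τ = -2
  τ_fix : ∀ k : ZMod N, τ * k = k → 2 * k = 0
  τ_half : τ * (H / 2 : ℕ) = -(H / 2 : ℕ)
  four_dvd : H = 2 ∨ 4 ∣ H

namespace Setup

variable (S : Setup)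

instance : NeZero S.N := ⟨by have := S.N_eq; have := S.two_le; omega⟩

/-- The parity of a class. -/
noncomputable def par : ZMod S.N →+* ZMod 2 := ZMod.castHom ⟨S.H, S.N_eq⟩ (ZMod 2)

/-- The class `0` or `1` of the same parity. -/
noncomputable def base (k : ZMod S.N) : ZMod S.N := if S.par k = 0 then 0 else 1

/-- The standard additive character. -/
noncomputable def e : AddChar (ZMod S.N) ℂ := ZMod.stdAddChar

theorem sum_e (t : ZMod S.N) : ∑ l, S.e (l * t) = if t = 0 then (S.N : ℂ) else 0 := by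
  rw [e, AddChar.sum_mulShift t (ZMod.isPrimitive_stdAddChar S.N), ZMod.card]
  split_ifs <;> simp

theorem e_neg (t : ZMod S.N) : conj (S.e t) = S.e (-t) := (AddChar.map_neg_eq_conj S.e t).symm

theorem e_zero : S.e 0 = 1 := AddChar.map_zero_eq_one _

theorem par_base (k : ZMod S.N) : S.par (S.base k) = S.par k := by
  have h : ∀ a : ZMod 2, a = 0 ∨ a = 1 := by decide
  unfold base
  split_ifs with h0
  · rw [map_zero, h0]
  · rw [map_one, (h _).resolve_left h0]

theorem base_congr {j k : ZMod S.N} (h : S.par j = S.par k) : S.base j = S.base k := by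
  rw [base, base, h]

theorem base_one : S.base 1 = 1 := by rw [base, if_neg (by rw [map_one]; decide)]

theorem base_even {k : ZMod S.N} (h : S.par k = 0) : S.base k = 0 := by rw [base, if_pos h]

theorem exists_two_mul {k : ZMod S.N} (h : S.par k = 0) : ∃ m, k = 2 * m := by
  obtain ⟨v, rfl⟩ := ZMod.natCast_zmod_surjective k
  rw [map_natCast, ZMod.natCast_eq_zero_iff] at h
  obtain ⟨m, rfl⟩ := h
  exact ⟨m, by push_cast; rfl⟩

theorem par_τ : S.par S.τ = 1 := by
  have h : ∀ a : ZMod 2, a * a = 1 → a = 1 := by decide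
  exact h _ (by rw [← map_mul, S.τ_sq, map_one])

theorem τ_even {k : ZMod S.N} (h : S.par k = 0) : S.τ * k = -k := by
  obtain ⟨m, rfl⟩ := S.exists_two_mul h
  rw [← mul_assoc, mul_comm S.τ 2, S.τ_two, neg_mul]

theorem τ_τ (k : ZMod S.N) : S.τ * (S.τ * k) = k := by rw [← mul_assoc, S.τ_sq, one_mul]

theorem H_ne : (S.H : ZMod S.N) ≠ 0 := fun h => by
  have h1 := Nat.le_of_dvd (by have := S.two_le; omega) ((ZMod.natCast_eq_zero_iff _ _).1 h)
  have := S.N_eq
  have := S.two_le
  omega

theorem two_mul_H : 2 * (S.H : ZMod S.N) = 0 := by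
  rw [← Nat.cast_two, ← Nat.cast_mul, ← S.N_eq, ZMod.natCast_self]

theorem two_mul_eq_zero {l : ZMod S.N} : 2 * l = 0 ↔ l = 0 ∨ l = (S.H : ZMod S.N) := by
  refine ⟨fun h => ?_, ?_⟩
  · obtain ⟨v, rfl⟩ := ZMod.natCast_zmod_surjective l
    rw [← Nat.cast_two, ← Nat.cast_mul, ZMod.natCast_eq_zero_iff, S.N_eq] at h
    obtain ⟨m, rfl⟩ := Nat.dvd_of_mul_dvd_mul_left two_pos h
    rcases Nat.even_or_odd' m with ⟨i, rfl | rfl⟩
    · left
      rw [Nat.cast_mul, Nat.cast_mul, Nat.cast_two, ← mul_assoc, mul_comm _ (2 : ZMod S.N),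
        S.two_mul_H, zero_mul]
    · right
      push_cast
      linear_combination (i : ZMod S.N) * S.two_mul_H
  · rintro (rfl | rfl)
    · rw [mul_zero]
    · exact S.two_mul_H

theorem par_H : S.par (S.H : ZMod S.N) = 0 := by
  rw [map_natCast, ZMod.natCast_eq_zero_iff, ← even_iff_two_dvd]
  exact S.even_H

theorem τ_H : S.τ * (S.H : ZMod S.N) = (S.H : ZMod S.N) := by
  rw [S.τ_even S.par_H, neg_eq_iff_add_eq_zero, ← two_mul, S.two_mul_H]

/-- The classes not killed by two. -/
noncomputable def free : Finset (ZMod S.N) := univ.filter fun l => 2 * l ≠ 0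

theorem mem_free {l : ZMod S.N} : l ∈ S.free ↔ l ≠ 0 ∧ l ≠ (S.H : ZMod S.N) := by
  simp [free, S.two_mul_eq_zero, not_or]

theorem τ_free {l : ZMod S.N} : S.τ * l ∈ S.free ↔ l ∈ S.free := by
  simp only [free, mem_filter, mem_univ, true_and, Ne]
  refine not_congr ⟨fun h => ?_, fun h => ?_⟩
  · rw [← S.τ_τ l, ← mul_assoc, mul_comm 2 S.τ, mul_assoc, h, mul_zero]
  · rw [← mul_assoc, mul_comm 2 S.τ, mul_assoc, h, mul_zero]

/-- The coefficient functions. -/
noncomputable def cf (k l : ZMod S.N) : ℂ := S.e (l * -k) - S.e (l * -(S.base k))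

theorem cf_eq_zero {k l : ZMod S.N} (hl : 2 * l = 0) : S.cf k l = 0 := by
  obtain ⟨m, hm⟩ := S.exists_two_mul (k := k - S.base k) (by rw [map_sub, S.par_base, sub_self])
  have h1 : l * -k = l * -(S.base k) := by
    linear_combination -m * hl - l * hm
  rw [cf, h1, sub_self]

/-- The reduced Fourier coefficient. -/
noncomputable def coef (f : ZMod S.N → ℂ) (k : ZMod S.N) : ℂ :=
  (S.N : ℂ)⁻¹ * ∑ l, f l * S.cf k l

theorem coef_eq_free (f : ZMod S.N → ℂ) (k : ZMod S.N) :
    S.coef f k = (S.N : ℂ)⁻¹ * ∑ l ∈ S.free, f l * S.cf k l := by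
  rw [coef, free, Finset.sum_filter_of_ne (s := univ) (p := fun l : ZMod S.N => 2 * l ≠ 0)
    fun l _ h hl => h (by rw [S.cf_eq_zero hl, mul_zero])]

theorem coef_int {f : ZMod S.N → ℂ}
    (h : ∀ k : ZMod S.N, ∃ m : ℤ, (m : ℂ) = (S.N : ℂ)⁻¹ * ∑ l, f l * S.e (l * -k)) (k : ZMod S.N) :
    ∃ m : ℤ, (m : ℂ) = S.coef f k := by
  obtain ⟨a, ha⟩ := h k
  obtain ⟨b, hb⟩ := h (S.base k)
  refine ⟨a - b, ?_⟩
  simp only [coef, cf, Int.cast_sub, ha, hb, mul_sub, Finset.sum_sub_distrib]

theorem coef_base (f : ZMod S.N → ℂ) (k : ZMod S.N) : S.coef f (S.base k) = 0 := by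
  have : ∀ l, S.cf (S.base k) l = 0 := fun l => by
    rw [cf, S.base_congr (S.par_base k), sub_self]
  simp [coef, this]

theorem coef_τ {f : ZMod S.N → ℂ} (hf : ∀ l, f (S.τ * l) = f l) (k : ZMod S.N) :
    S.coef f (S.τ * k) = S.coef f k := by
  have key : ∀ a : ZMod S.N, ∑ l, f l * S.e (l * -(S.τ * a)) = ∑ l, f l * S.e (l * -a) := fun a => by
    refine Fintype.sum_equiv ⟨(S.τ * ·), (S.τ * ·), S.τ_τ, S.τ_τ⟩ _ _ fun l => ?_
    show _ = f (S.τ * l) * S.e (S.τ * l * -a)
    rw [hf]; congr 2; ring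
  have hb : S.base (S.τ * k) = S.base k := S.base_congr (by rw [map_mul, S.par_τ, one_mul])
  simp only [coef, cf, hb, mul_sub, Finset.sum_sub_distrib, key]

/-- The values outside the classes killed by two are those of the reduced expansion. -/
theorem value_eq (f : ZMod S.N → ℂ) {l : ZMod S.N} (hl : 2 * l ≠ 0) :
    f l = ∑ k, S.coef f k * S.e (l * k) := by
  have hN : (S.N : ℂ) ≠ 0 := Nat.cast_ne_zero.2 (NeZero.ne S.N)
  have hbase : ∀ m : ZMod S.N, ∑ k, S.e (m * -(S.base k)) * S.e (l * k) = 0 := by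
    intro m
    have hsplit : ∀ k, S.e (m * -(S.base k)) = if S.par k = 0 then (1 : ℂ) else S.e (-m) := fun k => by
      unfold base
      split_ifs <;> simp [S.e_zero]
    have h2 : ∑ k ∈ univ.filter (fun k => S.par k = 0), S.e (l * k) = 0 := by
      set T := ∑ k ∈ univ.filter (fun k => S.par k = 0), S.e (l * k)
      have h3 : S.e (l * 2) * T = T := by
        rw [Finset.mul_sum]
        refine Finset.sum_bij' (fun k _ => k + 2) (fun k _ => k - 2) ?_ ?_
          (fun k _ => add_sub_cancel_right k 2) (fun k _ => sub_add_cancel k 2) fun k _ => ?_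
        · intro k hk
          simp only [mem_filter, mem_univ, true_and] at hk ⊢
          rw [map_add, hk, zero_add, map_ofNat]; rfl
        · intro k hk
          simp only [mem_filter, mem_univ, true_and] at hk ⊢
          rw [map_sub, hk, map_ofNat]; rfl
        · rw [← AddChar.map_add_eq_mul, ← mul_add, add_comm]
      have hne : S.e (l * 2) ≠ 1 := fun h => hl (by
        rw [mul_comm]
        refine (ZMod.injective_stdAddChar (N := S.N)) ?_
        rw [AddChar.map_zero_eq_one]; exact h)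
      by_contra h0
      exact hne ((mul_left_eq_self₀.1 h3).resolve_right h0)
    rw [← Finset.sum_filter_add_sum_filter_not univ (fun k => S.par k = 0),
      Finset.sum_congr rfl fun k hk => by rw [hsplit, if_pos (mem_filter.1 hk).2, one_mul], h2,
      zero_add, Finset.sum_congr rfl fun k hk => by rw [hsplit, if_neg (mem_filter.1 hk).2],
      ← Finset.mul_sum]
    have h3 : ∑ k, S.e (l * k) = 0 := by
      rw [Finset.sum_congr rfl fun k _ => by rw [mul_comm], S.sum_e, if_neg]
      intro h; exact hl (by rw [h, mul_zero])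
    rw [← Finset.sum_filter_add_sum_filter_not univ (fun k => S.par k = 0), h2, zero_add] at h3
    rw [h3, mul_zero]
  have key : ∀ m, ∑ k, f m * S.cf k m * S.e (l * k) = if m = l then (S.N : ℂ) * f m else 0 := by
    intro m
    simp only [cf, mul_assoc, sub_mul, ← Finset.mul_sum, Finset.sum_sub_distrib, hbase, sub_zero]
    rw [Finset.sum_congr rfl fun k _ => show S.e (m * -k) * S.e (l * k) = S.e (k * (l - m)) by
      rw [← AddChar.map_add_eq_mul]; congr 1; ring, S.sum_e]
    by_cases h : m = l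
    · subst h; rw [sub_self, if_pos rfl, if_pos rfl, mul_comm]
    · rw [if_neg (sub_ne_zero.2 (Ne.symm h)), if_neg h, mul_zero]
  simp only [coef, mul_assoc ((S.N : ℂ)⁻¹), Finset.sum_mul, ← Finset.mul_sum]
  rw [Finset.sum_comm]
  simp only [key, Finset.sum_ite_eq', mem_univ, if_true, ← mul_assoc, inv_mul_cancel₀ hN, one_mul]

theorem eq_zero_of_coef (f : ZMod S.N → ℂ) (h : ∀ k, S.coef f k = 0) {l : ZMod S.N}
    (hl : l ∈ S.free) : f l = 0 := by
  rw [S.value_eq f (mem_filter.1 hl).2]
  simp [h]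

/-- The Gram matrix of the coefficients. -/
theorem gram {ι : Type v} (s : Finset ι) (f : ι → ZMod S.N → ℂ)
    (horth : ∀ l ∈ S.free, ∀ m ∈ S.free, ∑ χ ∈ s, f χ l * conj (f χ m) =
      (if m = l then (S.N : ℂ) else 0) + if m = S.τ * l then (S.N : ℂ) else 0)
    (k j : ZMod S.N) :
    let φ : ZMod S.N → ℂ := fun t => if t = 0 then 1 else 0
    ∑ χ ∈ s, S.coef (f χ) k * conj (S.coef (f χ) j) =
      φ (j - k) - φ (S.base j - k) - φ (j - S.base k) + φ (S.base j - S.base k) +
        (φ (S.τ * j - k) - φ (S.τ * S.base j - k) - φ (S.τ * j - S.base k) +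
          φ (S.τ * S.base j - S.base k)) := by
  intro φ
  have hN : (S.N : ℂ) ≠ 0 := Nat.cast_ne_zero.2 (NeZero.ne S.N)
  have hconj : ∀ (a b : ZMod S.N), conj (S.cf a b) = S.e (b * a) - S.e (b * S.base a) := fun a b => by
    rw [cf, map_sub, S.e_neg, S.e_neg]
    congr 2 <;> ring
  have hsum : ∑ χ ∈ s, S.coef (f χ) k * conj (S.coef (f χ) j) =
      (S.N : ℂ)⁻¹ * ∑ l, S.cf k l * (conj (S.cf j l) + conj (S.cf j (S.τ * l))) := by
    simp only [S.coef_eq_free, map_mul, map_inv₀, map_natCast, map_sum]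
    rw [Finset.sum_congr rfl fun χ _ => show
      (S.N : ℂ)⁻¹ * (∑ l ∈ S.free, f χ l * S.cf k l) *
          ((S.N : ℂ)⁻¹ * ∑ m ∈ S.free, conj (f χ m) * conj (S.cf j m)) =
        (S.N : ℂ)⁻¹ * (S.N : ℂ)⁻¹ * ∑ l ∈ S.free, ∑ m ∈ S.free,
          f χ l * S.cf k l * (conj (f χ m) * conj (S.cf j m)) by
      rw [← Finset.sum_mul_sum]; ring, ← Finset.mul_sum]
    rw [Finset.sum_comm, Finset.sum_congr rfl fun l _ => Finset.sum_comm,
      Finset.sum_congr rfl fun l hl => Finset.sum_congr rfl fun m hm => show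
        ∑ χ ∈ s, f χ l * S.cf k l * (conj (f χ m) * conj (S.cf j m)) =
          S.cf k l * conj (S.cf j m) * ((if m = l then (S.N : ℂ) else 0) +
            if m = S.τ * l then (S.N : ℂ) else 0) by
        rw [← horth l hl m hm, Finset.mul_sum]
        exact Finset.sum_congr rfl fun χ _ => by ring]
    simp only [mul_add, mul_ite, mul_zero, Finset.sum_add_distrib, Finset.sum_ite_eq']
    rw [Finset.sum_congr rfl fun l hl => if_pos hl,
      Finset.sum_congr rfl fun l hl => if_pos (S.τ_free.2 hl)]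
    have hfull : ∀ g : ZMod S.N → ℂ, ∑ l ∈ S.free, S.cf k l * g l = ∑ l, S.cf k l * g l := fun g =>
      Finset.sum_filter_of_ne (s := univ) fun l _ h hl => h (by rw [S.cf_eq_zero hl, zero_mul])
    rw [← Finset.sum_mul, ← Finset.sum_mul, hfull, hfull]
    field_simp
  rw [hsum]
  simp only [hconj]
  simp only [cf, sub_mul, mul_sub, mul_add, ← AddChar.map_add_eq_mul]
  simp only [show ∀ l a b : ZMod S.N, l * a + l * b = l * (a + b) from fun l a b => (mul_add l a b).symm,
    show ∀ l a b : ZMod S.N, l * a + S.τ * l * b = l * (a + S.τ * b) from fun l a b => by ring]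
  simp only [Finset.sum_add_distrib, Finset.sum_sub_distrib, S.sum_e, φ]
  simp only [show ∀ a b : ZMod S.N, -a + b = b - a from fun a b => by ring]
  field_simp
  simp only [mul_ite, mul_one, mul_zero, mul_add, mul_sub]
  ring

end Setup

end CfsgLib.Blocks.SQFourier
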