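import Cfsg.Agent.Lib.Blocks.SQ.Def
import Cfsg.Prelude.Def_CaseTheorems
import Cfsg.Agent.Lib.Classical.Dihedral

/-!
# Group theory of generalised quaternion and semidihedral subgroups
-/

set_option autoImplicit false
set_option linter.unusedSectionVars false

open Subgroup

namespace CfsgLib.Blocks.SQP

universe u

variable {G : Type u} [Group G] [Finite G] {P : Subgroup G} (q : SQP P)

/-! ### Arithmetic -/

theorem orderOf_x_eq : orderOf q.x = q.N := q.orderOf_x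

theorem N_eq : q.N = 2 * q.H := by
  show 2 ^ (q.n - 1) = 2 * 2 ^ (q.n - 2)
  rw [← pow_succ']
  congr 1
  have := q.three_le
  omega

theorem two_le_H : 2 ≤ q.H :=
  le_trans (le_of_eq (pow_one 2).symm)
    (Nat.pow_le_pow_right two_pos (by have := q.three_le; omega))

theorem N_pos : 0 < q.N := Nat.two_pow_pos _

theorem H_lt_N : q.H < q.N := by have := q.N_eq; have := q.two_le_H; omega

theorem card_eq' : Nat.card P = 2 * q.N := by
  rw [q.card_eq]
  show 2 ^ q.n = 2 * 2 ^ (q.n - 1)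
  rw [← pow_succ']
  congr 1
  have := q.three_le
  omega

theorem four_dvd_H (h : 4 ≤ q.n) : 4 ∣ q.H :=
  pow_dvd_pow 2 (show 2 ≤ q.n - 2 by omega)

theorem tau_quat (h : q.quat = true) : q.τ = q.N - 1 := by
  show (if q.quat then 2 ^ (q.n - 1) - 1 else 2 ^ (q.n - 2) - 1) = _
  rw [if_pos h]; rfl

theorem tau_semi (h : q.quat = false) : q.τ = q.H - 1 := by
  show (if q.quat then 2 ^ (q.n - 1) - 1 else 2 ^ (q.n - 2) - 1) = _
  rw [if_neg (by simp [h])]; rfl

theorem tau_mod_four : q.τ % 4 = 3 := by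
  have hN := q.N_eq
  have hH := q.two_le_H
  rcases hq : q.quat with _ | _
  · rw [q.tau_semi hq]
    have h4 : 4 ∣ q.H := q.four_dvd_H (q.four_le hq)
    omega
  · rw [q.tau_quat hq]
    have h2 : 2 ∣ q.H := dvd_pow_self 2 (by have := q.three_le; omega)
    omega

theorem tau_succ : ∃ k : ℕ, q.τ + 1 = q.H * k := by
  have hN := q.N_eq
  have hH := q.two_le_H
  rcases hq : q.quat with _ | _
  · exact ⟨1, by rw [q.tau_semi hq]; omega⟩
  · exact ⟨2, by rw [q.tau_quat hq]; omega⟩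

theorem tau_sq : (q.τ * q.τ) % q.N = 1 % q.N := by
  obtain ⟨k, hk⟩ := q.tau_succ
  have hN := q.N_eq
  have h2 : 2 ∣ q.H := dvd_pow_self 2 (by have := q.three_le; omega)
  obtain ⟨a, ha⟩ := h2
  have hH := q.two_le_H
  show q.τ * q.τ ≡ 1 [MOD q.N]
  refine ((Nat.modEq_iff_dvd' ?_).mpr ?_).symm
  · have := q.tau_mod_four
    exact Nat.mul_pos (by omega) (by omega)
  · -- `(τ - 1) (τ + 1)` is divisible by `N`
    have h4 := q.tau_mod_four
    obtain ⟨t, ht⟩ : ∃ t, q.τ = 2 * t + 1 := ⟨q.τ / 2, by omega⟩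
    refine ⟨k * t, ?_⟩
    have hk' : 2 * t + 1 + 1 = q.H * k := by omega
    rw [hN, ht]
    have : (2 * t + 1) * (2 * t + 1) = 2 * q.H * (k * t) + 1 := by
      calc (2 * t + 1) * (2 * t + 1) = 2 * t * (2 * t + 1 + 1) + 1 := by ring
        _ = 2 * q.H * (k * t) + 1 := by rw [hk']; ring
    omega

theorem tau_mul_H : (q.τ * q.H) % q.N = q.H % q.N := by
  have h4 := q.tau_mod_four
  obtain ⟨t, ht⟩ : ∃ t, q.τ = 2 * t + 1 := ⟨q.τ / 2, by omega⟩
  rw [ht, q.N_eq, show (2 * t + 1) * q.H = q.H + 2 * q.H * t by ring, Nat.add_mul_mod_self_left]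

/-! ### Powers of `x` and the action of `y` -/

theorem pow_eq_pow {a b : ℕ} : q.x ^ a = q.x ^ b ↔ a ≡ b [MOD q.N] := by
  rw [pow_eq_pow_iff_modEq, q.orderOf_x_eq]

theorem pow_eq_one {a : ℕ} : q.x ^ a = 1 ↔ q.N ∣ a := by
  rw [← orderOf_dvd_iff_pow_eq_one, q.orderOf_x_eq]

theorem pow_N : q.x ^ q.N = 1 := q.pow_eq_one.mpr dvd_rfl

theorem mem_zpowers_iff' {g : G} : g ∈ zpowers q.x ↔ ∃ j : ℕ, g = q.x ^ j := by
  rw [← mem_powers_iff_mem_zpowers, Submonoid.mem_powers_iff]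
  exact ⟨fun ⟨j, h⟩ => ⟨j, h.symm⟩, fun ⟨j, h⟩ => ⟨j, h.symm⟩⟩

theorem pow_mem_zpowers (j : ℕ) : q.x ^ j ∈ zpowers q.x := npow_mem_zpowers _ _

theorem zpowers_x_le : zpowers q.x ≤ P := Subgroup.zpowers_le.mpr q.x_mem

theorem pow_mul_y_not (j : ℕ) : q.x ^ j * q.y ∉ zpowers q.x := fun h => by
  have := mul_mem (inv_mem (q.pow_mem_zpowers j)) h
  rw [inv_mul_cancel_left] at this
  exact q.y_not this

theorem exists_outside {g : G} (hg : g ∈ P) (hgx : g ∉ zpowers q.x) :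
    ∃ j : ℕ, g = q.x ^ j * q.y := by
  rcases q.cover g hg with ⟨j, rfl⟩ | h
  · exact absurd (q.pow_mem_zpowers j) hgx
  · exact h

theorem y_pow (l : ℕ) : q.y * q.x ^ l * q.y⁻¹ = q.x ^ (q.τ * l) := by
  rw [← conj_pow, pow_mul]
  exact congrArg (· ^ l) q.conj_y

theorem y_mul_pow (l : ℕ) : q.y * q.x ^ l = q.x ^ (q.τ * l) * q.y :=
  mul_inv_eq_iff_eq_mul.mp (q.y_pow l)

theorem conj_outside (j l : ℕ) :
    q.x ^ j * q.y * q.x ^ l * (q.x ^ j * q.y)⁻¹ = q.x ^ (q.τ * l) := by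
  rw [mul_inv_eq_iff_eq_mul, mul_assoc, q.y_mul_pow, ← mul_assoc, ← mul_assoc, ← pow_add,
    ← pow_add, add_comm]

theorem conj_pow {g : G} (hg : g ∈ P) (l : ℕ) :
    g * q.x ^ l * g⁻¹ = q.x ^ l ∧ g ∈ Subgroup.zpowers q.x ∨
      g * q.x ^ l * g⁻¹ = q.x ^ (q.τ * l) := by
  rcases q.cover g hg with ⟨j, rfl⟩ | ⟨j, rfl⟩
  · refine Or.inl ⟨?_, q.pow_mem_zpowers j⟩
    rw [← pow_add, add_comm, pow_add, mul_inv_cancel_right]
  · exact Or.inr (q.conj_outside j l)

theorem conj_pow_outside {g : G} (hg : g ∈ P) (hgx : g ∉ zpowers q.x) (l : ℕ) :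
    g * q.x ^ l * g⁻¹ = q.x ^ (q.τ * l) := by
  obtain ⟨j, rfl⟩ := q.exists_outside hg hgx
  exact q.conj_outside j l

/-! ### The central involution -/

theorem z_mem : q.z ∈ P := pow_mem q.x_mem _

theorem z_mem_zpowers : q.z ∈ zpowers q.x := q.pow_mem_zpowers _

theorem z_ne_one : q.z ≠ 1 := fun h =>
  absurd (Nat.le_of_dvd (by have := q.two_le_H; omega) (q.pow_eq_one.mp h)) (not_le.mpr q.H_lt_N)

theorem z_sq : q.z * q.z = 1 := by
  show q.x ^ q.H * q.x ^ q.H = 1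
  rw [← pow_add, ← two_mul, ← q.N_eq, q.pow_N]

theorem orderOf_z : orderOf q.z = 2 :=
  orderOf_eq_prime (by rw [sq]; exact q.z_sq) q.z_ne_one

theorem pow_tau_H : q.x ^ (q.τ * q.H) = q.z := q.pow_eq_pow.mpr q.tau_mul_H

theorem commute_z {g : G} (hg : g ∈ P) : Commute q.z g := by
  rcases q.conj_pow hg q.H with ⟨h, -⟩ | h
  · exact (mul_inv_eq_iff_eq_mul.mp h).symm
  · rw [q.pow_tau_H] at h
    exact (mul_inv_eq_iff_eq_mul.mp h).symm

theorem pow_mul_H (k : ℕ) : q.x ^ (q.H * k) = if Even k then 1 else q.z := by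
  rw [pow_mul]
  show q.z ^ k = _
  have h2 : q.z ^ 2 = 1 := by rw [sq]; exact q.z_sq
  split_ifs with h
  · obtain ⟨i, rfl⟩ := h
    rw [← two_mul, pow_mul, h2, one_pow]
  · obtain ⟨i, rfl⟩ := Nat.not_even_iff_odd.mp h
    rw [pow_succ, pow_mul, h2, one_pow, one_mul]

theorem H_dvd_of_fixed {l : ℕ} (h : q.x ^ (q.τ * l) = q.x ^ l) : q.H ∣ l := by
  have hm := q.pow_eq_pow.mp h
  have hN := q.N_eq
  have hH := q.two_le_H
  rcases hq : q.quat with _ | _
  · rw [q.tau_semi hq] at hm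
    obtain ⟨a, ha⟩ : 4 ∣ q.H := q.four_dvd_H (q.four_le hq)
    have h1 : q.H * l ≡ 2 * l [MOD q.N] := by
      have h3 := hm.add_right l
      rwa [show (q.H - 1) * l + l = q.H * l by
        rw [← Nat.succ_mul]; congr 1; omega, ← two_mul] at h3
    -- modulo `H`
    have h2 : 2 * l ≡ 0 [MOD q.H] := by
      refine ((h1.of_dvd ⟨2, by rw [hN]; ring⟩).symm).trans ?_
      exact (Nat.modEq_zero_iff_dvd).mpr (Dvd.intro l rfl)
    obtain ⟨m, hm2⟩ : 2 * a ∣ l := by
      have := Nat.modEq_zero_iff_dvd.mp h2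
      rw [ha, show 4 * a = 2 * (2 * a) by ring] at this
      exact Nat.dvd_of_mul_dvd_mul_left two_pos this
    have h3 : q.N ∣ q.H * l := ⟨a * m, by rw [hN, hm2, ha]; ring⟩
    have h4 : q.N ∣ 2 * l := (Nat.ModEq.dvd_iff h1 dvd_rfl).mp h3
    rw [hN] at h4
    exact Nat.dvd_of_mul_dvd_mul_left two_pos h4
  · rw [q.tau_quat hq] at hm
    have h1 : q.N * l ≡ 2 * l [MOD q.N] := by
      have h3 := hm.add_right l
      rwa [show (q.N - 1) * l + l = q.N * l by
        rw [← Nat.succ_mul]; congr 1; omega, ← two_mul] at h3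
    have h4 : q.N ∣ 2 * l := (Nat.ModEq.dvd_iff h1 dvd_rfl).mp (Dvd.intro l rfl)
    rw [hN] at h4
    exact Nat.dvd_of_mul_dvd_mul_left two_pos h4

/-! ### Centralisers -/

theorem centralizer_pow {l : ℕ} (hl : l < q.N) (h0 : l ≠ 0) (hH : l ≠ q.H) :
    P ⊓ Subgroup.centralizer ({q.x ^ l} : Set G) = Subgroup.zpowers q.x := by
  refine le_antisymm ?_ (le_inf q.zpowers_x_le ?_)
  · rintro g ⟨hgP, hgc⟩
    by_contra hgx
    have h1 := q.conj_pow_outside hgP hgx l
    replace hgc := mem_centralizer_singleton_iff.mp hgc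
    rw [hgc, mul_inv_cancel_right] at h1
    obtain ⟨c, hc⟩ := q.H_dvd_of_fixed h1.symm
    have hN := q.N_eq
    rcases Nat.lt_or_ge c 2 with hc2 | hc2
    · interval_cases c <;> omega
    · have := Nat.mul_le_mul_left q.H hc2
      omega
  · intro g hg
    rw [mem_centralizer_singleton_iff]
    obtain ⟨j, rfl⟩ := q.mem_zpowers_iff'.mp hg
    rw [← pow_add, ← pow_add, add_comm]

theorem sq_outside (j : ℕ) :
    (q.x ^ j * q.y) * (q.x ^ j * q.y) = q.x ^ ((q.τ + 1) * j) * (q.y * q.y) := by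
  rw [mul_assoc (q.x ^ j), ← mul_assoc q.y, q.y_mul_pow, mul_assoc (q.x ^ (q.τ * j)), ← mul_assoc,
    ← pow_add, show j + q.τ * j = (q.τ + 1) * j by ring]

theorem sq_outside_quat (h : q.quat = true) (j : ℕ) :
    (q.x ^ j * q.y) * (q.x ^ j * q.y) = q.z := by
  rw [q.sq_outside, q.tau_quat h, q.y_sq, if_pos h, Nat.sub_add_cancel q.N_pos, pow_mul, q.pow_N,
    one_pow, one_mul]
  rfl

theorem sq_outside_semi (h : q.quat = false) (j : ℕ) :
    (q.x ^ j * q.y) * (q.x ^ j * q.y) = if Even j then 1 else q.z := by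
  have hH := q.two_le_H
  rw [q.sq_outside, q.tau_semi h, q.y_sq, if_neg (by simp [h]), mul_one,
    Nat.sub_add_cancel (by omega), q.pow_mul_H]

theorem pow_four_of_notMem {g : G} (hg : g ∈ P) (hgx : g ∉ Subgroup.zpowers q.x) : g ^ 4 = 1 := by
  obtain ⟨j, rfl⟩ := q.exists_outside hg hgx
  rw [show 4 = 2 * 2 from rfl, pow_mul, sq, sq]
  rcases hq : q.quat with _ | _
  · rw [q.sq_outside_semi hq]
    split_ifs <;> simp [q.z_sq]
  · rw [q.sq_outside_quat hq, q.z_sq]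

theorem mul_inv_mem_zpowers {g h : G} (hg : g ∈ P) (hgx : g ∉ zpowers q.x) (hh : h ∈ P)
    (hhx : h ∉ zpowers q.x) : h * g⁻¹ ∈ zpowers q.x := by
  obtain ⟨j, rfl⟩ := q.exists_outside hg hgx
  obtain ⟨l, rfl⟩ := q.exists_outside hh hhx
  rw [mul_inv_rev, mul_assoc, ← mul_assoc q.y, mul_inv_cancel, one_mul]
  exact mul_mem (q.pow_mem_zpowers l) (inv_mem (q.pow_mem_zpowers j))

theorem mem_centralizer_cases {g : G} (hg : g ∈ P) (hgx : g ∉ zpowers q.x) {h : G}
    (hh : h ∈ P ⊓ Subgroup.centralizer ({g} : Set G)) :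
    h = 1 ∨ h = q.z ∨ h = g ∨ h = q.z * g := by
  obtain ⟨hhP, hhc⟩ := hh
  replace hhc := mem_centralizer_singleton_iff.mp hhc
  have key : ∀ k ∈ zpowers q.x, k * g = g * k → k = 1 ∨ k = q.z := by
    intro k hk hkg
    obtain ⟨l, rfl⟩ := q.mem_zpowers_iff'.mp hk
    have h1 := q.conj_pow_outside hg hgx l
    rw [← hkg, mul_inv_cancel_right] at h1
    obtain ⟨c, hc⟩ := q.H_dvd_of_fixed h1.symm
    rw [hc, q.pow_mul_H]
    split_ifs
    · exact Or.inl rfl
    · exact Or.inr rfl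
  by_cases hhx : h ∈ zpowers q.x
  · rcases key h hhx hhc with h1 | h1
    · exact Or.inl h1
    · exact Or.inr (Or.inl h1)
  · have hc : (h * g⁻¹) * g = g * (h * g⁻¹) := by
      rw [inv_mul_cancel_right, ← mul_assoc, ← hhc, mul_inv_cancel_right]
    rcases key _ (q.mul_inv_mem_zpowers hg hgx hhP hhx) hc with h1 | h1
    · exact Or.inr (Or.inr (Or.inl (mul_inv_eq_one.mp h1)))
    · exact Or.inr (Or.inr (Or.inr (mul_inv_eq_iff_eq_mul.mp h1)))

theorem card_centralizer_of_notMem {g : G} (hg : g ∈ P) (hgx : g ∉ Subgroup.zpowers q.x) :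
    Nat.card (P ⊓ Subgroup.centralizer ({g} : Set G) : Subgroup G) = 4 := by
  classical
  have hzg : q.z * g ∉ zpowers q.x := fun h =>
    hgx (by simpa using mul_mem (inv_mem q.z_mem_zpowers) h)
  have heq : ((P ⊓ Subgroup.centralizer ({g} : Set G) : Subgroup G) : Set G) =
      ↑({1, q.z, g, q.z * g} : Finset G) := by
    ext h
    simp only [SetLike.mem_coe, Finset.coe_insert, Finset.coe_singleton, Set.mem_insert_iff,
      Set.mem_singleton_iff]
    refine ⟨q.mem_centralizer_cases hg hgx, ?_⟩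
    rintro (rfl | rfl | rfl | rfl)
    · exact one_mem _
    · exact ⟨q.z_mem, mem_centralizer_singleton_iff.mpr (q.commute_z hg)⟩
    · exact ⟨hg, mem_centralizer_singleton_iff.mpr rfl⟩
    · exact mul_mem (show q.z ∈ _ from ⟨q.z_mem, mem_centralizer_singleton_iff.mpr (q.commute_z hg)⟩)
        ⟨hg, mem_centralizer_singleton_iff.mpr rfl⟩
  rw [← SetLike.coe_sort_coe, heq, Nat.card_coe_set_eq, Set.ncard_coe_finset]
  have e1 : (1 : G) ≠ q.z := q.z_ne_one.symm
  have e2 : (1 : G) ≠ g := fun h => hgx (h ▸ one_mem _)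
  have e3 : (1 : G) ≠ q.z * g := fun h => hzg (h ▸ one_mem _)
  have e4 : q.z ≠ g := fun h => hgx (h ▸ q.z_mem_zpowers)
  have e5 : q.z ≠ q.z * g := fun h => e2 (mul_left_cancel (a := q.z) (by rwa [mul_one]))
  have e6 : g ≠ q.z * g := fun h => q.z_ne_one (mul_right_cancel (b := g) (by rw [one_mul]; exact h.symm))
  simp [e1, e2, e3, e4, e5, e6]

theorem centralizer_comm_of_notMem {g : G} (hg : g ∈ P) (hgx : g ∉ Subgroup.zpowers q.x) :
    ∀ a ∈ P ⊓ Subgroup.centralizer ({g} : Set G),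
      ∀ b ∈ P ⊓ Subgroup.centralizer ({g} : Set G), a * b = b * a := by
  intro a ha b hb
  have hb' : b * g = g * b := mem_centralizer_singleton_iff.mp hb.2
  rcases q.mem_centralizer_cases hg hgx ha with rfl | rfl | rfl | rfl
  · simp
  · exact q.commute_z hb.1
  · exact hb'.symm
  · exact Commute.mul_left (q.commute_z hb.1) (Commute.symm hb')

theorem outside_classes {g : G} (hg : g ∈ P) (hgx : g ∉ Subgroup.zpowers q.x) :
    ∃ c ∈ P, c * g * c⁻¹ = q.y ∨ c * g * c⁻¹ = q.x * q.y := by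
  obtain ⟨j₀, rfl⟩ := q.exists_outside hg hgx
  have hj0 : q.x ^ j₀ = q.x ^ (j₀ % q.N) := q.pow_eq_pow.mpr (Nat.mod_modEq _ _).symm
  rw [hj0]
  set j := j₀ % q.N
  have hj : j < q.N := Nat.mod_lt _ q.N_pos
  have hN := q.N_eq
  have hH := q.two_le_H
  obtain ⟨i, e, he, hje⟩ : ∃ i e, e < 2 ∧ j = 2 * i + e := ⟨j / 2, j % 2, by omega, by omega⟩
  suffices hs : ∃ c : ℕ, c + j ≡ e + q.τ * c [MOD q.N] by
    obtain ⟨c, hc⟩ := hs
    refine ⟨q.x ^ c, pow_mem q.x_mem _, ?_⟩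
    have h1 : q.x ^ c * (q.x ^ j * q.y) * (q.x ^ c)⁻¹ = q.x ^ e * q.y := by
      rw [mul_inv_eq_iff_eq_mul, mul_assoc (q.x ^ e), q.y_mul_pow, ← mul_assoc, ← mul_assoc,
        ← pow_add, ← pow_add, q.pow_eq_pow.mpr hc]
    rw [h1]
    interval_cases e
    · left; rw [pow_zero, one_mul]
    · right; rw [pow_one]
  rcases hq : q.quat with _ | _
  · rw [q.tau_semi hq]
    obtain ⟨a, ha⟩ : 4 ∣ q.H := q.four_dvd_H (q.four_le hq)
    obtain ⟨c, k, k', hck⟩ : ∃ c k k', c + j + c + q.N * k = e + q.H * c + q.N * k' := by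
      rcases Nat.even_or_odd i with ⟨b, rfl⟩ | ⟨b, rfl⟩
      · refine ⟨q.H - (b + b), 2 * a - b, 1, ?_⟩
        have h1 : q.H * (q.H - (b + b)) = q.N * (2 * a - b) := by
          rw [hN, show q.H - (b + b) = 2 * (2 * a - b) by omega]; ring
        omega
      · refine ⟨2 * a + q.H - (2 * b + 1), 3 * a - b - 1, 1, ?_⟩
        have h1 : q.H * (2 * a + q.H - (2 * b + 1)) = q.N * (3 * a - b - 1) + q.H := by
          rw [hN, show 2 * a + q.H - (2 * b + 1) = 2 * (3 * a - b - 1) + 1 by omega]; ring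
        omega
    refine ⟨c, Nat.ModEq.add_right_cancel' c ?_⟩
    rw [add_assoc e, show (q.H - 1) * c + c = q.H * c by rw [← Nat.succ_mul]; congr 1; omega]
    have h1 : c + j + c ≡ c + j + c + q.N * k [MOD q.N] := by
      simp [Nat.ModEq]
    refine h1.trans (hck ▸ ?_)
    simp [Nat.ModEq]
  · rw [q.tau_quat hq]
    refine ⟨q.H - i, Nat.ModEq.add_right_cancel' (q.H - i) ?_⟩
    rw [add_assoc e, show (q.N - 1) * (q.H - i) + (q.H - i) = q.N * (q.H - i) by
      rw [← Nat.succ_mul]; congr 1; omega]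
    have h1 : q.H - i + j + (q.H - i) = e + q.N * 1 := by omega
    rw [h1]
    simp [Nat.ModEq]

/-! ### The quotient by the centre -/

theorem quotient_dihedral (_h4 : 4 ≤ q.n) [(Subgroup.zpowers q.z).Normal] :
    Nonempty (P.map (QuotientGroup.mk' (Subgroup.zpowers q.z)) ≃* DihedralGroup (2 ^ (q.n - 2))) := by
  set f := QuotientGroup.mk' (zpowers q.z) with hf
  have hker : ∀ k : ℕ, f (q.x ^ k) = 1 ↔ q.H ∣ k := by
    intro k
    rw [hf, QuotientGroup.mk'_apply, QuotientGroup.eq_one_iff]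
    constructor
    · intro h
      obtain ⟨i, hi⟩ := (Submonoid.mem_powers_iff _ _).mp (mem_powers_iff_mem_zpowers.mpr h)
      have h1 : q.x ^ (q.H * i) = q.x ^ k := by rw [pow_mul]; exact hi
      have h2 := (q.pow_eq_pow.mp h1).of_dvd ⟨2, by rw [q.N_eq]; ring⟩
      exact (Nat.ModEq.dvd_iff h2 dvd_rfl).mp (Dvd.intro i rfl)
    · rintro ⟨i, rfl⟩
      rw [pow_mul]
      exact npow_mem_zpowers _ _
  set X : P.map f := ⟨f q.x, mem_map_of_mem f q.x_mem⟩
  set S : P.map f := ⟨f q.y, mem_map_of_mem f q.y_mem⟩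
  refine CfsgLib.Classical.nonempty_mulEquiv_dihedralGroup (x := X) (s := S) (n := q.H)
    (by have := q.two_le_H; omega) ?_ ?_ ?_ ?_ ?_
  · rw [← Subgroup.orderOf_coe, orderOf_eq_iff (by have := q.two_le_H; omega)]
    refine ⟨by show f q.x ^ q.H = 1; rw [← map_pow, hker], fun m hm hm0 h => ?_⟩
    have h' : f (q.x ^ m) = 1 := by rw [map_pow]; exact h
    exact absurd (Nat.le_of_dvd hm0 ((hker m).mp h')) (not_le.mpr hm)
  · refine Subtype.ext ?_
    show f q.y * f q.y = 1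
    rw [← map_mul, q.y_sq]
    split_ifs
    · exact (hker _).mpr dvd_rfl
    · exact map_one f
  · refine Subtype.ext ?_
    show f q.y * f q.x * (f q.y)⁻¹ = (f q.x)⁻¹
    rw [← map_inv f q.y, ← map_mul, ← map_mul, eq_inv_iff_mul_eq_one, ← map_mul]
    have h1 := q.y_pow 1
    rw [pow_one, mul_one] at h1
    rw [h1, ← pow_succ, hker]
    obtain ⟨k, hk⟩ := q.tau_succ
    exact ⟨k, hk⟩
  · intro h
    obtain ⟨i, hi⟩ := (Submonoid.mem_powers_iff _ _).mp (mem_powers_iff_mem_zpowers.mpr h)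
    have h1 : f q.x ^ i = f q.y := congrArg Subtype.val hi
    rw [← map_pow] at h1
    have h2 : (q.x ^ i)⁻¹ * q.y ∈ zpowers q.z := by
      rw [hf, QuotientGroup.mk'_apply, QuotientGroup.mk'_apply] at h1
      exact QuotientGroup.eq.mp h1
    have hzx : zpowers q.z ≤ zpowers q.x := Subgroup.zpowers_le.mpr q.z_mem_zpowers
    have h3 : (q.x ^ i)⁻¹ * q.y ∈ zpowers q.x := hzx h2
    exact q.y_not (by simpa using mul_mem (q.pow_mem_zpowers i) h3)
  · have h1 : f.ker.relIndex P = Nat.card (P.map f) := by rw [Subgroup.relIndex_ker]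
    rw [← h1, hf, QuotientGroup.ker_mk']
    have h2 : Nat.card (zpowers q.z) * (zpowers q.z).relIndex P = Nat.card P := by
      rw [← relIndex_bot_left, ← relIndex_bot_left,
        relIndex_mul_relIndex _ _ _ bot_le (Subgroup.zpowers_le.mpr q.z_mem)]
    rw [Nat.card_zpowers, q.orderOf_z, q.card_eq', q.N_eq] at h2
    omega

/-! ### Existence of generators -/

theorem exists_quaternion {n : ℕ} (hn : 3 ≤ n)
    (h : Nonempty (P ≃* QuaternionGroup (2 ^ (n - 2)))) : ∃ q : SQP P, q.n = n ∧ q.quat = true := by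
  obtain ⟨e⟩ := h
  set m := 2 ^ (n - 2) with hm
  haveI : NeZero m := ⟨(Nat.two_pow_pos _).ne'⟩
  set ι := P.subtype.comp e.symm.toMonoidHom with hι
  have hinj : Function.Injective ι := P.subtype_injective.comp e.symm.injective
  have hm2 : 2 * m = 2 ^ (n - 1) := by
    rw [hm, ← pow_succ']; congr 1; omega
  have hpow : ∀ k : ℕ, (QuaternionGroup.a 1 : QuaternionGroup m) ^ k = QuaternionGroup.a k :=
    QuaternionGroup.a_one_pow
  refine ⟨{ n := n, quat := true, x := ι (.a 1), y := ι (.xa 0), three_le := hn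
            four_le := (by simp), card_eq := ?_, x_mem := SetLike.coe_mem _
            y_mem := SetLike.coe_mem _, orderOf_x := ?_, conj_y := ?_, y_sq := ?_
            y_not := ?_, cover := ?_ }, rfl, rfl⟩
  · rw [Nat.card_congr e.toEquiv, Nat.card_eq_fintype_card, QuaternionGroup.card,
      show 4 * m = 2 * (2 * m) by ring, hm2, ← pow_succ']
    congr 1; omega
  · rw [orderOf_injective ι hinj, QuaternionGroup.orderOf_a_one, hm2]
  · rw [if_pos rfl, ← map_inv, ← map_mul, ← map_mul, ← map_pow, hpow, ← hm2]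
    congr 1
    rw [mul_inv_eq_iff_eq_mul, QuaternionGroup.xa_mul_a, QuaternionGroup.a_mul_xa,
      Nat.cast_sub (by have := Nat.two_pow_pos (n - 2); omega)]
    simp
  · rw [if_pos rfl, ← map_mul, ← map_pow, hpow]
    congr 1
    rw [QuaternionGroup.xa_mul_xa]
    simp [hm]
  · intro hy
    obtain ⟨k, hk⟩ := (Submonoid.mem_powers_iff _ _).mp (mem_powers_iff_mem_zpowers.mpr hy)
    rw [← map_pow, hpow] at hk
    cases hinj hk
  · intro g hg
    obtain ⟨a, ha⟩ := e.symm.surjective ⟨g, hg⟩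
    have hga : g = ι a := (congrArg Subtype.val ha).symm
    rcases a with i | i
    · refine Or.inl ⟨i.val, ?_⟩
      rw [hga, ← map_pow, hpow, ZMod.natCast_zmod_val]
    · refine Or.inr ⟨(-i).val, ?_⟩
      rw [hga, ← map_pow, ← map_mul, hpow, ZMod.natCast_zmod_val, QuaternionGroup.a_mul_xa]
      simp

theorem exists_semidihedral {n : ℕ} (hn : 4 ≤ n) (hcard : Nat.card P = 2 ^ n)
    (h : Cfsg.IsQuasiDihedral P) : ∃ q : SQP P, q.n = n ∧ q.quat = false := by
  obtain ⟨m, hm, hc, x, y, hx, hy, hxy⟩ := h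
  have hmn : n = m + 1 := Nat.pow_right_injective le_rfl (hcard.symm.trans hc)
  have hy2 : y * y = 1 := by rw [← sq, ← hy]; exact pow_orderOf_eq_one y
  have hynot : y ∉ zpowers x := by
    intro h1
    obtain ⟨k, hk⟩ := (Submonoid.mem_powers_iff _ _).mp (mem_powers_iff_mem_zpowers.mpr h1)
    have h2 : y * x * y⁻¹ = x := by
      rw [mul_inv_eq_iff_eq_mul, ← hk, ← pow_succ, ← pow_succ']
    rw [h2] at hxy
    have h3 : x ^ 1 = x ^ (2 ^ (m - 1) - 1) := by rw [pow_one]; exact hxy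
    have h4 : 4 ≤ 2 ^ (m - 1) := Nat.pow_le_pow_right two_pos (show 2 ≤ m - 1 by omega)
    have h5 : 2 ^ (m - 1) < 2 ^ m := Nat.pow_lt_pow_right one_lt_two (by omega)
    rw [pow_eq_pow_iff_modEq, hx, Nat.ModEq, Nat.mod_eq_of_lt (by omega),
      Nat.mod_eq_of_lt (by omega)] at h3
    omega
  have hidx : (zpowers x).index = 2 := by
    have h1 := card_mul_index (zpowers x)
    rw [Nat.card_zpowers, hx, hc, pow_succ] at h1
    exact Nat.eq_of_mul_eq_mul_left (Nat.two_pow_pos m) h1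
  refine ⟨{ n := n, quat := false, x := x, y := y, three_le := by omega
            four_le := fun _ => hn, card_eq := hcard, x_mem := x.2
            y_mem := y.2, orderOf_x := ?_, conj_y := ?_, y_sq := ?_
            y_not := ?_, cover := ?_ }, rfl, rfl⟩
  · rw [Subgroup.orderOf_coe, hx, hmn]; rfl
  · rw [if_neg (by simp)]
    have h1 := congrArg Subtype.val hxy
    simp only [Subgroup.coe_mul, Subgroup.coe_inv, SubmonoidClass.coe_pow] at h1
    rw [h1, hmn]; rfl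
  · rw [if_neg (by simp)]
    exact congrArg Subtype.val hy2
  · intro h1
    refine hynot ?_
    obtain ⟨k, hk⟩ := h1
    exact ⟨k, Subtype.ext (by simpa using hk)⟩
  · intro g hg
    by_cases h1 : (⟨g, hg⟩ : P) ∈ zpowers x
    · obtain ⟨k, hk⟩ := (Submonoid.mem_powers_iff _ _).mp (mem_powers_iff_mem_zpowers.mpr h1)
      exact Or.inl ⟨k, (congrArg Subtype.val hk).symm⟩
    · have h2 : (⟨g, hg⟩ : P) * y ∈ zpowers x :=
        (Subgroup.mul_mem_iff_of_index_two hidx).mpr ⟨fun h => absurd h h1, fun h => absurd h hynot⟩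
      obtain ⟨k, hk⟩ := (Submonoid.mem_powers_iff _ _).mp (mem_powers_iff_mem_zpowers.mpr h2)
      refine Or.inr ⟨k, ?_⟩
      have h3 : x ^ k * y = (⟨g, hg⟩ : P) := by rw [hk, mul_assoc, hy2, mul_one]
      exact (congrArg Subtype.val h3).symm

end CfsgLib.Blocks.SQP
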