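import Cfsg.Agent.Lib.Blocks.SQ.Transfer

/-!
# Blocks with generalised quaternion or semidihedral defect groups: the invariants
-/

set_option autoImplicit false
set_option linter.unusedSectionVars false
set_option linter.style.haveILetI false

namespace CfsgLib.Blocks

open Cfsg Chars BlockOrth Finset
open scoped ComplexConjugate

universe u

variable {G : Type u} [Group G] [Fintype G] {M : Ideal AlgInt} [M.IsPrime] [Fact (Nat.Prime 2)]
  {B : Set (IrrCharacter G)} {P : Subgroup G}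
  {e : Set (IrrCharacter (Subgroup.centralizer (P : Set G)))}

/-- **Brauer, Olsson**: the invariants of a block whose defect group is generalised quaternion or
semidihedral. -/
theorem sq_invariants (hM : IsPModular 2 M) (hmax : IsMaximalBrauerPair 2 M B P e) (q : SQP P) :
    1 ≤ blockRank 2 B ∧ blockRank 2 B ≤ 3 ∧
    (q.quat = true → Nat.card B = blockRank 2 B + q.H + 2) ∧
    (q.quat = false → (Nat.card B = q.H + 3 ∨ Nat.card B = q.H + 4) ∧
      (blockRank 2 B = 3 → Nat.card B = q.H + 4) ∧ (blockRank 2 B = 1 → Nat.card B = q.H + 3)) ∧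
    Nat.card {χ : IrrCharacter G // χ ∈ B ∧ blockHeight 2 B (χ : G → ℂ) = 0} = 4 ∧
    (∀ χ ∈ B, blockHeight 2 B (χ : G → ℂ) = 0 ∨ blockHeight 2 B (χ : G → ℂ) = 1 ∨
      blockHeight 2 B (χ : G → ℂ) = q.n - 2) ∧
    (4 ≤ q.n → Nat.card {χ : IrrCharacter G // χ ∈ B ∧ blockHeight 2 B (χ : G → ℂ) = 1} =
      q.H - 1) := by
  classical
  haveI := irrFintype G
  haveI := fun S : Subgroup G => Fintype.ofFinite S
  haveI := fun S : Subgroup G => irrFintype S
  have hpM : ((2 : ℕ) : AlgInt) ∈ M := hM.2.2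
  have hB : IsPBlock M B := hmax.1.2.1
  set s := univ.filter (· ∈ B) with hs_def
  have hs : ∀ χ, χ ∈ s ↔ χ ∈ B := fun χ => by simp [hs_def]
  have hcardB : Nat.card B = s.card := by
    rw [hs_def, ← Fintype.card_subtype, ← Nat.card_eq_fintype_card]
  have hcount : ∀ j, Nat.card {χ : IrrCharacter G // χ ∈ B ∧ blockHeight 2 B (χ : G → ℂ) = j} =
      (s.filter fun χ : IrrCharacter G => blockHeight 2 B (χ : G → ℂ) = j).card := fun j => by
    rw [Nat.card_eq_fintype_card, Fintype.card_subtype, hs_def, Finset.filter_filter]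
  obtain ⟨bz, hbz⟩ := exists_pairBelow_eq (M := M) (p := 2) (⟨P, e⟩ : BrauerPairIdx G) q.z
  have hbzB : IsBrauerPairOf 2 M B (Subgroup.zpowers q.z) bz :=
    (isBrauerPairOf_iff_of_below hpM
      (hbz ▸ pairBelow_below (c := (⟨P, e⟩ : BrauerPairIdx G)) hpM hmax.1.1 q.z_mem) B).2 hmax.1
  obtain ⟨d⟩ := exists_sqData hM hmax q hbz s hs
  obtain ⟨hTq, hTs⟩ := outCount_add_rank hM hmax q hbz
  have hl1 : 1 ≤ blockRank 2 B := one_le_blockRank (M := M) hB
  have hlz1 : 1 ≤ blockRank 2 bz := one_le_blockRank (M := M) hbzB.1.2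
  have hH2 := q.two_le_H
  set l := blockRank 2 B with hl_def
  set lz := blockRank 2 bz with hlz_def
  set o := outCount M e q with ho_def
  set R := d.cols.rows with hR_def
  set W := s.filter fun χ => R.w χ ≠ 0 with hW_def
  set Y := s.filter fun χ => R.w χ = 0 ∧ (χ ∈ R.Ev ∨ χ ∈ R.Od) with hY_def
  set X := s.filter fun χ => R.w χ = 0 ∧ χ ∉ R.Ev ∧ χ ∉ R.Od with hX_def
  have hW4 : W.card = 4 := R.w_card
  have hpart : ∀ g : IrrCharacter G → ℤ,
      ∑ χ ∈ s, g χ = ∑ χ ∈ W, g χ + (∑ χ ∈ Y, g χ + ∑ χ ∈ X, g χ) := fun g => by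
    rw [← Finset.sum_filter_add_sum_filter_not s (fun χ => R.w χ ≠ 0),
      ← Finset.sum_filter_add_sum_filter_not (s.filter fun χ => ¬ R.w χ ≠ 0)
        (fun χ => χ ∈ R.Ev ∨ χ ∈ R.Od), hY_def, hX_def, hW_def]
    congr 2 <;> refine Finset.sum_congr ?_ (fun _ _ => rfl) <;> ext χ <;>
      simp only [mem_filter, not_not, not_or, and_assoc]
  have hcards : s.card = 4 + Y.card + X.card := by
    have h := hpart fun _ => 1
    simp only [Finset.sum_const, nsmul_eq_mul, mul_one, hW4] at h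
    have h' : (s.card : ℤ) = 4 + (Y.card + X.card) := h
    omega
  have hX : ∀ χ ∈ X, d.A χ χ = 2 * q.H ∧ d.C χ χ = 2 * q.H ∧
      blockHeight 2 B (χ : G → ℂ) = q.n - 2 ∧
      ∀ ψ ∈ s, R.w ψ ≠ 0 → (q.H : ℤ) ≤ |d.A χ ψ| ∧ d.C χ ψ = -d.A χ ψ := fun χ hχ => by
    obtain ⟨h1, h2, h3, h4⟩ := mem_filter.1 hχ
    exact d.vanish χ h1 h2 h3 h4
  have hY : ∀ χ ∈ Y, 4 ≤ d.A χ χ ∧ 4 ≤ d.C χ χ ∧
      (d.A χ χ + d.C χ χ = 8 → blockHeight 2 B (χ : G → ℂ) = 1) := fun χ hχ => by
    obtain ⟨h1, h2, -⟩ := mem_filter.1 hχ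
    obtain ⟨hpA, hpC⟩ := d.pos χ h1
    obtain ⟨hdA, hdC⟩ := d.dvd χ h1 h2
    have hpos : blockHeight 2 B (χ : G → ℂ) ≠ 0 := fun h0 => (d.height_zero χ h1).1 h0 h2
    have h4 : ∀ {a : ℤ}, 1 ≤ a → (2 : ℤ) ^ (blockHeight 2 B (χ : G → ℂ) + 1) ∣ a → 4 ≤ a :=
      fun {a} ha hd => by
        have h5 : (2 : ℤ) ^ 2 ∣ a := (pow_dvd_pow 2 (by omega)).trans hd
        exact Int.le_of_dvd (by omega) (by simpa using h5)
    have hA4 := h4 hpA hdA
    have hC4 := h4 hpC hdC
    refine ⟨hA4, hC4, fun hsum => ?_⟩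
    have hA : d.A χ χ = 4 := by omega
    rw [hA] at hdA
    by_contra hne
    have h8 : (2 : ℤ) ^ 3 ∣ 4 := (pow_dvd_pow 2 (by omega)).trans hdA
    norm_num at h8
  -- the bound from Bessel's inequality
  have hbess : ∀ p ∈ W, (q.H : ℤ) * X.card ≤ d.A p p + d.C p p := by
    intro p hp
    obtain ⟨hps, hpw⟩ := mem_filter.1 hp
    have h1 := d.bessel p hps X (Finset.filter_subset _ _)
    have h2 : (4 * q.H * q.H : ℤ) * X.card ≤ ∑ ψ ∈ X, (d.A p ψ - d.C p ψ) ^ 2 := by
      rw [mul_comm, ← nsmul_eq_mul, ← Finset.sum_const]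
      refine Finset.sum_le_sum fun ψ hψ => ?_
      obtain ⟨-, -, -, h4⟩ := hX ψ hψ
      obtain ⟨h5, h6⟩ := h4 p hps hpw
      rw [(d.symm p ψ).1, (d.symm p ψ).2, h6, sub_neg_eq_add]
      have h7 := mul_self_le_mul_self (by positivity : (0 : ℤ) ≤ q.H) h5
      rw [abs_mul_abs_self] at h7
      nlinarith
    have hH0 : (0 : ℤ) < 4 * q.H := by omega
    refine le_of_mul_le_mul_left ?_ hH0
    rw [← mul_assoc]
    exact h2.trans h1
  have hii : 2 * X.card * q.H + 2 * Y.card ≤ q.H * (l + lz) := by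
    have hA := d.traceA
    have hC := d.traceC
    rw [hpart] at hA hC
    have hWs : (4 : ℤ) * (q.H * X.card) ≤ ∑ p ∈ W, (d.A p p + d.C p p) := by
      calc (4 : ℤ) * (q.H * X.card) = ∑ p ∈ W, (q.H : ℤ) * X.card := by
            rw [Finset.sum_const, hW4, nsmul_eq_mul]; rfl
        _ ≤ _ := Finset.sum_le_sum hbess
    have hYA : (4 : ℤ) * Y.card ≤ ∑ χ ∈ Y, d.A χ χ := by
      rw [mul_comm, ← nsmul_eq_mul, ← Finset.sum_const]
      exact Finset.sum_le_sum fun χ hχ => (hY χ hχ).1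
    have hYC : (4 : ℤ) * Y.card ≤ ∑ χ ∈ Y, d.C χ χ := by
      rw [mul_comm, ← nsmul_eq_mul, ← Finset.sum_const]
      exact Finset.sum_le_sum fun χ hχ => (hY χ hχ).2.1
    have hXA : ∑ χ ∈ X, d.A χ χ = X.card * (2 * q.H : ℤ) := by
      rw [← nsmul_eq_mul, ← Finset.sum_const]
      exact Finset.sum_congr rfl fun χ hχ => (hX χ hχ).1
    have hXC : ∑ χ ∈ X, d.C χ χ = X.card * (2 * q.H : ℤ) := by
      rw [← nsmul_eq_mul, ← Finset.sum_const]
      exact Finset.sum_congr rfl fun χ hχ => (hX χ hχ).2.1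
    rw [Finset.sum_add_distrib] at hWs
    rw [hl_def.symm] at hA
    rw [hlz_def.symm] at hC
    have : ((2 * X.card * q.H + 2 * Y.card : ℕ) : ℤ) ≤ ((q.H * (l + lz) : ℕ) : ℤ) := by
      push_cast
      linarith
    exact_mod_cast this
  -- a small diagonal entry and its row
  have hsmall : ∀ (a : IrrCharacter G → IrrCharacter G → ℤ) (r : ℕ),
      (∑ χ ∈ s, a χ χ = 4 * q.H * r) → (∀ χ ∈ s, ∑ ψ ∈ s, a χ ψ ^ 2 = 4 * q.H * a χ χ) →
      (∀ χ ∈ Y, 4 ≤ a χ χ) → (∀ χ ∈ X, a χ χ = 2 * q.H) →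
      (∀ p ∈ W, ∀ ψ ∈ X, (q.H : ℤ) ≤ |a p ψ|) →
      ∃ a0 : ℤ, 4 * a0 + 4 * Y.card + 2 * q.H * X.card ≤ 4 * q.H * r ∧
        (q.H : ℤ) * q.H * X.card + a0 * a0 ≤ 4 * q.H * a0 := by
    intro a r htr hrow hYa hXa hlarge
    obtain ⟨p, hp, hmin⟩ := Finset.exists_min_image W (fun χ => a χ χ)
      (Finset.card_pos.1 (by omega))
    refine ⟨a p p, ?_, ?_⟩
    · have h1 : (W.card : ℤ) * a p p ≤ ∑ χ ∈ W, a χ χ := by
        rw [← nsmul_eq_mul, ← Finset.sum_const]
        exact Finset.sum_le_sum fun χ hχ => hmin χ hχ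
      have h2 : (Y.card : ℤ) * 4 ≤ ∑ χ ∈ Y, a χ χ := by
        rw [← nsmul_eq_mul, ← Finset.sum_const]
        exact Finset.sum_le_sum hYa
      have h3 : ∑ χ ∈ X, a χ χ = X.card * (2 * q.H : ℤ) := by
        rw [← nsmul_eq_mul, ← Finset.sum_const]
        exact Finset.sum_congr rfl hXa
      rw [hpart] at htr
      rw [hW4] at h1
      push_cast at h1
      linarith
    · obtain ⟨hps, hpw⟩ := mem_filter.1 hp
      have hpX : p ∉ X := fun h => hpw (mem_filter.1 h).2.1
      rw [← hrow p hps]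
      refine le_trans ?_ (Finset.sum_le_sum_of_subset_of_nonneg
        (show insert p X ⊆ s from Finset.insert_subset hps (Finset.filter_subset _ _))
        fun _ _ _ => sq_nonneg _)
      rw [Finset.sum_insert hpX, add_comm, sq]
      refine add_le_add le_rfl ?_
      rw [mul_comm, ← nsmul_eq_mul, ← Finset.sum_const]
      refine Finset.sum_le_sum fun ψ hψ => ?_
      have h7 := mul_self_le_mul_self (by positivity : (0 : ℤ) ≤ q.H) (hlarge p hp ψ hψ)
      rwa [abs_mul_abs_self, ← sq (a p ψ)] at h7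
  have hlargeA : ∀ p ∈ W, ∀ ψ ∈ X, (q.H : ℤ) ≤ |d.A p ψ| := fun p hp ψ hψ => by
    rw [(d.symm p ψ).1]
    exact ((hX ψ hψ).2.2.2 p (mem_filter.1 hp).1 (mem_filter.1 hp).2).1
  have hlargeC : ∀ p ∈ W, ∀ ψ ∈ X, (q.H : ℤ) ≤ |d.C p ψ| := fun p hp ψ hψ => by
    obtain ⟨h1, h2⟩ := (hX ψ hψ).2.2.2 p (mem_filter.1 hp).1 (mem_filter.1 hp).2
    rwa [(d.symm p ψ).2, h2, abs_neg]
  obtain ⟨a0, ha0, ha0'⟩ := hsmall d.A l d.traceA d.rowA (fun χ hχ => (hY χ hχ).1)
    (fun χ hχ => (hX χ hχ).1) hlargeA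
  obtain ⟨c0, hc0, hc0'⟩ := hsmall d.C lz d.traceC d.rowC (fun χ hχ => (hY χ hχ).2.1)
    (fun χ hχ => (hX χ hχ).2.1) hlargeC
  have hk := d.card_eq
  rw [hcardB, hcards] at hk
  -- the number of characters of height one
  have hshape : (q.H = 2 ∧ Y.card = 0) ∨ (4 ≤ q.H ∧ Y.card + 3 ≤ q.H) ∨
      (4 ≤ q.H ∧ Y.card + 1 = q.H ∧
        ∀ χ ∈ Y, blockHeight 2 B (χ : G → ℂ) = 1) := by
    have hYsub : Y ⊆ R.Ev ∪ R.Od := fun χ hχ => mem_union.2 (mem_filter.1 hχ).2.2
    rcases R.shape with ⟨h2, hE, hO⟩ | ⟨h4, hO2, hev⟩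
    · refine Or.inl ⟨h2, Nat.le_zero.1 ((Finset.card_le_card hYsub).trans ?_)⟩
      rw [hE, hO]
      simp
    · change 4 ≤ q.H at h4
      change R.Od.card * 2 = q.H at hO2
      rcases hev with ⟨hE2, hnorm⟩ | ⟨h8, hE1⟩
      · change R.Ev.card * 2 + 2 = q.H at hE2
        by_cases hall : ∀ χ ∈ R.Od, R.w χ = 0
        · have hval : ∀ χ ∈ R.Ev, χ ∉ R.Od := by
            intro χ hχ hχ'
            obtain ⟨hχs, hw⟩ := R.Ev_sub χ hχ
            have h1 := d.diag χ hχs hw
            rw [hnorm χ hχ, if_pos hχ', show ((8 * q.setup.H : ℕ) : ℂ) = ((8 * q.H : ℕ) : ℂ) from rfl]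
              at h1
            have h2 : d.A χ χ + d.C χ χ = 16 - 4 * (q.H : ℤ) := by
              apply Int.cast_injective (α := ℂ)
              push_cast at h1 ⊢
              linear_combination h1
            have hχY : χ ∈ Y := mem_filter.2 ⟨hχs, hw, Or.inl hχ⟩
            obtain ⟨h5, h6, -⟩ := hY χ hχY
            omega
          have hYeq : Y = R.Ev ∪ R.Od := by
            refine Finset.Subset.antisymm hYsub fun χ hχ => ?_
            rcases mem_union.1 hχ with h | h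
            · exact mem_filter.2 ⟨(R.Ev_sub χ h).1, (R.Ev_sub χ h).2, Or.inl h⟩
            · exact mem_filter.2 ⟨R.Od_sub h, hall χ h, Or.inr h⟩
          refine Or.inr (Or.inr ⟨h4, ?_, fun χ hχ => ?_⟩)
          · rw [hYeq, Finset.card_union_of_disjoint (Finset.disjoint_left.2 hval)]
            omega
          · obtain ⟨hχs, hw, hor⟩ := mem_filter.1 hχ
            refine (hY χ hχ).2.2 ?_
            have h1 := d.diag χ hχs hw
            have hfn : SQFourier.freeNorm q.setup (d.cols.f χ) = ((4 * q.H : ℕ) : ℂ) - 8 := by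
              by_cases hO : χ ∈ R.Od
              · exact R.Od_norm χ hO hw fun h => hval χ h hO
              · rw [hnorm χ (hor.resolve_right hO), if_neg hO]
                rfl
            rw [hfn] at h1
            apply Int.cast_injective (α := ℂ)
            push_cast at h1 ⊢
            linear_combination h1
        · refine Or.inr (Or.inl ⟨h4, ?_⟩)
          push_neg at hall
          obtain ⟨a, ha, hwa⟩ := hall
          have hsub : Y ⊆ R.Ev := fun χ hχ => by
            obtain ⟨-, hw, hor⟩ := mem_filter.1 hχ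
            exact hor.resolve_right fun h => hwa ((R.Od_eq χ h a ha).2 ▸ hw)
          have := Finset.card_le_card hsub
          omega
      · change q.H = 8 at h8
        refine Or.inr (Or.inl ⟨h4, ?_⟩)
        have h1 := (Finset.card_le_card hYsub).trans (Finset.card_union_le _ _)
        omega
  have hquatH : q.H = 2 → q.quat = true := fun h => by
    by_contra hq
    have h4 : 4 ≤ q.H :=
      le_trans (by norm_num) (Nat.pow_le_pow_right two_pos
        (show 2 ≤ q.n - 2 by have := q.four_le (by simpa using hq); omega))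
    omega
  -- the conclusion
  have hfinal : (q.quat = true → l ≤ 3 ∧ X.card + Y.card + 4 = l + q.H + 2) ∧
      (q.quat = false → l ≤ 3 ∧ X.card ≤ 1 ∧ (l = 3 → X.card = 1) ∧ (l = 1 → X.card = 0) ∧
        Y.card + 1 = q.H) ∧
      (4 ≤ q.H → Y.card + 1 = q.H) := by
    rcases hshape with ⟨h2, hY0⟩ | ⟨h4, hbad⟩ | ⟨h4, hgood, -⟩
    · have hq := hquatH h2
      have hT := hTq hq
      rw [h2] at hii hk ⊢
      refine ⟨fun _ => ⟨by omega, by omega⟩, fun h => absurd h (by simp [hq]), fun h => by omega⟩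
    · exfalso
      obtain ⟨j, hj⟩ : ∃ j, q.H = Y.card + 3 + j := ⟨q.H - (Y.card + 3), by omega⟩
      rcases hq : q.quat with _ | _
      · obtain ⟨hT1, hT2, hlz2⟩ := hTs hq
        have hX1 : 1 ≤ X.card := by omega
        have hb : X.card * q.H + o * q.H ≤ 6 := by
          have hlZ : l + lz + o + q.H = 5 + Y.card + X.card := by omega
          have hlZ' : ((l : ℤ) + lz) = 5 + Y.card + X.card - o - q.H := by omega
          have hii' : 2 * (X.card : ℤ) * q.H + 2 * Y.card ≤ q.H * (l + lz) := by exact_mod_cast hii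
          rw [hlZ'] at hii'
          have hYle : (Y.card : ℤ) ≤ q.H - 3 := by omega
          have hH2' : (0 : ℤ) ≤ q.H - 2 := by omega
          have := mul_le_mul_of_nonneg_left hYle hH2'
          have : ((X.card * q.H + o * q.H : ℕ) : ℤ) ≤ ((6 : ℕ) : ℤ) := by
            push_cast
            linarith
          exact_mod_cast this
        have hH4 : q.H = 4 := by
          have h1 : q.H ≤ X.card * q.H := Nat.le_mul_of_pos_left _ hX1
          rcases Nat.lt_or_ge q.n 5 with hn | hn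
          · have := q.four_le hq
            show 2 ^ (q.n - 2) = 4
            rw [show q.n - 2 = 2 by omega]
            norm_num
          · have : 8 ≤ q.H := le_trans (by norm_num)
              (Nat.pow_le_pow_right two_pos (show 3 ≤ q.n - 2 by omega))
            omega
        rw [hH4] at hb hk ha0 ha0' hbad
        have hX' : X.card = 1 := by omega
        have ho0 : o = 0 := by omega
        have hY1 : Y.card = 1 := by omega
        have hl1' : l = 1 := by omega
        rw [hX', hY1, hl1'] at ha0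
        rw [hX'] at ha0'
        norm_num at ha0 ha0'
        nlinarith
      · have hT := hTq hq
        have hX2 : 2 ≤ X.card := by omega
        have hlZ' : ((l : ℤ) + lz) = 5 + Y.card + X.card - o - q.H := by omega
        have hii' : 2 * (X.card : ℤ) * q.H + 2 * Y.card ≤ q.H * (l + lz) := by exact_mod_cast hii
        rw [hlZ'] at hii'
        have hYle : (Y.card : ℤ) ≤ q.H - 3 := by omega
        have hH2' : (0 : ℤ) ≤ q.H - 2 := by omega
        have := mul_le_mul_of_nonneg_left hYle hH2'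
        have hX2' : (2 : ℤ) ≤ X.card := by omega
        have := mul_le_mul_of_nonneg_right hX2' (by positivity : (0 : ℤ) ≤ q.H)
        have ho0 : (0 : ℤ) ≤ o * q.H := by positivity
        nlinarith
    · have hlZ' : ((l : ℤ) + lz) = 4 + X.card - o := by omega
      have hii' : 2 * (X.card : ℤ) * q.H + 2 * Y.card ≤ q.H * (l + lz) := by exact_mod_cast hii
      rw [hlZ', show (Y.card : ℤ) = q.H - 1 by omega] at hii'
      have hXo : (X.card : ℤ) + o ≤ 2 := by
        by_contra hlt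
        have h3 : (3 : ℤ) ≤ X.card + o := by omega
        have := mul_le_mul_of_nonneg_right h3 (by positivity : (0 : ℤ) ≤ q.H)
        nlinarith
      have hQ : q.quat = true → l ≤ 3 ∧ X.card + Y.card + 4 = l + q.H + 2 := fun hq => by
        have hT := hTq hq
        omega
      refine ⟨hQ, fun hq => ?_, fun _ => hgood⟩
      obtain ⟨hT1, hT2, hlz2⟩ := hTs hq
      have hX1 : X.card ≤ 1 := by
        by_contra hlt
        have hX' : X.card = 2 := by omega
        have hlz' : lz = 2 := by omega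
        rw [hX', hlz'] at hc0
        rw [hX'] at hc0'
        have hY' : (Y.card : ℤ) = q.H - 1 := by omega
        rw [hY'] at hc0
        push_cast at hc0 hc0'
        have hc1 : c0 ≤ 1 := by linarith
        have hH4' : (4 : ℤ) ≤ q.H := by exact_mod_cast h4
        nlinarith
      refine ⟨by omega, hX1, fun h => by omega, fun h => by omega, hgood⟩
  obtain ⟨hfq, hfs, hfy⟩ := hfinal
  have hheight : ∀ χ ∈ s, (χ ∈ W ∧ blockHeight 2 B (χ : G → ℂ) = 0) ∨
      (χ ∈ Y ∧ blockHeight 2 B (χ : G → ℂ) = 1) ∨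
      (χ ∈ X ∧ blockHeight 2 B (χ : G → ℂ) = q.n - 2) := by
    intro χ hχ
    by_cases hw : R.w χ = 0
    · by_cases hor : χ ∈ R.Ev ∨ χ ∈ R.Od
      · have hχY : χ ∈ Y := mem_filter.2 ⟨hχ, hw, hor⟩
        refine Or.inr (Or.inl ⟨hχY, ?_⟩)
        rcases hshape with ⟨-, hY0⟩ | ⟨h4, hbad⟩ | ⟨-, -, hh⟩
        · rw [Finset.card_eq_zero.1 hY0] at hχY
          exact absurd hχY (Finset.notMem_empty _)
        · have := hfy h4
          omega
        · exact hh χ hχY
      · rw [not_or] at hor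
        have hχX : χ ∈ X := mem_filter.2 ⟨hχ, hw, hor⟩
        exact Or.inr (Or.inr ⟨hχX, (hX χ hχX).2.2.1⟩)
    · exact Or.inl ⟨mem_filter.2 ⟨hχ, hw⟩, (d.height_zero χ hχ).2 hw⟩
  refine ⟨hl1, ?_, fun hq => ?_, fun hq => ?_, ?_, fun χ hχ => ?_, fun h4 => ?_⟩
  · rcases hq : q.quat with _ | _
    · exact (hfs hq).1
    · exact (hfq hq).1
  · rw [hcardB, hcards]
    have := (hfq hq).2
    omega
  · obtain ⟨-, h1, h2, h3, h5⟩ := hfs hq
    rw [hcardB, hcards]
    refine ⟨by omega, fun h => ?_, fun h => ?_⟩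
    · have := h2 h; omega
    · have := h3 h; omega
  · rw [hcount, ← hW4]
    congr 1
    refine Finset.filter_congr fun χ hχ => ?_
    exact d.height_zero χ hχ
  · rcases hheight χ ((hs χ).2 hχ) with ⟨-, h⟩ | ⟨-, h⟩ | ⟨-, h⟩
    · exact Or.inl h
    · exact Or.inr (Or.inl h)
    · exact Or.inr (Or.inr h)
  · have hH4 : 4 ≤ q.H :=
      le_trans (by norm_num) (Nat.pow_le_pow_right two_pos (show 2 ≤ q.n - 2 by omega))
    have hY1 := hfy hH4
    rw [hcount, show (s.filter fun χ : IrrCharacter G => blockHeight 2 B (χ : G → ℂ) = 1) = Y from ?_]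
    · omega
    ext χ
    rw [mem_filter]
    constructor
    · rintro ⟨hχ, h1⟩
      rcases hheight χ hχ with ⟨-, h⟩ | ⟨h, -⟩ | ⟨-, h⟩
      · omega
      · exact h
      · omega
    · intro hχY
      obtain ⟨hχ, hw, hor⟩ := mem_filter.1 hχY
      refine ⟨hχ, ?_⟩
      rcases hheight χ hχ with ⟨h, -⟩ | ⟨-, h⟩ | ⟨h, -⟩
      · exact absurd hw (mem_filter.1 h).2
      · exact h
      · obtain ⟨-, -, hE, hO⟩ := mem_filter.1 h
        exact absurd hor (not_or.2 ⟨hE, hO⟩)

end CfsgLib.Blocks
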