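import Cfsg.Agent.Lib.Blocks.SQ.Central

/-!
# The outside subsections seen in the centralizer of the central involution
-/

set_option autoImplicit false
set_option linter.unusedSectionVars false
set_option linter.style.haveILetI false

namespace CfsgLib.Blocks

open Cfsg Chars BlockOrth Finset
open scoped ComplexConjugate

universe u

variable {G : Type u} [Group G] [Fintype G] {M : Ideal AlgInt} [M.IsPrime] [Fact (Nat.Prime 2)]
  {B : Set (IrrCharacter G)} {P : Subgroup G}
  {e : Set (IrrCharacter (Subgroup.centralizer (P : Set G)))}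

/-- The generators inside a subgroup containing `P`. -/
def SQP.restrict (q : SQP P) {K : Subgroup G} (hK : P ≤ K) : SQP (P.subgroupOf K) where
  n := q.n
  quat := q.quat
  x := ⟨q.x, hK q.x_mem⟩
  y := ⟨q.y, hK q.y_mem⟩
  three_le := q.three_le
  four_le := q.four_le
  card_eq := by
    rw [Nat.card_congr (Subgroup.subgroupOfEquivOfLe hK).toEquiv, q.card_eq]
  x_mem := q.x_mem
  y_mem := q.y_mem
  orderOf_x := by rw [Subgroup.orderOf_mk, q.orderOf_x]
  conj_y := Subtype.ext q.conj_y
  y_sq := by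
    apply Subtype.ext
    rw [apply_ite Subtype.val]
    exact q.y_sq
  y_not := by
    rintro ⟨k, hk⟩
    exact q.y_not ⟨k, congrArg Subtype.val hk⟩
  cover := fun g hg => by
    rcases q.cover g hg with ⟨j, hj⟩ | ⟨j, hj⟩
    · exact Or.inl ⟨j, Subtype.ext hj⟩
    · exact Or.inr ⟨j, Subtype.ext hj⟩

/-- Fusion of two elements whose conjugators all lie in `K` is fusion in `K`. -/
theorem pairFus_sub_iff {p : ℕ} [Fact p.Prime] (hpM : (p : AlgInt) ∈ M) (hc : IsBrauerPair p M P e)
    {K : Subgroup G} [Fintype K] (hPK : P ≤ K) (hCP : Subgroup.centralizer (P : Set G) ≤ K)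
    {u v : G} (hu : u ∈ P) (hv : v ∈ P)
    (hCu : Subgroup.centralizer (Subgroup.zpowers u : Set G) ≤ K)
    (hCv : Subgroup.centralizer (Subgroup.zpowers v : Set G) ≤ K)
    (hin : ∀ g : G, g * u * g⁻¹ = v → g ∈ K) :
    PairFus M p (⟨P, e⟩ : BrauerPairIdx G) u v ↔
      PairFus M p (⟨P.subgroupOf K, relBlock hPK hCP e⟩ : BrauerPairIdx K)
        ⟨u, hPK hu⟩ ⟨v, hPK hv⟩ := by
  classical
  have h := card_conj_pairBelow_sub (M := M) hpM hc hPK hCP hu hv hCu hCv hin
  constructor <;> rintro ⟨g, hg⟩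
  · obtain ⟨k, hk⟩ := Finset.card_pos.1
      (h ▸ Finset.card_pos.2 ⟨g, mem_filter.2 ⟨mem_univ g, hg⟩⟩)
    exact ⟨k, (mem_filter.1 hk).2⟩
  · obtain ⟨k, hk⟩ := Finset.card_pos.1
      (h.symm ▸ Finset.card_pos.2 ⟨g, mem_filter.2 ⟨mem_univ g, hg⟩⟩)
    exact ⟨k, (mem_filter.1 hk).2⟩

theorem outCount_eq (M : Ideal AlgInt) [M.IsPrime]
    (e : Set (IrrCharacter (Subgroup.centralizer (P : Set G)))) (q : SQP P)
    [Decidable (OutCand M e q false)] [Decidable (OutCand M e q true)] :
    outCount M e q =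
      (if OutCand M e q false then 1 else 0) + if OutCand M e q true then 1 else 0 := by
  classical
  rw [outCount, Nat.card_eq_fintype_card, Fintype.card_subtype,
    show (univ : Finset Bool) = {false, true} by decide, Finset.filter_insert,
    Finset.filter_singleton]
  split_ifs <;> simp

/-- The outside subsections and the rank at `z`. -/
theorem outCount_add_rank (hM : IsPModular 2 M) (hmax : IsMaximalBrauerPair 2 M B P e) (q : SQP P)
    {bz : Set (IrrCharacter (Subgroup.centralizer (Subgroup.zpowers q.z : Set G)))}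
    (hbz : pairBelow 2 M (⟨P, e⟩ : BrauerPairIdx G) q.z = pairAt q.z bz) :
    (q.quat = true → outCount M e q + blockRank 2 bz = 3) ∧
      (q.quat = false → 2 ≤ outCount M e q + blockRank 2 bz ∧
        outCount M e q + blockRank 2 bz ≤ 3 ∧ blockRank 2 bz ≤ 2) := by
  classical
  have hle : Below 2 M (pairAt q.z bz) ⟨P, e⟩ :=
    hbz ▸ pairBelow_below (c := (⟨P, e⟩ : BrauerPairIdx G)) hM.2.2 hmax.1.1 q.z_mem
  set K := Subgroup.centralizer (Subgroup.zpowers q.z : Set G) with hKdef
  haveI : Fintype K := Fintype.ofFinite _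
  have hpM : ((2 : ℕ) : AlgInt) ∈ M := hM.2.2
  have hc : IsBrauerPair 2 M P e := hmax.1.1
  have hH := mem_centralizer_zpowers_iff q.z
  have hPK : P ≤ K := fun g hg => (hH g).2 (q.commute_z hg).eq.symm
  have hCP : Subgroup.centralizer (P : Set G) ≤ K :=
    centralizer_antitone (Subgroup.zpowers_le.2 q.z_mem)
  have hmaxK := maximal_at_central hpM hmax q.z_mem hPK hCP hle
  set qK := q.restrict hPK with hqK
  have hzK : qK.z ∈ Subgroup.center K :=
    Subgroup.mem_center_iff.2 fun g => Subtype.ext ((hH g).1 g.2)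
  have hcentral := outCount_add_rank_central hM hmaxK qK hzK
  -- centralizers and conjugators of the square roots of `z`
  have hC : ∀ u : G, u * u = q.z → Subgroup.centralizer (Subgroup.zpowers u : Set G) ≤ K :=
    fun u hu => centralizer_antitone (Subgroup.zpowers_le.2
      (hu ▸ mul_mem (Subgroup.mem_zpowers u) (Subgroup.mem_zpowers u)))
  have hin : ∀ u v : G, u * u = q.z → v * v = q.z → ∀ g : G, g * u * g⁻¹ = v → g ∈ K := by
    intro u v hu hv g hg
    refine (hH g).2 (mul_inv_eq_iff_eq_mul.1 ?_)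
    calc g * q.z * g⁻¹ = g * u * g⁻¹ * (g * u * g⁻¹) := by rw [← hu]; group
      _ = q.z := by rw [hg, hv]
  have hiff : ∀ (u v : G) (hu : u ∈ P) (hv : v ∈ P), u * u = q.z → v * v = q.z →
      (PairFus M 2 (⟨P, e⟩ : BrauerPairIdx G) u v ↔
        PairFus M 2 (⟨P.subgroupOf K, relBlock hPK hCP e⟩ : BrauerPairIdx K)
          ⟨u, hPK hu⟩ ⟨v, hPK hv⟩) := fun u v hu hv hu2 hv2 =>
    pairFus_sub_iff hpM hc hPK hCP hu hv (hC u hu2) (hC v hv2) (hin u v hu2 hv2)
  have hiK : qK.i = ⟨q.i, hPK q.i_mem⟩ := Subtype.ext (by rfl)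
  have hxyK : qK.x * qK.y = ⟨q.x * q.y, hPK (xy_mem q)⟩ := rfl
  rw [outCount_eq] at hcentral
  rw [outCount_eq]
  rcases hq : q.quat with _ | _
  · refine ⟨fun h => absurd h (by simp), fun _ => ?_⟩
    have hy2 : orderOf q.y = 2 := by rw [orderOf_y q, if_neg (by simp [hq])]
    have hno : OutCand M (relBlock hPK hCP e) qK false := by
      show ¬ PairFus M 2 _ qK.y qK.base
      rw [SQP.base, show qK.quat = false from hq, if_neg (by simp)]
      rintro ⟨g, hg, -⟩
      have h1 : qK.y = qK.z := by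
        calc qK.y = g⁻¹ * (g * qK.y * g⁻¹) * g := by group
          _ = qK.z := by rw [hg, mul_assoc, ← Subgroup.mem_center_iff.1 hzK g, inv_mul_cancel_left]
      exact qK.y_not (h1 ▸ qK.z_mem_zpowers)
    have ha2 : OutCand M (relBlock hPK hCP e) qK true ↔ OutCand M e q true := by
      have hxy : ∀ {H' : Type u} [Group H'] [Fintype H'] {P' : Subgroup H'} (q' : SQP P'),
          q'.quat = false → ∀ (e' : Set (IrrCharacter (Subgroup.centralizer (P' : Set H')))),
          ¬ PairFus M 2 (⟨P', e'⟩ : BrauerPairIdx H') (q'.x * q'.y) q'.y := by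
        intro H' _ _ P' q' hq' e' h
        have h1 := h.orderOf_eq
        rw [orderOf_xy q', orderOf_y q', if_neg (by simp [hq'])] at h1
        omega
      show (_ ∧ _) ↔ (_ ∧ _)
      rw [and_iff_left (hxy qK hq _), and_iff_left (hxy q hq _), hxyK, hiK]
      exact not_congr (hiff _ _ (xy_mem q) q.i_mem (sq_xy q) q.i_sq).symm
    rw [if_pos hno, if_congr ha2 rfl rfl] at hcentral
    split_ifs at hcentral ⊢ <;> omega
  · refine ⟨fun _ => ?_, fun h => absurd h (by simp)⟩
    have hy2 : q.y * q.y = q.z := by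
      have h := q.sq_outside_quat hq 0
      rwa [pow_zero, one_mul] at h
    have ha1 : OutCand M (relBlock hPK hCP e) qK false ↔ OutCand M e q false := by
      show ¬ PairFus M 2 _ qK.y qK.base ↔ ¬ PairFus M 2 _ q.y q.base
      rw [SQP.base, SQP.base, show qK.quat = true from hq, hq, if_pos rfl, if_pos rfl]
      show ¬ PairFus M 2 _ ⟨q.y, hPK q.y_mem⟩ qK.i ↔ ¬ PairFus M 2 _ q.y q.i
      rw [hiK]
      exact not_congr (hiff _ _ q.y_mem q.i_mem hy2 q.i_sq).symm
    have ha2 : OutCand M (relBlock hPK hCP e) qK true ↔ OutCand M e q true := by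
      show (_ ∧ _) ↔ (_ ∧ _)
      rw [hxyK, hiK]
      exact and_congr (not_congr (hiff _ _ (xy_mem q) q.i_mem (sq_xy q) q.i_sq).symm)
        (not_congr (hiff _ _ (xy_mem q) q.y_mem (sq_xy q) hy2).symm)
    rw [if_congr ha1 rfl rfl, if_congr ha2 rfl rfl] at hcentral
    exact hcentral

end CfsgLib.Blocks
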